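import Cfsg.Agent.TwoESix.SheetMain
import Cfsg.Agent.TwoESix.SheetMM
import Cfsg.Agent.KFacts.InnerCaseM
import Cfsg.Agent.OddHalf.D8.Final
import Cfsg.Agent.OddHalf.D7.Cases

/-!
# Node D7: `K = ²E₆(2)` (helper883, helper924)

`factsE`: the sheets of `²E₆(2)`; `node_two`: the row of `²E₆(2)` modulo case (M) (`NoCompM`);
`node_of`: the row `Fam2E6` from the groups over larger fields.
-/

set_option autoImplicit false

namespace Cfsg.Agent.OddHalf.D7Tw.QTwo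

open Cfsg Cfsg.Agent.OddHalf.Iface Cfsg.Agent.OddHalf.D7.Cases Cfsg.Agent.OddHalf.D8.Final

universe u

/-- `X ≅ ²E₆(2)`. -/
def Fam2E6Two (X : Type u) [Group X] : Prop :=
  ∃ (F : Type) (_ : Field F) (_ : Fintype F), Fintype.card F = 4 ∧ Nonempty (X ≃* ↥(Lie.twistedE6 F 2))

/-- `X ≅ ²E₆(2^a)`, `a ≥ 2`. -/
def Fam2E6Big (X : Type u) [Group X] : Prop :=
  ∃ (F : Type) (_ : Field F) (_ : Fintype F) (a : ℕ), 2 ≤ a ∧ Fintype.card F = 4 ^ a ∧
    Nonempty (X ≃* ↥(Lie.twistedE6 F (2 ^ a)))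

/-- **The sheets of `²E₆(2)`.** -/
theorem factsE : FactsE.{u} (fun K _ => Fam2E6Two K) := by
  rintro K _ - ⟨F', _, _, hF, ⟨e⟩⟩
  obtain ⟨-, φ, F⟩ := Cfsg.Agent.TwoESix.LeviA.exists_four F' hF
  exact ⟨_, _, _, D8.SheetMap.sheetE_map e.symm (Cfsg.Agent.TwoESix.SheetMain.sheet F),
    KFacts.InnerCaseM.sheetM_map e.symm (Cfsg.Agent.TwoESix.SheetMM.sheetM F (Cfsg.Agent.TwoESix.SheetMain.sheet F))⟩

/-- **The row of `²E₆(2)`.** -/
theorem node_two (hM : NoCompM.{u}) : Node.{u} @Fam2E6Two.{u} := rowE hM factsE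

/-- The row of the groups `²E₆(q)` from the groups with `q ≥ 4`. -/
theorem node_of (hM : NoCompM.{u}) (h : Node.{u} @Fam2E6Big.{u}) : Node.{u} @Fam2E6.{u} := by
  rintro G _ C K S c ⟨F, _, _, a, ha, hF, he⟩
  rcases Nat.lt_or_ge a 2 with h2 | h2
  · have h1 : a = 1 := by omega
    subst h1
    rw [pow_one] at hF he
    exact node_two hM G C K S c ⟨F, _, _, hF, he⟩
  · exact h G C K S c ⟨F, _, _, a, h2, hF, he⟩

end Cfsg.Agent.OddHalf.D7Tw.QTwo
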