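import Cfsg.Agent.OddHalf.D7Tw.Node
import Cfsg.Agent.OddHalf.D7Tw.QTwo

/-!
# Node D7, row `²E₆(2^a)`, all `a ≥ 1` (helper53)
-/

set_option autoImplicit false

namespace Cfsg.Agent.OddHalf.D7Tw.Row

open Cfsg

universe u

/-- **the row `²E₆(q)`, `q` even, of node D7** -/
theorem te6 (hM : D8.Final.NoCompM.{u})
    (hSch : Cfsg.Agent.Schreier.Cases.SchFor.{u} @IsKnownSimple')
    (hGW : SylowSp4.Hyps.GW.{u}) (hI : Iface.Intr.{u}) (hIN : IntrNon.{u}) (hMV : MultV.{u})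
    (hNI : CaseM.NI.{u}) : D7.Cases.Node.{u} @D7.Cases.Fam2E6.{u} :=
  QTwo.node_of hM (Node.node_big hSch hGW hI hIN hMV hNI)

end Cfsg.Agent.OddHalf.D7Tw.Row
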