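import Cfsg.Agent.KFacts.TwESix.Comb
import Cfsg.Agent.OddHalf.SL.Defs

/-!
# The long roots of `F₄` as the simply laced system `D₄` (helper622)

* `c : (Fin 4 → ℤ) →+ (Fin 4 → ℤ)` : from the coordinates `e₁,…,e₄` to the simple roots of `Nodes.RGDTwE6`
  (`e₁ + e₂ ↦ rho`), injective;
* `B` : the dot product, `bf_c : bf (c x) (c y) = 2 B x y`; `lg` : the 24 vectors `± eᵢ ± eⱼ`; `Phi`;
* `roots : Roots B Phi`; `mem_phi : x ∈ Phi ↔ IsRoot (c x) ∧ bf (c x) (c x) = 4`; `exists_phi`;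
* `orth`, `three`, `exists_one` : neighbours.
-/

set_option autoImplicit false

namespace Cfsg.Agent.OddHalf.D7Tw.DFour

open CoxeterSystem Cfsg.Agent.ChevalleyStructure.CoxeterGeom Cfsg.Agent.Tits.Roots Cfsg.Agent.Tits.Core
  Cfsg.Agent.Tits.RootComb Cfsg.Agent.Nodes.Reps Cfsg.Agent.Nodes.BNOf Cfsg.Agent.Nodes.Coroot
  Cfsg.Agent.KFacts.RgdSL Cfsg.Agent.Nodes.RGDTwE6 Cfsg.Agent.KFacts.TwESix.Comb
  Cfsg.Agent.OddHalf.SL.Defs

/-- the dot product -/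
def B (x y : Fin 4 → ℤ) : ℤ := x 0 * y 0 + x 1 * y 1 + x 2 * y 2 + x 3 * y 3

/-- the vectors `± eᵢ ± eⱼ` -/
def lg : List (Fin 4 → ℤ) :=
  [![1, 1, 0, 0], ![1, -1, 0, 0], ![-1, 1, 0, 0], ![-1, -1, 0, 0],
   ![1, 0, 1, 0], ![1, 0, -1, 0], ![-1, 0, 1, 0], ![-1, 0, -1, 0],
   ![1, 0, 0, 1], ![1, 0, 0, -1], ![-1, 0, 0, 1], ![-1, 0, 0, -1],
   ![0, 1, 1, 0], ![0, 1, -1, 0], ![0, -1, 1, 0], ![0, -1, -1, 0],
   ![0, 1, 0, 1], ![0, 1, 0, -1], ![0, -1, 0, 1], ![0, -1, 0, -1],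
   ![0, 0, 1, 1], ![0, 0, 1, -1], ![0, 0, -1, 1], ![0, 0, -1, -1]]

/-- the roots -/
def Phi : Set (Fin 4 → ℤ) := {x | x ∈ lg}

/-- the coordinates with respect to the simple roots of `F₄` -/
def c : (Fin 4 → ℤ) →+ (Fin 4 → ℤ) where
  toFun x := ![x 0 + x 1, 2 * x 0 + x 1 + x 2, 3 * x 0 + x 1 + x 2 + x 3, 2 * x 0]
  map_zero' := by
    ext i; fin_cases i <;> simp
  map_add' x y := by
    ext i; fin_cases i <;> simp <;> ring

theorem c_apply (x : Fin 4 → ℤ) : c x = ![x 0 + x 1, 2 * x 0 + x 1 + x 2, 3 * x 0 + x 1 + x 2 + x 3, 2 * x 0] := rfl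

theorem c_inj {x y : Fin 4 → ℤ} (h : c x = c y) : x = y := by
  rw [c_apply, c_apply] at h
  have h0 := congrFun h 0
  have h1 := congrFun h 1
  have h2 := congrFun h 2
  have h3 := congrFun h 3
  simp only [Matrix.cons_val_zero, Matrix.cons_val_one, Matrix.cons_val] at h0 h1 h2 h3
  funext i
  fin_cases i
  · show x 0 = y 0; omega
  · show x 1 = y 1; omega
  · show x 2 = y 2; omega
  · show x 3 = y 3; omega

theorem bf_c (x y : Fin 4 → ℤ) : bf (c x) (c y) = 2 * B x y := by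
  rw [c_apply, c_apply]
  unfold bf B
  simp only [Matrix.cons_val_zero, Matrix.cons_val_one, Matrix.cons_val]
  ring

theorem B_symm (x y : Fin 4 → ℤ) : B x y = B y x := by unfold B; ring

theorem B_add_left (x y z : Fin 4 → ℤ) : B (x + y) z = B x z + B y z := by
  simp only [B, Pi.add_apply]; ring

theorem lg_two : ∀ a ∈ lg, B a a = 2 := by decide +kernel

theorem lg_neg : ∀ a ∈ lg, -a ∈ lg := by decide +kernel

theorem lg_le : ∀ a ∈ lg, ∀ b ∈ lg, B a b ≤ 2 := by decide +kernel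

theorem lg_eq : ∀ a ∈ lg, ∀ b ∈ lg, B a b = 2 → a = b := by decide +kernel

theorem lg_add : ∀ a ∈ lg, ∀ b ∈ lg, B a b = -1 → a + b ∈ lg := by decide +kernel

theorem roots : Roots B Phi where
  fin := List.finite_toSet lg
  symm := B_symm
  add_left := B_add_left
  two := lg_two
  neg_mem := lg_neg
  le := lg_le
  eq := lg_eq
  add := lg_add

theorem lg_rts : ∀ a ∈ lg, c a ∈ rts ∧ bf (c a) (c a) = 4 := by decide +kernel

theorem rts_lg : ∀ z ∈ rts, bf z z = 4 → ∃ a ∈ lg, c a = z := by decide +kernel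

theorem lg_orth : ∀ r ∈ lg, ∀ s ∈ lg, B r s = 0 → ∃ a ∈ lg, B a r = 1 ∧ B a s = -1 := by decide +kernel

theorem lg_three : ∀ r ∈ lg, ∀ s ∈ lg, B r s = 1 → ∃ m ∈ lg, B m r = 1 ∧ B m s = 1 := by decide +kernel

theorem lg_one : ∀ r ∈ lg, ∃ s ∈ lg, B r s = 1 := by decide +kernel

variable {W : Type*} [Group W] (cs : CoxeterSystem CoxeterMatrix.F₄ W)

theorem mem_phi {x : Fin 4 → ℤ} : x ∈ Phi ↔ IsRoot cs isCartan (c x) ∧ bf (c x) (c x) = 4 := by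
  constructor
  · intro hx
    exact ⟨(mem_rts cs).2 (lg_rts x hx).1, (lg_rts x hx).2⟩
  · rintro ⟨h1, h2⟩
    obtain ⟨a, ha, e⟩ := rts_lg _ ((mem_rts cs).1 h1) h2
    rw [← c_inj e]
    exact ha

theorem root {x : Fin 4 → ℤ} (hx : x ∈ Phi) : IsRoot cs isCartan (c x) := ((mem_phi cs).1 hx).1

theorem long {x : Fin 4 → ℤ} (hx : x ∈ Phi) : bf (c x) (c x) = 4 := (lg_rts x hx).2

theorem exists_phi {z : Fin 4 → ℤ} (hz : IsRoot cs isCartan z) (hl : bf z z = 4) : ∃ x ∈ Phi, c x = z :=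
  rts_lg z ((mem_rts cs).1 hz) hl

theorem c_rho : c ![1, 1, 0, 0] = rho := by decide +kernel

/-- `⟨x, (c y)^∨⟩ = bf x (c y) / 2` -/
theorem cpr_c (x : Fin 4 → ℤ) {y : Fin 4 → ℤ} (hy : y ∈ Phi) : 2 * cpr cs isCartan x (c y) = bf x (c y) :=
  cpr_long cs x (root cs hy) (long hy)

theorem cpr_cc (x : Fin 4 → ℤ) {y : Fin 4 → ℤ} (hy : y ∈ Phi) : cpr cs isCartan (c x) (c y) = B x y := by
  have h1 := cpr_c cs (c x) hy
  rw [bf_c] at h1
  omega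

theorem a2_of {x y : Fin 4 → ℤ} (hx : x ∈ Phi) (hy : y ∈ Phi) (hxy : B x y = -1) :
    A2 cs isCartan (c x) (c y) := by
  refine a2 cs (root cs hx) (root cs hy) (by rw [long hx, long hy]) ?_
  rw [bf_c, hxy, long hx]; norm_num

end Cfsg.Agent.OddHalf.D7Tw.DFour
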