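import Cfsg.Agent.OddHalf.SL.Defs

/-!
# THEOREM H for `K = ²E₆(q)`: the hypotheses (helper756; text: bb ODD 8710, 9297, 9445)

`Φ` = the long roots (a simply laced root system), `X r` the long root groups of `K`, `W r` the doubled ones
(`SL.Defs.Dbl`), `ρ ∈ Φ`, `Z = X ρ`, `P = C_K(Z)^∞`, `Q = O₂(P)`.

* `Base`: the facts which do not speak about centralisers in `G`.
* `Cen`: the facts on `C_G(t) ∩ C_G(z)`, `z ∈ X ρ`, `z ≠ 1`.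
* `Tor`: the elements of the torus used in (7).
-/

set_option autoImplicit false

namespace Cfsg.Agent.OddHalf.D7Tw

open Subgroup

variable {L : Type*} [AddCommGroup L] {G : Type*} [Group G]

/-- `k A k⁻¹ = A'` -/
def Cj (k : G) (A A' : Subgroup G) : Prop := ∀ x, x ∈ A ↔ k * x * k⁻¹ ∈ A'

/-- the facts which do not speak about centralisers in `G` -/
structure Base (t : G) (K : Subgroup G) (B : L → L → ℤ) (Φ : Set L) (X W : L → Subgroup G) (ρ : L)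
    (P Q : Subgroup G) : Prop where
  roots : SL.Defs.Roots B Φ
  dbl : SL.Defs.Dbl t B Φ X W
  hρ : ρ ∈ Φ
  /-- root combinatorics -/
  ex0 : ∃ s ∈ Φ, B s ρ = 0
  ex1 : ∃ s ∈ Φ, B s ρ = 1
  ex01 : ∀ s ∈ Φ, B s ρ = 1 → ∃ s' ∈ Φ, B s' ρ = 0 ∧ B s s' = 1
  Kt : ∀ k ∈ K, k * t = t * k
  tK : t ∉ K
  XK : ∀ r ∈ Φ, X r ≤ K
  Xne : ∀ r ∈ Φ, X r ≠ ⊥
  card : ∀ r ∈ Φ, Nat.card (X r) = Nat.card (X ρ)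
  /-- `[X_r, y] = X_{r+s}` for `1 ≠ y ∈ X_s`, `(r, s) = -1` -/
  Xsurj : ∀ r ∈ Φ, ∀ s ∈ Φ, B r s = -1 → ∀ y ∈ X s, y ≠ 1 → ∀ c ∈ X (r + s), ∃ x ∈ X r, x * y * x⁻¹ * y⁻¹ = c
  /-- `P` and `Q` -/
  PK : P ≤ K
  perf : ⁅P, P⁆ = P
  QP : Q ≤ P
  Q2 : IsPGroup 2 Q
  Qn : ∀ p ∈ P, ∀ y ∈ Q, p * y * p⁻¹ ∈ Q
  QQ : ⁅Q, Q⁆ ≤ X ρ
  ZQ : ∀ x ∈ Q, (∀ y ∈ Q, x * y = y * x) → x ∈ X ρ
  XQ : ∀ s ∈ Φ, 1 ≤ B s ρ → X s ≤ Q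
  XP : ∀ s ∈ Φ, 0 ≤ B s ρ → X s ≤ P
  XnQ : ∀ s ∈ Φ, B s ρ = 0 → ∀ x ∈ X s, x ∈ Q → x = 1
  /-- `P` is generated by conjugates of long root elements -/
  Pgen : P ≤ closure {c | ∃ p ∈ P, ∃ s ∈ Φ, 0 ≤ B s ρ ∧ ∃ x ∈ X s, c = p * x * p⁻¹}
  /-- `Q` is generated by the long root groups contained in it -/
  Qgen : Q ≤ X ρ ⊔ closure {c | ∃ p ∈ P, ∃ s ∈ Φ, B s ρ = 1 ∧ ∃ x ∈ X s, c = p * x * p⁻¹}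
  /-- two long root groups in `Q` are conjugate to two root groups `X r₁`, `X r₂` with `(r₁, r₂) ≥ -1` -/
  pair : ∀ p₁ ∈ P, ∀ p₂ ∈ P, ∀ s₁ ∈ Φ, ∀ s₂ ∈ Φ, B s₁ ρ = 1 → B s₂ ρ = 1 → ∃ k ∈ K, ∃ r₁ ∈ Φ, ∃ r₂ ∈ Φ,
    -1 ≤ B r₁ r₂ ∧ Cj (k * p₁) (X s₁) (X r₁) ∧ Cj (k * p₂) (X s₂) (X r₂)
  /-- every perfect normal subgroup of `P` contains `Q` -/
  nrm : ∀ N ≤ P, ⁅N, N⁆ = N → N ≠ ⊥ → (∀ p ∈ P, ∀ n ∈ N, p * n * p⁻¹ ∈ N) → Q ≤ N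
  /-- `P` centralises `W ρ` -/
  WP : ∀ w ∈ W ρ, ∀ p ∈ P, w * p = p * w
  /-- `W r` is determined by `X r` -/
  Wcan : ∀ r ∈ Φ, ∀ s ∈ Φ, ∀ k ∈ K, Cj k (X r) (X s) → Cj k (W r) (W s)

/-- the facts on `C_G(t) ∩ C_G(z)` -/
structure Cen (t z : G) (Z P Q : Subgroup G) : Prop where
  /-- `P` is the largest perfect subgroup -/
  top : ∀ D : Subgroup G, ⁅D, D⁆ = D → (∀ d ∈ D, d * t = t * d) → (∀ d ∈ D, d * z = z * d) → D ≤ P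
  norQ : ∀ c, c * t = t * c → c * z = z * c → ∀ y ∈ Q, c * y * c⁻¹ ∈ Q
  cenQ : ∀ c, c * t = t * c → c * z = z * c → (∀ y ∈ Q, c * y = y * c) → c ∈ Z ∨ t * c ∈ Z
  /-- `O₂ ≤ ⟨t⟩ × Q` -/
  core : ∀ N : Subgroup G, (∀ x ∈ N, x * t = t * x) → (∀ x ∈ N, x * z = z * x) → IsPGroup 2 N →
    (∀ c, c * t = t * c → c * z = z * c → ∀ x ∈ N, c * x * c⁻¹ ∈ N) → ∀ x ∈ N, x ∈ Q ∨ t * x ∈ Q
  irr : ∀ N : Subgroup G, N ≤ Q → (∀ c, c * t = t * c → c * z = z * c → ∀ x ∈ N, c * x * c⁻¹ ∈ N) →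
    N ≤ Z ∨ N = Q

end Cfsg.Agent.OddHalf.D7Tw
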