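import Cfsg.Agent.OddHalf.SL.PreOf
import Cfsg.Agent.KFacts.RgdTI

/-!
# Doubled root groups along one orbit of roots (helper622; model: helper194's `SL.Base0`)

`R : RGD cs h p T n X`, any type; `r₀` a root. `O r₀` : the orbit of `r₀` under the Weyl group (one root length).

* `BaseO` : the doubled root group at `r₀`; `YO` : the doubled root groups `V r`, `r ∈ O r₀`, centralised by ALL `X a` with
  `⟨a, r^∨⟩ ≥ 0`;
* `BaseO.yO` : transport; `YO.tri` : `g V_s g⁻¹ = k V_r k⁻¹`.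
-/

set_option autoImplicit false
set_option linter.unusedSectionVars false

namespace Cfsg.Agent.OddHalf.D7Tw.Orbit

open CoxeterSystem Cfsg.Agent.ChevalleyStructure.CoxeterGeom Cfsg.Agent.Tits.Roots Cfsg.Agent.Tits.Core
  Cfsg.Agent.Tits.RootComb Cfsg.Agent.Nodes.Comb Cfsg.Agent.Nodes.Reps Cfsg.Agent.Nodes.BNOf
  Cfsg.Agent.Nodes.SubComb Cfsg.Agent.Nodes.Coroot Cfsg.Agent.Nodes.Unique
  Cfsg.Agent.KFacts.RgdSL Cfsg.Agent.KFacts.RgdTI
open scoped commutatorElement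

variable {I W G : Type*} [Fintype I] [DecidableEq I] [Group W] [Group G] {M : CoxeterMatrix I}
  {cs : CoxeterSystem M W} {A : I → I → ℤ} {h : IsCartan M A} {p : ℕ} {T : Subgroup G} {n : I → G}
  {X : (I → ℤ) → Subgroup G}

/-- The orbit of `r₀`. -/
def O (cs : CoxeterSystem M W) (h : IsCartan M A) (r₀ : I → ℤ) : Set (I → ℤ) := {r | ∃ w, rep cs h w r₀ = r}

theorem self_mem (r₀ : I → ℤ) : r₀ ∈ O cs h r₀ := ⟨1, by rw [map_one, Module.End.one_apply]⟩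

theorem act_mem {r₀ r : I → ℤ} (hr : r ∈ O cs h r₀) (w : W) : rep cs h w r ∈ O cs h r₀ := by
  obtain ⟨w', rfl⟩ := hr
  exact ⟨w * w', rep_mul_apply cs h w w' r₀⟩

theorem root_of {r₀ r : I → ℤ} (h0 : IsRoot cs h r₀) (hr : r ∈ O cs h r₀) : IsRoot cs h r := by
  obtain ⟨w, rfl⟩ := hr
  exact h0.act w

/-- The doubled root groups of one orbit of roots. -/
structure YO (R : RGD cs h p T n X) (t : G) (r₀ : I → ℤ) (V : (I → ℤ) → Subgroup G) : Prop where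
  XW : ∀ r ∈ O cs h r₀, X r ≤ V r
  sq : ∀ r ∈ O cs h r₀, ∀ w ∈ V r, w * w ∈ X r
  brk : ∀ r ∈ O cs h r₀, ∀ w ∈ V r, w⁻¹ * (t * w * t) ∈ X r
  cent : ∀ r ∈ O cs h r₀, ∀ w ∈ V r, t * w = w * t → w ∈ X r
  surj : ∀ r ∈ O cs h r₀, ∀ x ∈ X r, ∃ w ∈ V r, w⁻¹ * (t * w * t) = x
  WX : ∀ r ∈ O cs h r₀, ∀ a, IsRoot cs h a → 0 ≤ cpr cs h a r → ∀ w ∈ V r, ∀ x ∈ X a, w * x = x * w
  eqv : ∀ w k, Rp cs R.nsys w k → ∀ r ∈ O cs h r₀, ∀ v ∈ V r, k * v * k⁻¹ ∈ V (rep cs h w r)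

/-- The doubled root group at one root. -/
structure BaseO (R : RGD cs h p T n X) (t : G) (r₀ : I → ℤ) (V₀ : Subgroup G) : Prop where
  root : IsRoot cs h r₀
  XW : X r₀ ≤ V₀
  sq : ∀ w ∈ V₀, w * w ∈ X r₀
  brk : ∀ w ∈ V₀, w⁻¹ * (t * w * t) ∈ X r₀
  cent : ∀ w ∈ V₀, t * w = w * t → w ∈ X r₀
  surj : ∀ x ∈ X r₀, ∃ w ∈ V₀, w⁻¹ * (t * w * t) = x
  WX : ∀ a, IsRoot cs h a → 0 ≤ cpr cs h a r₀ → ∀ w ∈ V₀, ∀ x ∈ X a, w * x = x * w
  nrm : ∀ w k, Rp cs R.nsys w k → rep cs h w r₀ = r₀ → ∀ v ∈ V₀, k * v * k⁻¹ ∈ V₀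
  tN : ∀ w k, Rp cs R.nsys w k → t * k = k * t

/-- The transported groups. -/
def Wf (R : RGD cs h p T n X) (r₀ : I → ℤ) (V₀ : Subgroup G) (r : I → ℤ) : Subgroup G :=
  SL.PreOf.Wf R r₀ V₀ r

namespace BaseO

variable {R : RGD cs h p T n X} {t : G} {r₀ : I → ℤ} {V₀ : Subgroup G} (D : BaseO R t r₀ V₀)

include D

theorem wf_eq {w : W} {k : G} (hk : Rp cs R.nsys w k) : Wf R r₀ V₀ (rep cs h w r₀) = cj k V₀ := by
  apply le_antisymm
  · refine iSup_le ?_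
    rintro ⟨⟨w', k'⟩, hk', hr⟩
    intro v hv
    rw [mem_cj] at hv ⊢
    have h1 : rep cs h (w⁻¹ * w') r₀ = r₀ := by
      rw [rep_mul_apply]
      show rep cs h w⁻¹ (rep cs h w' r₀) = r₀
      rw [hr, rep_inv_apply]
    have h2 := D.nrm _ _ (hk.inv.mul hk') h1 _ hv
    have e : k⁻¹ * k' * (k'⁻¹ * v * k') * (k⁻¹ * k')⁻¹ = k⁻¹ * v * k := by group
    rwa [e] at h2
  · exact le_iSup (fun q : {q : W × G // Rp cs R.nsys q.1 q.2 ∧ rep cs h q.1 r₀ = rep cs h w r₀} =>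
      cj q.1.2 V₀) ⟨(w, k), hk, rfl⟩

theorem yO [Finite W] : YO R t r₀ (Wf R r₀ V₀) := by
  -- every root group of the orbit is the conjugate of the base
  have key : ∀ r ∈ O cs h r₀, ∃ w k, Rp cs R.nsys w k ∧ rep cs h w r₀ = r ∧ Wf R r₀ V₀ r = cj k V₀ ∧
      X r = cj k (X r₀) := by
    rintro r ⟨w, rfl⟩
    obtain ⟨k, hk⟩ := exists_rp cs R.nsys w
    exact ⟨w, k, hk, rfl, D.wf_eq hk, (R.conj_rp hk D.root).symm⟩
  constructor
  · intro r hr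
    obtain ⟨w, k, hk, -, e1, e2⟩ := key r hr
    rw [e1, e2]
    exact cj_mono k D.XW
  · intro r hr v hv
    obtain ⟨w, k, hk, -, e1, e2⟩ := key r hr
    rw [e1, mem_cj] at hv
    rw [e2, mem_cj]
    have h1 := D.sq _ hv
    have e3 : k⁻¹ * (v * v) * k = (k⁻¹ * v * k) * (k⁻¹ * v * k) := by group
    rwa [e3]
  · intro r hr v hv
    obtain ⟨w, k, hk, -, e1, e2⟩ := key r hr
    rw [e1, mem_cj] at hv
    rw [e2, mem_cj]
    have h1 := D.brk _ hv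
    have h2 := D.tN w k hk
    have h3 : t * k⁻¹ = k⁻¹ * t := D.tN w⁻¹ k⁻¹ hk.inv
    have e3 : (k⁻¹ * v * k)⁻¹ * (t * (k⁻¹ * v * k) * t) = k⁻¹ * (v⁻¹ * (t * v * t)) * k := by
      calc (k⁻¹ * v * k)⁻¹ * (t * (k⁻¹ * v * k) * t) = k⁻¹ * v⁻¹ * k * ((t * k⁻¹) * v * (k * t)) := by group
        _ = k⁻¹ * v⁻¹ * k * ((k⁻¹ * t) * v * (t * k)) := by rw [h3, h2]
        _ = k⁻¹ * (v⁻¹ * (t * v * t)) * k := by group
    rwa [e3] at h1
  · intro r hr v hv htv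
    obtain ⟨w, k, hk, -, e1, e2⟩ := key r hr
    rw [e1, mem_cj] at hv
    rw [e2, mem_cj]
    apply D.cent _ hv
    have h2 := D.tN w k hk
    have h3 : t * k⁻¹ = k⁻¹ * t := D.tN w⁻¹ k⁻¹ hk.inv
    calc t * (k⁻¹ * v * k) = (t * k⁻¹) * v * k := by group
      _ = k⁻¹ * (t * v) * k := by rw [h3]; group
      _ = k⁻¹ * v * (t * k) := by rw [htv]; group
      _ = k⁻¹ * v * k * t := by rw [h2]; group
  · intro r hr x hx
    obtain ⟨w, k, hk, -, e1, e2⟩ := key r hr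
    rw [e2, mem_cj] at hx
    obtain ⟨v, hv, e⟩ := D.surj _ hx
    refine ⟨k * v * k⁻¹, by rw [e1]; exact conj_mem_cj.2 hv, ?_⟩
    have h2 := D.tN w k hk
    have h3 : t * k⁻¹ = k⁻¹ * t := D.tN w⁻¹ k⁻¹ hk.inv
    calc (k * v * k⁻¹)⁻¹ * (t * (k * v * k⁻¹) * t) = k * v⁻¹ * k⁻¹ * ((t * k) * v * (k⁻¹ * t)) := by group
      _ = k * v⁻¹ * k⁻¹ * ((k * t) * v * (t * k⁻¹)) := by rw [h2, h3]
      _ = k * (v⁻¹ * (t * v * t)) * k⁻¹ := by group
      _ = x := by rw [e]; group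
  · intro r hr a ha h0 v hv x hx
    obtain ⟨w, k, hk, e0, e1, e2⟩ := key r hr
    rw [e1, mem_cj] at hv
    have h1 := R.conj_mem' hk ha hx
    have h2 := D.WX (rep cs h w⁻¹ a) (ha.act _) (by
      rw [cpr_rep_left w⁻¹ a D.root, inv_inv, e0]
      exact h0) _ hv _ h1
    have e3 : v * x = k * ((k⁻¹ * v * k) * (k⁻¹ * x * k)) * k⁻¹ := by group
    have e4 : x * v = k * ((k⁻¹ * x * k) * (k⁻¹ * v * k)) * k⁻¹ := by group
    rw [e3, e4, h2]
  · intro w k hk r hr v hv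
    obtain ⟨w', k', hk', e0, e1, e2⟩ := key r hr
    have h1 := D.wf_eq (hk.mul hk')
    rw [rep_mul_apply, e0] at h1
    rw [h1, mem_cj]
    rw [e1, mem_cj] at hv
    have e3 : (k * k')⁻¹ * (k * v * k⁻¹) * (k * k') = k'⁻¹ * v * k' := by group
    rwa [e3]

end BaseO

namespace YO

variable [Finite W] {R : RGD cs h p T n X} {t : G} {r₀ : I → ℤ} {V : (I → ℤ) → Subgroup G}

include R in
/-- `g V_s g⁻¹ = k V_r k⁻¹` for `d = r - s` a root, `s_d s = r`. -/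
theorem tri (D : YO R t r₀ V) {r s : I → ℤ} (hr : r ∈ O cs h r₀) (hs : s ∈ O cs h r₀) (hd : IsRoot cs h (r - s))
    (hrs : cpr cs h s (r - s) = -1) (hsr : 0 ≤ cpr cs h (s - r) s) {g : G} (hg : g ∈ X (r - s)) (hg1 : g ≠ 1) :
    ∃ k ∈ X (s - r), ∀ w, w ∈ V s ↔ k⁻¹ * (g * w * g⁻¹) * k ∈ V r := by
  obtain ⟨s', hs', a, ha, b, hb, m, hm, he⟩ := exists_mu R hd hg hg1
  have e0 : rep cs h s' s = r := by
    rw [hs', hrs]; simp
  rw [neg_sub] at ha hb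
  have hsr' : IsRoot cs h (s - r) := by
    have := hd.neg
    rwa [neg_sub] at this
  refine ⟨a⁻¹, inv_mem ha, fun w => ?_⟩
  have hg' : g = a⁻¹ * m * b⁻¹ := by rw [he]; group
  have e1 : (a⁻¹)⁻¹ * (g * w * g⁻¹) * a⁻¹ = m * (b⁻¹ * w * b) * m⁻¹ := by rw [hg']; group
  rw [e1]
  constructor
  · intro hw
    have h1 : w * b = b * w := D.WX s hs _ hsr' hsr w hw b hb
    have e2 : b⁻¹ * w * b = w := by rw [mul_assoc, h1]; group
    rw [e2]
    have := D.eqv s' m hm s hs w hw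
    rwa [e0] at this
  · intro hw
    have h2 := D.eqv s'⁻¹ m⁻¹ hm.inv r hr _ hw
    rw [← e0, rep_inv_apply] at h2
    have e3 : m⁻¹ * (m * (b⁻¹ * w * b) * m⁻¹) * m⁻¹⁻¹ = b⁻¹ * w * b := by group
    rw [e3] at h2
    have h1 : b⁻¹ * w * b * b = b * (b⁻¹ * w * b) := D.WX s hs _ hsr' hsr _ h2 b hb
    have e4 : w = b * (b⁻¹ * w * b) * b⁻¹ := by group
    rw [e4, ← h1]
    have e5 : b⁻¹ * w * b * b * b⁻¹ = b⁻¹ * w * b := by group
    rwa [e5]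

/-- An element swapping `x ∈ X r` and `y ∈ X s`, `r`, `s` at 60 degrees. -/
theorem swap (D : YO R t r₀ V) (h0 : IsRoot cs h r₀) (tN : ∀ w k, Rp cs R.nsys w k → t * k = k * t) {r s : I → ℤ}
    (hr : r ∈ O cs h r₀) (hs : s ∈ O cs h r₀) (hA : A2 cs h (r - s) s) (hA' : A2 cs h (s - r) r)
    (hXr : ∀ x ∈ X r, x * x = 1) (hXs : ∀ x ∈ X s, x * x = 1) (cXX : ∀ u ∈ X r, ∀ v ∈ X s, u * v = v * u)
    (inf : ∀ x ∈ X r, x ∈ X s → x = 1) {x y : G} (hx : x ∈ X r) (hy : y ∈ X s) (hx1 : x ≠ 1) (_hy1 : y ≠ 1) :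
    ∃ k : G, k * t = t * k ∧ k * x * k⁻¹ = y ∧ k * y * k⁻¹ = x ∧ (∀ w ∈ V r, k * w * k⁻¹ ∈ V s) ∧
      (∀ w ∈ V s, k * w * k⁻¹ ∈ V r) := by
  have hrr := root_of h0 hr
  have hsr := root_of h0 hs
  have hd := hA.1
  have e1 : r - s + s = r := sub_add_cancel r s
  have e2 : s - r + r = s := sub_add_cancel s r
  have hc1 : cpr cs h s (r - s) = -1 := hA.cyx
  have hc2 : cpr cs h (r - s) s = -1 := hA.cxy
  -- `[g, y] = x`
  obtain ⟨g, hg, hgy'⟩ := A2.comm_surj R hA.symm hy _hy1 (w := x⁻¹) (by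
    rw [add_comm, e1]; exact inv_mem hx)
  have hgy : ⁅g, y⁆ = x := by rw [← commutatorElement_inv, hgy', inv_inv]
  have hg1 : g ≠ 1 := by
    rintro rfl
    rw [commutatorElement_one_left] at hgy
    exact hx1 hgy.symm
  obtain ⟨w, hw, a, ha, b, hb, m, hm, he⟩ := exists_mu R hd hg hg1
  rw [neg_sub] at ha hb
  have w1 : rep cs h w s = r := by
    rw [hw, hc1]; simp
  have w2 : rep cs h w r = s := by
    have h1 : cpr cs h r (r - s) = 1 := by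
      have h2 : cpr cs h (r - s) (r - s) = 2 := cpr_self cs h hd
      have h3 := cpr_add cs h (r - s) s hd
      rw [e1, h2, hc1] at h3
      omega
    rw [hw, h1]; simp
  have cas : ∀ u ∈ X (s - r), ∀ v ∈ X s, u * v = v * u := fun u hu v hv => by
    have h2 := A2.comm_left R hA' (u := v) (v := u) (by rw [e2]; exact hv) hu
    exact h2.symm
  have cgr : ∀ u ∈ X (r - s), ∀ v ∈ X r, u * v = v * u := fun u hu v hv => by
    have h2 := A2.comm_left R hA (u := v) (v := u) (by rw [e1]; exact hv) hu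
    exact h2.symm
  -- `m y m⁻¹`
  obtain ⟨y1, hy1'⟩ : ∃ y1, y1 = a * x * a⁻¹ * x⁻¹ := ⟨_, rfl⟩
  have hy1s : y1 ∈ X s := by
    have := A2.comm_mem R hA' ha hx
    rw [e2, commutatorElement_def] at this
    rw [hy1']; exact this
  have f1 : m * y * m⁻¹ = y1 * y * x := by
    have c1 : b * y * b⁻¹ = y := by rw [cas b hb y hy]; group
    have c2 : g * y * g⁻¹ = x * y := by rw [← hgy, commutatorElement_def]; group
    have c3 : a * y * a⁻¹ = y := by rw [cas a ha y hy]; group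
    calc m * y * m⁻¹ = a * (g * (b * y * b⁻¹) * g⁻¹) * a⁻¹ := by rw [he]; group
      _ = a * (x * y) * a⁻¹ := by rw [c1, c2]
      _ = (a * x * a⁻¹) * (a * y * a⁻¹) := by group
      _ = (y1 * x) * y := by rw [c3, hy1']; group
      _ = y1 * (x * y) := by group
      _ = y1 * y * x := by rw [cXX x hx y hy]; group
  have f2 : m * y * m⁻¹ ∈ X r := by
    have := R.conj_rp hm hsr
    rw [w1] at this
    rw [← this]
    exact conj_mem_cj.2 hy
  have f3 : y1 * y = 1 := by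
    refine inf _ ?_ (mul_mem hy1s hy)
    have e3 : y1 * y = (m * y * m⁻¹) * x⁻¹ := by rw [f1]; group
    rw [e3]; exact mul_mem f2 (inv_mem hx)
  have f4 : m * y * m⁻¹ = x := by rw [f1, f3, one_mul]
  have hyi : y⁻¹ = y := inv_eq_of_mul_eq_one_left (hXs y hy)
  have f5 : y1 = y := by rw [← hyi]; exact eq_inv_of_mul_eq_one_left f3
  -- `m x m⁻¹`
  obtain ⟨y2, hy2'⟩ : ∃ y2, y2 = b * x * b⁻¹ * x⁻¹ := ⟨_, rfl⟩
  have hy2s : y2 ∈ X s := by
    have := A2.comm_mem R hA' hb hx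
    rw [e2, commutatorElement_def] at this
    rw [hy2']; exact this
  obtain ⟨x2, hx2'⟩ : ∃ x2, x2 = g * y2 * g⁻¹ * y2⁻¹ := ⟨_, rfl⟩
  have hx2r : x2 ∈ X r := by
    have := A2.comm_mem R hA hg hy2s
    rw [e1, commutatorElement_def] at this
    rw [hx2']; exact this
  obtain ⟨y3, hy3'⟩ : ∃ y3, y3 = a * (x2 * x) * a⁻¹ * (x2 * x)⁻¹ := ⟨_, rfl⟩
  have hy3s : y3 ∈ X s := by
    have := A2.comm_mem R hA' ha (mul_mem hx2r hx)
    rw [e2, commutatorElement_def] at this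
    rw [hy3']; exact this
  have g1 : m * x * m⁻¹ = y3 * y2 * (x2 * x) := by
    have c1 : b * x * b⁻¹ = y2 * x := by rw [hy2']; group
    have c2 : g * y2 * g⁻¹ = x2 * y2 := by rw [hx2']; group
    have c3 : g * x * g⁻¹ = x := by rw [cgr g hg x hx]; group
    have c4 : a * y2 * a⁻¹ = y2 := by rw [cas a ha y2 hy2s]; group
    have c5 : x2 * y2 = y2 * x2 := cXX x2 hx2r y2 hy2s
    calc m * x * m⁻¹ = a * (g * (b * x * b⁻¹) * g⁻¹) * a⁻¹ := by rw [he]; group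
      _ = a * ((g * y2 * g⁻¹) * (g * x * g⁻¹)) * a⁻¹ := by rw [c1]; group
      _ = a * (x2 * y2 * x) * a⁻¹ := by rw [c2, c3]
      _ = (a * y2 * a⁻¹) * (a * (x2 * x) * a⁻¹) := by rw [c5]; group
      _ = y2 * (y3 * (x2 * x)) := by rw [c4, hy3']; group
      _ = y3 * y2 * (x2 * x) := by
        have c6 : y2 * y3 = y3 * y2 := by
          have h7 := A2.comm_self R hA'.symm (u := y2) (v := y3)
            (by rw [add_comm, e2]; exact hy2s) (by rw [add_comm, e2]; exact hy3s)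
          exact h7
        rw [← mul_assoc, c6]
  have g2 : m * x * m⁻¹ ∈ X s := by
    have := R.conj_rp hm hrr
    rw [w2] at this
    rw [← this]
    exact conj_mem_cj.2 hx
  have g3 : x2 * x = 1 := by
    refine inf _ (mul_mem hx2r hx) ?_
    have e3 : x2 * x = (y3 * y2)⁻¹ * (m * x * m⁻¹) := by rw [g1]; group
    rw [e3]; exact mul_mem (inv_mem (mul_mem hy3s hy2s)) g2
  have g4 : y3 = 1 := by rw [hy3', g3]; group
  have hxi : x⁻¹ = x := inv_eq_of_mul_eq_one_left (hXr x hx)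
  have g5 : x2 = x := by rw [← hxi]; exact eq_inv_of_mul_eq_one_left g3
  have g6 : y2 = y := by
    refine A2.comm_inj R hA hg hg1 hy2s hy ?_
    rw [hgy, commutatorElement_def, ← hx2', g5]
  have g7 : m * x * m⁻¹ = y := by rw [g1, g3, g4, g6]; group
  refine ⟨m, (tN w m hm).symm, g7, f4, ?_, ?_⟩
  · intro v hv
    have := D.eqv w m hm r hr v hv
    rwa [w2] at this
  · intro v hv
    have := D.eqv w m hm s hs v hv
    rwa [w1] at this

end YO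

end Cfsg.Agent.OddHalf.D7Tw.Orbit
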