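import Cfsg.Agent.KFacts.TwESix.Faith
import Cfsg.Agent.OddHalf.D7Tw.DFour
import Cfsg.Agent.OddHalf.D7Tw.Orbit
import Cfsg.Agent.OddHalf.D7Tw.Defs

/-!
# `K = ²E₆(q)`: the hypotheses `D7Tw.Base` of THEOREM H (ODD D7, helper628)

`R : RGD` of `K = GG` in `G`, `V r` the doubled long root groups (`Orbit.YO`, `SL.Defs.Dbl` on the `D₄` of long roots).

* `LD R t V` : the facts used; `LD.of_dbl`;
* `cj_V` : `g (X r) g⁻¹ = X s` implies `g (V r) g⁻¹ = V s` for `g ∈ K`;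
* `Pgen`, `X_inf_Q`, `pair` : further facts on `P`, `Q`;
* **`base`** : `D7Tw.Base t K B Φ (X ∘ c) (V ∘ c) ρ P Q`.
-/

set_option autoImplicit false
set_option linter.unusedSectionVars false

namespace Cfsg.Agent.OddHalf.D7Tw.BaseOf

open CoxeterSystem Cfsg.Agent.ChevalleyStructure.CoxeterGeom Cfsg.Agent.Tits.Roots Cfsg.Agent.Tits.Core
  Cfsg.Agent.Tits.RootComb Cfsg.Agent.Tits.Exchange Cfsg.Agent.Nodes.Reps Cfsg.Agent.Nodes.BNOf
  Cfsg.Agent.Nodes.Coroot Cfsg.Agent.Nodes.LeviDec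
  Cfsg.Agent.Nodes.Bruhat Cfsg.Agent.Nodes.OppDec Cfsg.Agent.Nodes.StabComb
  Cfsg.Agent.KFacts.RgdPar Cfsg.Agent.KFacts.RgdCent
  Cfsg.Agent.KFacts.RgdSL Cfsg.Agent.KFacts.RgdTI Cfsg.Agent.KFacts.RgdEx Cfsg.Agent.KFacts.RgdOdd
  Cfsg.Agent.Nodes.RGDTwE6 Cfsg.Agent.KFacts.TwESix.Comb Cfsg.Agent.KFacts.TwESix.Btw
  Cfsg.Agent.KFacts.TwESix.Pair Cfsg.Agent.KFacts.TwESix.Facts Cfsg.Agent.KFacts.TwESix.QRho
  Cfsg.Agent.KFacts.TwESix.Faith Cfsg.Agent.KFacts.TwESix Cfsg.Agent.OddHalf.D7Tw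
open scoped commutatorElement

variable {W G : Type*} [Group W] [Group G] {cs : CoxeterSystem CoxeterMatrix.F₄ W} {T : Subgroup G}
  {n : Fin 4 → G} {X : (Fin 4 → ℤ) → Subgroup G}

/-- The doubled long root groups. -/
structure LD (R : RGD cs isCartan 2 T n X) (t : G) (V : (Fin 4 → ℤ) → Subgroup G) : Prop where
  tt : t * t = 1
  tK : ∀ k ∈ GG cs isCartan T X, t * k = k * t
  tnot : t ∉ GG cs isCartan T X
  XW : ∀ r, IsRoot cs isCartan r → bf r r = 4 → X r ≤ V r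
  sq : ∀ r, IsRoot cs isCartan r → bf r r = 4 → ∀ w ∈ V r, w * w = 1
  cent : ∀ r, IsRoot cs isCartan r → bf r r = 4 → ∀ w ∈ V r, t * w = w * t → w ∈ X r
  brk : ∀ r, IsRoot cs isCartan r → bf r r = 4 → ∀ w ∈ V r, w⁻¹ * (t * w * t) ∈ X r
  surj : ∀ r, IsRoot cs isCartan r → bf r r = 4 → ∀ x ∈ X r, ∃ w ∈ V r, w⁻¹ * (t * w * t) = x
  pos : ∀ r s, IsRoot cs isCartan r → IsRoot cs isCartan s → bf r r = 4 → bf s s = 4 → 0 ≤ bf r s →
    ∀ v ∈ V r, ∀ w ∈ V s, v * w = w * v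
  neg : ∀ r s, IsRoot cs isCartan r → IsRoot cs isCartan s → bf r r = 4 → bf s s = 4 → bf r s = -2 →
    ∀ v ∈ V r, ∀ w ∈ V s, v * w * v⁻¹ * w⁻¹ ∈ V (r + s)
  WX : ∀ r, IsRoot cs isCartan r → bf r r = 4 → ∀ a, IsRoot cs isCartan a → 0 ≤ bf a r →
    ∀ w ∈ V r, ∀ x ∈ X a, w * x = x * w
  eqv : ∀ w k, Rp cs R.nsys w k → ∀ r, IsRoot cs isCartan r → bf r r = 4 → ∀ v ∈ V r,
    k * v * k⁻¹ ∈ V (rep cs isCartan w r)

/-- from the output of the growth -/
theorem LD.of_dbl {R : RGD cs isCartan 2 T n X} {t : G} {V : (Fin 4 → ℤ) → Subgroup G}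
    (tK : ∀ k ∈ GG cs isCartan T X, t * k = k * t) (tnot : t ∉ GG cs isCartan T X)
    (Y : Orbit.YO R t rho V)
    (L : SL.Defs.Dbl t DFour.B DFour.Phi (fun x => X (DFour.c x)) (fun x => V (DFour.c x))) : LD R t V := by
  have hO : ∀ r, IsRoot cs isCartan r → bf r r = 4 → r ∈ Orbit.O cs isCartan rho := by
    intro r hr hl
    obtain ⟨w, hw⟩ := exists_rep_long cs hr hl
    obtain ⟨v, hv⟩ := exists_rep_long cs (rho_root cs) rho_long
    refine ⟨w * v⁻¹, ?_⟩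
    rw [rep_mul_apply, ← hv, rep_inv_apply, hw]
  have hP : ∀ r, IsRoot cs isCartan r → bf r r = 4 → ∃ x ∈ DFour.Phi, DFour.c x = r := fun r hr hl =>
    DFour.exists_phi cs hr hl
  refine
    { tt := L.tt
      tK := tK
      tnot := tnot
      XW := fun r hr hl => Y.XW r (hO r hr hl)
      sq := ?_
      cent := fun r hr hl => Y.cent r (hO r hr hl)
      brk := fun r hr hl => Y.brk r (hO r hr hl)
      surj := fun r hr hl => Y.surj r (hO r hr hl)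
      pos := ?_
      neg := ?_
      WX := fun r hr hl a ha har => Y.WX r (hO r hr hl) a ha ((ge_iff cs hr hl).2 har)
      eqv := fun w k hk r hr hl => Y.eqv w k hk r (hO r hr hl) }
  · intro r hr hl w hw
    obtain ⟨x, hx, rfl⟩ := hP r hr hl
    exact L.sq x hx w hw
  · intro r s hr hs hl hl' hrs
    obtain ⟨x, hx, rfl⟩ := hP r hr hl
    obtain ⟨y, hy, rfl⟩ := hP s hs hl'
    rw [DFour.bf_c] at hrs
    exact L.pos x hx y hy (by omega)
  · intro r s hr hs hl hl' hrs v hv w hw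
    obtain ⟨x, hx, rfl⟩ := hP r hr hl
    obtain ⟨y, hy, rfl⟩ := hP s hs hl'
    rw [DFour.bf_c] at hrs
    have := L.neg x hx y hy (by omega) v hv w hw
    simp only [map_add] at this
    exact this

/-- `α₀ + α₁` -/
def s0 : Fin 4 → ℤ := ![1, 1, 0, 0]

/-- `α₀` -/
def a0 : Fin 4 → ℤ := ![1, 0, 0, 0]

/-- `α₁` -/
def c0 : Fin 4 → ℤ := ![0, 1, 0, 0]

theorem facts0 : s0 ∈ rts ∧ a0 ∈ rts ∧ c0 ∈ rts ∧ rho - s0 ∈ rts ∧ bf s0 s0 = 4 ∧ bf a0 a0 = 4 ∧ bf c0 c0 = 4 ∧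
    bf (rho - s0) (rho - s0) = 4 ∧ bf c0 a0 = -2 ∧ bf s0 (rho - s0) = -2 ∧ c0 + a0 = s0 ∧ s0 + (rho - s0) = rho ∧
    s0 0 = 1 ∧ a0 0 = 1 ∧ c0 0 = 0 ∧ (rho - s0) 0 = 1 := by
  decide +kernel

namespace LD

variable [Finite G] {R : RGD cs isCartan 2 T n X} {t : G} {V : (Fin 4 → ℤ) → Subgroup G} (D : Dat R)
  (L : LD R t V)

include L

theorem exists_w {r s : Fin 4 → ℤ} (hr : IsRoot cs isCartan r) (hs : IsRoot cs isCartan s) (hrl : bf r r = 4)
    (hsl : bf s s = 4) : ∃ w : W, rep cs isCartan w r = s := by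
  obtain ⟨w, hw⟩ := exists_rep_long cs hs hsl
  obtain ⟨v, hv⟩ := exists_rep_long cs hr hrl
  refine ⟨w * v⁻¹, ?_⟩
  rw [rep_mul_apply, ← hv, rep_inv_apply, hw]

theorem cj_rp {w : W} {k : G} (hk : Rp cs R.nsys w k) {r : Fin 4 → ℤ} (hr : IsRoot cs isCartan r)
    (hl : bf r r = 4) : cj k (V r) = V (rep cs isCartan w r) := by
  apply le_antisymm
  · intro x hx
    rw [mem_cj] at hx
    have := L.eqv w k hk r hr hl _ hx
    have e : k * (k⁻¹ * x * k) * k⁻¹ = x := by group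
    rwa [e] at this
  · intro x hx
    rw [mem_cj]
    have := L.eqv w⁻¹ k⁻¹ hk.inv _ (hr.act w) (by rw [bf_rep]; exact hl) x hx
    rwa [rep_inv_apply, inv_inv] at this

/-- the normaliser of `X r` normalises `V r` -/
theorem PS_le {r : Fin 4 → ℤ} (hr : IsRoot cs isCartan r) (hl : bf r r = 4) :
    PS T X (Ge cs isCartan r) ≤ Subgroup.normalizer (V r : Set G) := by
  refine sup_le ?_ ?_
  · intro g hg
    rw [mem_normalizer_iff_cj]
    have := L.cj_rp (rp_of_mem (cs := cs) (hN := R.nsys) hg) hr hl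
    rwa [map_one, Module.End.one_apply] at this
  · refine RGD.Sup_le fun a ha => ?_
    intro x hx
    rw [Subgroup.mem_normalizer_iff]
    have hc : ∀ w ∈ V r, w * x = x * w := fun w hw =>
      L.WX r hr hl a ha.1 ((ge_iff cs hr hl).1 ha.2) w hw x hx
    intro w
    constructor
    · intro hw
      rw [← hc w hw, mul_inv_cancel_right]; exact hw
    · intro hw
      have h1 := hc _ hw
      have e : w = x⁻¹ * (x * w * x⁻¹ * x) := by group
      rw [h1] at e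
      rw [e, inv_mul_cancel_left]; exact hw

include D

/-- `g (X r) g⁻¹ = X s` implies `g (V r) g⁻¹ = V s` -/
theorem cj_V {g : G} (hg : g ∈ GG cs isCartan T X) {r s : Fin 4 → ℤ} (hr : IsRoot cs isCartan r)
    (hs : IsRoot cs isCartan s) (hrl : bf r r = 4) (hsl : bf s s = 4) (he : cj g (X r) = X s) :
    cj g (V r) = V s := by
  have : Finite W := finiteW cs
  obtain ⟨w, hw⟩ := L.exists_w hr hs hrl hsl
  obtain ⟨k, hk⟩ := exists_rp cs R.nsys w
  have hkG := NN_le_GG R ⟨w, hk⟩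
  have h1 : cj (k⁻¹ * g) (X r) = X r := by
    rw [cj_mul, he, ← hw, ← R.conj_rp hk hr, cj_inv_cj]
  have h2 : k⁻¹ * g ∈ PS T X (Ge cs isCartan r) := by
    rw [← (D.lr r hr hrl).normalizer]
    exact Subgroup.mem_inf.2 ⟨mem_normalizer_iff_cj.2 h1, mul_mem (inv_mem hkG) hg⟩
  have h3 := mem_normalizer_iff_cj.1 (L.PS_le hr hrl h2)
  have h4 := L.cj_rp hk hr hrl
  rw [hw] at h4
  have h5 : cj g (V r) = cj k (cj (k⁻¹ * g) (V r)) := by rw [← cj_mul, mul_inv_cancel_left]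
  rw [h5, h3, h4]


end LD

/-! ### Further facts on `P` and `Q` -/

theorem gen_comb : ∀ b ∈ rts, 0 ≤ b 0 → bf b b = 2 → ∃ s ∈ rts, 0 ≤ s 0 ∧ bf s s = 4 ∧ ∃ d ∈ rts, 0 ≤ d 0 ∧
    bf d d = 2 ∧ bf s d = -2 ∧ s + d = b ∧ s + (2 : ℤ) • d ∈ rts ∧ 0 ≤ (s + (2 : ℤ) • d) 0 ∧
    bf (s + (2 : ℤ) • d) (s + (2 : ℤ) • d) = 4 := by
  decide +kernel

theorem bf_le : ∀ x ∈ rts, ∀ s ∈ rts, bf s s = 4 → -4 ≤ bf x s := by decide +kernel

section KF

variable {R : RGD cs isCartan 2 T n X} (D : Dat R)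

include D

/-- `P` is generated by the `P`-conjugates of the long root groups in it -/
theorem Pgen : PP cs X ≤ Subgroup.closure {c | ∃ p ∈ PP cs X, ∃ s ∈ rts, bf s s = 4 ∧ 0 ≤ s 0 ∧ ∃ x ∈ X s,
    c = p * x * p⁻¹} := by
  have : Finite W := finiteW cs
  set N := Subgroup.closure {c | ∃ p ∈ PP cs X, ∃ s ∈ rts, bf s s = 4 ∧ 0 ≤ s 0 ∧ ∃ x ∈ X s, c = p * x * p⁻¹} with hN
  have hlong : ∀ s ∈ rts, bf s s = 4 → 0 ≤ s 0 → ∀ p ∈ PP cs X, ∀ x ∈ X s, p * x * p⁻¹ ∈ N := fun s hs hl h0 p hp x hx =>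
    Subgroup.subset_closure ⟨p, hp, s, hs, hl, h0, x, hx, rfl⟩
  have hlong' : ∀ s ∈ rts, bf s s = 4 → 0 ≤ s 0 → ∀ x ∈ X s, x ∈ N := by
    intro s hs hl h0 x hx
    have := hlong s hs hl h0 1 (one_mem _) x hx
    rwa [one_mul, inv_one, mul_one] at this
  refine PP_le fun b hb hb0 w hw => ?_
  rcases norm cs hb with h | h
  · exact hlong' b ((mem_rts cs).1 hb) h hb0 w hw
  · obtain ⟨s, hs, hs0, hsl, d, hd, hd0, hdd, hsd, rfl, hr, hr0, hrl⟩ := gen_comb b ((mem_rts cs).1 hb) hb0 h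
    have hsr := (mem_rts cs).2 hs
    have hdr := (mem_rts cs).2 hd
    obtain ⟨u, hu, hu1⟩ := exists_ne_one R hsr
    obtain ⟨v, hv, z, hz, e⟩ := surj_135 D hsr hdr hsl hdd hsd hb ((mem_rts cs).2 hr) hu hu1 hw
    have h1 : ⁅u, v⁆ ∈ N := by
      have e' : ⁅u, v⁆ = u * (v * u⁻¹ * v⁻¹) := by rw [commutatorElement_def]; group
      rw [e']
      exact mul_mem (hlong' s hs hsl hs0 u hu) (hlong s hs hsl hs0 v (le_PP hdr hd0 hv) _ (inv_mem hu))
    have h2 := hlong' _ hr hrl hr0 z hz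
    have e' : w = ⁅u, v⁆ * z⁻¹ := by rw [e]; group
    rw [e']
    exact mul_mem h1 (inv_mem h2)

omit D in
/-- `X s ∩ Q = 1` for `s` long, orthogonal to `ρ` -/
theorem X_inf_Q (R : RGD cs isCartan 2 T n X) {s : Fin 4 → ℤ} (hs : IsRoot cs isCartan s) (hl : bf s s = 4)
    (h0 : s 0 = 0) {e : G} (he : e ∈ X s) (h : e ∈ QQ cs X) : e = 1 := by
  have : Finite W := finiteW cs
  have hclo : Nodes.Unique.Closed cs isCartan ({s} : Set (Fin 4 → ℤ)) := by
    intro x hx y hy z hz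
    rw [Set.mem_singleton_iff] at hx hy
    rw [hx, hy] at hz
    rw [Nodes.Unique.btwn_self hs hz]
    rfl
  have hclo' : Nodes.Unique.Closed cs isCartan (Rad cs isCartan rho) := by
    rintro x ⟨hx, hx'⟩ y ⟨hy, hy'⟩ z hz
    rw [cpr_rho] at hx' hy'
    refine ⟨hz.1, ?_⟩
    rw [cpr_rho]
    exact Irr.btwn_zero hz hx' (by omega)
  let f : (Fin 4 → ℤ) →+ ℤ := 3 • ell cs isCartan (rho_root cs) + ell cs isCartan hs
  have hf : ∀ x, f x = 3 * cpr cs isCartan x rho + cpr cs isCartan x s := by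
    intro x
    show (3 • ell cs isCartan (rho_root cs) + ell cs isCartan hs) x = _
    rw [AddMonoidHom.add_apply, AddMonoidHom.nsmul_apply]
    show 3 • cpr cs isCartan x rho + cpr cs isCartan x s = _
    rw [nsmul_eq_mul]; norm_num
  have h1 := inf_eq_half R f (S := {s}) (S' := Rad cs isCartan rho) (by
    intro x hx
    rw [Set.mem_singleton_iff] at hx
    subst hx
    refine ⟨hs, ?_⟩
    rw [hf, cpr_self cs isCartan hs, cpr_rho, h0]; norm_num) (by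
    rintro x ⟨hx, hx'⟩
    refine ⟨hx, ?_⟩
    rw [hf]
    have h2 := bf_le x ((mem_rts cs).1 hx) s ((mem_rts cs).1 hs) hl
    have h3 := cpr_long cs x hs hl
    omega) hclo hclo'
  have h2 : e ∈ RGD.Sup X {s} ⊓ RGD.Sup X (Rad cs isCartan rho) :=
    Subgroup.mem_inf.2 ⟨RGD.le_Sup (X := X) (Set.mem_singleton s) he, h⟩
  have h3 : ({s} : Set (Fin 4 → ℤ)) ∩ Rad cs isCartan rho = ∅ := by
    ext x
    simp only [Set.mem_inter_iff, Set.mem_singleton_iff, Set.mem_empty_iff_false, iff_false, not_and]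
    rintro rfl hx
    have := hx.2
    rw [cpr_rho, h0] at this
    omega
  have h4 : RGD.Sup X (∅ : Set (Fin 4 → ℤ)) = ⊥ := by
    rw [eq_bot_iff]
    exact RGD.Sup_le fun z hz => absurd hz (Set.notMem_empty z)
  have h5 : RGD.Sup X {s} ⊓ RGD.Sup X (Rad cs isCartan rho) = ⊥ := by
    rw [← h4, ← h3]; exact h1
  rw [h5, Subgroup.mem_bot] at h2
  exact h2

/-- two long root groups in `Q` -/
theorem pair {g h : G} (hg : g ∈ GG cs isCartan T X) (hh : h ∈ GG cs isCartan T X)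
    (hgQ : cj g (X rho) ≤ QQ cs X) (hhQ : cj h (X rho) ≤ QQ cs X) : ∃ k ∈ GG cs isCartan T X, ∃ s,
      IsRoot cs isCartan s ∧ bf s s = 4 ∧ -1 ≤ s 0 ∧ cj g (X rho) = cj k (X rho) ∧ cj h (X rho) = cj k (X s) := by
  have : Finite W := finiteW cs
  have hrr := rho_root cs
  obtain ⟨k, hk, s, hs, hsl, e1, e2⟩ := exists_pair D hg hh
  refine ⟨k, hk, s, hs, hsl, ?_, e1, e2⟩
  rw [e1] at hgQ
  rw [e2] at hhQ
  by_contra hcon
  have h2 : s = -rho := by
    have h1 := CombRho.zero_le (-s) ((mem_rts cs).1 hs.neg)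
    have h3 := CombRho.eq_rho (-s) ((mem_rts cs).1 hs.neg) (by
      have h2 : (-s) 0 = -(s 0) := rfl
      omega)
    rw [← h3, neg_neg]
  subst h2
  obtain ⟨w', hw'⟩ := exists_rep_long cs hrr rho_long
  obtain ⟨m, hm⟩ := exists_rp cs R.nsys w'
  have h5 : X (sr 0) ⊔ X (-sr 0) ≤ cj (k * m)⁻¹ (QQ cs X) := by
    refine sup_le ?_ ?_
    · have h6 : cj (k * m) (X (sr 0)) ≤ QQ cs X := by
        rw [cj_mul, R.conj_rp hm (isRoot_sr cs isCartan 0), hw']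
        exact hgQ
      have h7 := cj_mono (k * m)⁻¹ h6
      rwa [cj_inv_cj] at h7
    · have h6 : cj (k * m) (X (-sr 0)) ≤ QQ cs X := by
        rw [cj_mul, R.conj_rp hm (isRoot_sr cs isCartan 0).neg, map_neg, hw']
        exact hhQ
      have h7 := cj_mono (k * m)⁻¹ h6
      rwa [cj_inv_cj] at h7
  exact R.notp 0 (((isPGroup_QQ R).map _).to_le h5)

end KF

/-! ### The instance -/

theorem cj_iff {k : G} {A A' : Subgroup G} : Cj k A A' ↔ cj k A = A' := by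
  constructor
  · intro h
    ext x
    rw [mem_cj, h]
    have e : k * (k⁻¹ * x * k) * k⁻¹ = x := by group
    rw [e]
  · rintro rfl x
    exact conj_mem_cj.symm

theorem phi_comb : (∃ s ∈ DFour.lg, DFour.B s ![1, 1, 0, 0] = 0) ∧ (∃ s ∈ DFour.lg, DFour.B s ![1, 1, 0, 0] = 1) ∧
    ∀ s ∈ DFour.lg, DFour.B s ![1, 1, 0, 0] = 1 → ∃ s' ∈ DFour.lg, DFour.B s' ![1, 1, 0, 0] = 0 ∧
      DFour.B s s' = 1 := by
  decide +kernel

theorem rho_phi : (![1, 1, 0, 0] : Fin 4 → ℤ) ∈ DFour.Phi :=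
  show (![1, 1, 0, 0] : Fin 4 → ℤ) ∈ DFour.lg by decide +kernel

theorem c_zero (x : Fin 4 → ℤ) : (DFour.c x) 0 = DFour.B x ![1, 1, 0, 0] := by
  rw [DFour.c_apply]
  unfold DFour.B
  simp only [Matrix.cons_val_zero, Matrix.cons_val_one, Matrix.cons_val]
  ring

/-- **The hypotheses `D7Tw.Base`.** -/
theorem base [Finite G] {R : RGD cs isCartan 2 T n X} {t : G} {V : (Fin 4 → ℤ) → Subgroup G} (D : Dat R)
    (hNC : NoCent cs isCartan T X) (tK : ∀ k ∈ GG cs isCartan T X, t * k = k * t)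
    (tnot : t ∉ GG cs isCartan T X) (Y : Orbit.YO R t rho V)
    (L0 : SL.Defs.Dbl t DFour.B DFour.Phi (fun x => X (DFour.c x)) (fun x => V (DFour.c x))) :
    Base t (GG cs isCartan T X) DFour.B DFour.Phi (fun x => X (DFour.c x)) (fun x => V (DFour.c x)) ![1, 1, 0, 0]
      (PP cs X) (QQ cs X) := by
  have : Finite W := finiteW cs
  have L := LD.of_dbl tK tnot Y L0
  have hrr := rho_root cs
  have hcr : DFour.c ![1, 1, 0, 0] = rho := DFour.c_rho
  have hroot : ∀ s ∈ DFour.Phi, IsRoot cs isCartan (DFour.c s) := fun s hs => DFour.root cs hs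
  have hlong : ∀ s ∈ DFour.Phi, bf (DFour.c s) (DFour.c s) = 4 := fun s hs => DFour.long hs
  have hQn : ∀ p ∈ PP cs X, ∀ y ∈ QQ cs X, p * y * p⁻¹ ∈ QQ cs X := fun p hp y hy =>
    (Subgroup.mem_normalizer_iff.1 (PP_normalizer R hp) y).1 hy
  -- conjugates of `X ρ`
  have hconj : ∀ s ∈ DFour.Phi, ∃ m ∈ GG cs isCartan T X, cj m (X rho) = X (DFour.c s) := by
    intro s hs
    obtain ⟨w, hw⟩ := L.exists_w hrr (hroot s hs) rho_long (hlong s hs)
    obtain ⟨m, hm⟩ := exists_rp cs R.nsys w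
    exact ⟨m, NN_le_GG R ⟨w, hm⟩, by rw [R.conj_rp hm hrr, hw]⟩
  refine
    { roots := DFour.roots
      dbl := L0
      hρ := rho_phi
      ex0 := phi_comb.1
      ex1 := phi_comb.2.1
      ex01 := phi_comb.2.2
      Kt := fun k hk => (tK k hk).symm
      tK := tnot
      XK := fun r hr => X_le_GG (hroot r hr)
      Xne := fun r hr => X_ne_bot R (hroot r hr)
      card := ?_
      Xsurj := ?_
      PK := PP_le_GG
      perf := perfect D
      QP := QQ_le_PP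
      Q2 := isPGroup_QQ R
      Qn := hQn
      QQ := ?_
      ZQ := ?_
      XQ := ?_
      XP := ?_
      XnQ := ?_
      Pgen := ?_
      Qgen := ?_
      pair := ?_
      nrm := fun N hN hNN hN1 hNn => nrm D hNC hN hNN hN1 hNn
      WP := ?_
      Wcan := ?_ }
  · -- card
    intro r hr
    obtain ⟨m, -, hm⟩ := hconj r hr
    show Nat.card (X (DFour.c r)) = Nat.card (X (DFour.c ![1, 1, 0, 0]))
    rw [hcr, ← hm]
    exact (Nat.card_congr ((X rho).equivMapOfInjective (MulAut.conj m).toMonoidHom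
      (MulAut.conj m).injective).toEquiv).symm
  · -- Xsurj
    intro r hr s hs hrs y hy hy1 c hc
    have hA : A2 cs isCartan (DFour.c r) (DFour.c s) := DFour.a2_of cs hr hs hrs
    have hc' : c⁻¹ ∈ X (DFour.c s + DFour.c r) := by
      have e : DFour.c s + DFour.c r = DFour.c (r + s) := by rw [map_add, add_comm]
      rw [e]; exact inv_mem hc
    obtain ⟨x, hx, e⟩ := hA.symm.comm_surj R hy hy1 hc'
    refine ⟨x, hx, ?_⟩
    rw [← commutatorElement_def, ← commutatorElement_inv, e, inv_inv]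
  · -- QQ
    rw [Subgroup.commutator_le]
    intro x hx y hy
    show ⁅x, y⁆ ∈ X (DFour.c ![1, 1, 0, 0])
    rw [hcr]
    exact Irr.comm_QQ R D.lr hx hy
  · -- ZQ
    intro x hx h
    show x ∈ X (DFour.c ![1, 1, 0, 0])
    rw [hcr]
    exact (loc D).ZQ (q := x) (by rw [QS_eq (cs := cs)]; exact hx) (fun v hv => h v (by
      rw [QS_eq (cs := cs)] at hv; exact hv))
  · -- XQ
    intro s hs h
    exact le_QQ (hroot s hs) (by rw [c_zero]; exact h)
  · -- XP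
    intro s hs h
    exact le_PP (hroot s hs) (by rw [c_zero]; exact h)
  · -- XnQ
    intro s hs h x hx hxQ
    exact X_inf_Q R (hroot s hs) (hlong s hs) (by rw [c_zero]; exact h) hx hxQ
  · -- Pgen
    refine le_trans (Pgen D) ?_
    rw [Subgroup.closure_le]
    rintro _ ⟨p, hp, s, hs, hsl, hs0, x, hx, rfl⟩
    obtain ⟨y, hy, rfl⟩ := DFour.exists_phi cs ((mem_rts cs).2 hs) hsl
    exact Subgroup.subset_closure ⟨p, hp, y, hy, by rw [← c_zero]; exact hs0, x, hx, rfl⟩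
  · -- Qgen
    obtain ⟨i1, -, -, -, l1, -, -, -, -, -, -, -, z1, -, -, -⟩ := facts0
    have hs := (mem_rts cs).2 i1
    obtain ⟨y, hy, ey⟩ := DFour.exists_phi cs hs l1
    have h1 := Q_eq D hs z1
    rw [h1]
    refine sup_le ?_ (iSup_le fun p => ?_)
    · refine le_trans (le_of_eq ?_) le_sup_left
      show X rho = X (DFour.c ![1, 1, 0, 0])
      rw [hcr]
    · refine le_trans ?_ le_sup_right
      intro x hx
      rw [mem_cj] at hx
      refine Subgroup.subset_closure ⟨p, p.2, y, hy, ?_, (p : G)⁻¹ * x * p, ?_, by group⟩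
      · rw [← c_zero, ey, z1]
      · show (p : G)⁻¹ * x * p ∈ X (DFour.c y)
        rw [ey]; exact hx
  · -- pair
    intro p₁ hp₁ p₂ hp₂ s₁ hs₁ s₂ hs₂ h₁ h₂
    obtain ⟨m₁, hm₁, e₁⟩ := hconj s₁ hs₁
    obtain ⟨m₂, hm₂, e₂⟩ := hconj s₂ hs₂
    have hle : ∀ p ∈ PP cs X, ∀ s ∈ DFour.Phi, DFour.B s ![1, 1, 0, 0] = 1 → ∀ m, cj m (X rho) = X (DFour.c s) →
        cj (p * m) (X rho) ≤ QQ cs X := by
      intro p hp s hs hs1 m hm x hx
      rw [cj_mul, hm, mem_cj] at hx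
      have h3 := hQn p hp _ (le_QQ (hroot s hs) (by rw [c_zero]; exact hs1.ge) hx)
      have e : p * (p⁻¹ * x * p) * p⁻¹ = x := by group
      rwa [e] at h3
    obtain ⟨k, hk, s, hs, hsl, hs1, f1, f2⟩ := pair D (mul_mem (PP_le_GG hp₁) hm₁) (mul_mem (PP_le_GG hp₂) hm₂)
      (hle p₁ hp₁ s₁ hs₁ h₁ m₁ e₁) (hle p₂ hp₂ s₂ hs₂ h₂ m₂ e₂)
    obtain ⟨y, hy, rfl⟩ := DFour.exists_phi cs hs hsl
    refine ⟨k⁻¹, inv_mem hk, ![1, 1, 0, 0], rho_phi, y, hy, ?_, ?_, ?_⟩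
    · rw [DFour.B_symm, ← c_zero]; exact hs1
    · rw [cj_iff]
      show cj (k⁻¹ * p₁) (X (DFour.c s₁)) = X (DFour.c ![1, 1, 0, 0])
      rw [hcr, cj_mul, ← e₁, ← cj_mul p₁, f1, cj_inv_cj]
    · rw [cj_iff]
      show cj (k⁻¹ * p₂) (X (DFour.c s₂)) = X (DFour.c y)
      rw [cj_mul, ← e₂, ← cj_mul p₂, f2, cj_inv_cj]
  · -- WP
    intro w hw
    have hw' : w ∈ V rho := by
      have : w ∈ V (DFour.c ![1, 1, 0, 0]) := hw
      rwa [hcr] at this
    have h1 : PP cs X ≤ Subgroup.centralizer ({w} : Set G) := by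
      refine RGD.Sup_le fun b hb x hx => ?_
      rw [Subgroup.mem_centralizer_singleton_iff]
      exact (L.WX rho hrr rho_long b hb.1 ((ge_iff cs hrr rho_long).1 hb.2) w hw' x hx).symm
    intro p hp
    exact (Subgroup.mem_centralizer_singleton_iff.1 (h1 hp)).symm
  · -- Wcan
    intro r hr s hs k hk h
    rw [cj_iff] at h ⊢
    exact L.cj_V D hk (hroot r hr) (hroot s hs) (hlong r hr) (hlong s hs) h

end Cfsg.Agent.OddHalf.D7Tw.BaseOf
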