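import Cfsg.Agent.OddHalf.D7Out.FrontCyc
import Cfsg.Agent.OddHalf.Small.ChevCent
import Cfsg.Agent.KFacts.RgdAutN
import Cfsg.Agent.KFacts.TwESix.QRho
import Cfsg.Agent.KFacts.TwESix.NonComm
import Cfsg.Agent.KFacts.TwESix.OutMain
import Cfsg.Agent.Schreier.TwESix
import Cfsg.Agent.S1070

/-!
# D7, `K = ²E₆(q)`: the front (packet [G], helper841; texts: bb ODD 8710, 9445)

In a group `Y` with a root group datum `R` of type `F₄` with `Facts.Dat R` :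

* `K1` : `C(Q) ≤ X ρ` (packet [C]) as a hypothesis;
* `kf` : the facts `FrGen.KF` for `U = ⟨X a : a > 0⟩`, `Z = X ρ`;
* `le_PP` : perfect subgroups of `C(z)`, `1 ≠ z ∈ X ρ`, lie in `P = ⟨X b : b 0 ≥ 0⟩`.

In `G` :

* `hcyc` : `T / R U` is cyclic;
* `front` : `|R| = 2`, `t ~ t z` for `z ∈ Z`, `n ∈ N(T)` of order two modulo `T` with `n t n⁻¹ = t z`, `n z = z n`; `n`
  normalises `P` and `Z`; the `T`-formula.
-/

set_option autoImplicit false
set_option linter.unusedSectionVars false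

namespace Cfsg.Agent.OddHalf.D7Tw.Front

open CoxeterSystem Cfsg.Agent.ChevalleyStructure.CoxeterGeom Cfsg.Agent.Tits.Roots Cfsg.Agent.Tits.Core
  Cfsg.Agent.Tits.RootComb Cfsg.Agent.Tits.Exchange Cfsg.Agent.Nodes.Reps Cfsg.Agent.Nodes.BNOf
  Cfsg.Agent.Nodes.StabComb Cfsg.Agent.Nodes.Bruhat Cfsg.Agent.Nodes.OppDec
  Cfsg.Agent.Nodes.Coroot Cfsg.Agent.KFacts.RgdSL Cfsg.Agent.KFacts.RgdTI Cfsg.Agent.KFacts.RgdOdd
  Cfsg.Agent.KFacts.RgdEx Cfsg.Agent.KFacts.RgdPar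
  Cfsg.Agent.Nodes.RGDTwE6 Cfsg.Agent.KFacts.TwESix.Comb Cfsg.Agent.KFacts.TwESix.CombRho
  Cfsg.Agent.KFacts.TwESix.Facts Cfsg.Agent.KFacts.TwESix.QRho
open scoped commutatorElement

section Abstract

variable {W Y : Type*} [Group W] [Group Y] {cs : CoxeterSystem CoxeterMatrix.F₄ W} {T₀ : Subgroup Y} {n : Fin 4 → Y}
  {X : (Fin 4 → ℤ) → Subgroup Y}

/-- **(K1)** `C(Q) ≤ X ρ`. -/
def K1 (cs : CoxeterSystem CoxeterMatrix.F₄ W) (X : (Fin 4 → ℤ) → Subgroup Y) : Prop :=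
  ∀ g : Y, (∀ x, IsRoot cs isCartan x → 0 < x 0 → ∀ v ∈ X x, g * v = v * g) → g ∈ X rho

theorem rho_nonneg : (0 : Fin 4 → ℤ) ≤ rho := by
  intro i
  fin_cases i <;> decide

theorem rho_pos : rho ∈ RGD.Pos cs isCartan := ⟨rho_root cs, rho_nonneg⟩

variable {R : RGD cs isCartan 2 T₀ n X} (D : Dat R)

include D

theorem Z_comm {z u : Y} (hz : z ∈ X rho) (hu : u ∈ RGD.Sup X (RGD.Pos cs isCartan)) : u * z = z * u := by
  have : Finite W := finiteW cs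
  have h1 : RGD.Sup X (RGD.Pos cs isCartan) ≤ RGD.Sup X (Ge cs isCartan rho) :=
    RGD.Sup_mono fun x hx => ⟨hx.1, by rw [cpr_rho]; exact hx.2 0⟩
  exact (D.lr rho (rho_root cs) rho_long).comm' (h1 hu) hz

/-- **(T1s)** in automorphism form -/
theorem aut (hG1 : RGD.Sup X {x | IsRoot cs isCartan x} = ⊤) (hk1 : K1 cs X) {α : MulAut Y}
    (hα : ∀ x, IsRoot cs isCartan x → 0 < x 0 → ∀ v ∈ X x, α v = v) : ∃ z ∈ X rho, α = MulAut.conj z := by
  have : Fact (Nat.Prime 2) := ⟨Nat.prime_two⟩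
  have : Finite W := finiteW cs
  obtain ⟨z, hz, e⟩ := Cfsg.Agent.KFacts.RgdAutN.autN R hG1
    (fun i a ha b hb => abel R (isRoot_sr cs isCartan i) ha hb)
    (Pi.evalAddMonoidHom (fun _ : Fin 4 => ℤ) 0) (S := {rho}) (by
      rintro c rfl
      refine ⟨rho_root cs, ![1, 0, 0, 0], ![1, 3, 4, 2], ?_, ?_, ?_, ?_, ?_⟩
      · exact (mem_rts cs).2 (by decide +kernel)
      · exact (mem_rts cs).2 (by decide +kernel)
      · show (0 : ℤ) < 1; norm_num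
      · show (0 : ℤ) < 1; norm_num
      · decide +kernel) (by
      intro g hg
      exact RGD.le_Sup (X := X) (S := {rho}) rfl (hk1 g hg)) hα
  refine ⟨z, ?_, e⟩
  refine (RGD.Sup_le fun y hy => ?_ : RGD.Sup X {rho} ≤ X rho) hz
  rw [Set.mem_singleton_iff] at hy
  rw [hy]

/-- **The frame facts.** -/
theorem kf [Finite Y] (hG1 : RGD.Sup X {x | IsRoot cs isCartan x} = ⊤) (hk1 : K1 cs X) :
    Cfsg.Agent.OddHalf.D7Out.FrGen.KF (RGD.Sup X (RGD.Pos cs isCartan)) (X rho) := by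
  have : Fact (Nat.Prime 2) := ⟨Nat.prime_two⟩
  have : Finite W := finiteW cs
  have hG : GG cs isCartan T₀ X = ⊤ := by
    rw [eq_top_iff, ← hG1]
    exact Cfsg.Agent.KFacts.RgdSyl.Sup_le_GG fun x hx => hx
  refine ⟨⟨R.isPGroup_Upos, ?_, RGD.le_Sup rho_pos, ?_, ?_, X_ne_bot R (rho_root cs), ?_, ?_⟩, ?_⟩
  · intro P hP hle
    rw [Cfsg.Agent.Nodes.NormalForm.eq_U_of_isPGroup R hP hle (by rw [hG]; exact le_top)]
  · intro z hz u hu
    exact Z_comm D hz hu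
  · intro z hz
    exact sq R (rho_root cs) hz
  · intro α _ hα
    obtain ⟨z, hz, e⟩ := aut D hG1 hk1 (α := α) (by
      intro x hx hx0 v hv
      refine hα v (RGD.le_Sup (S := RGD.Pos cs isCartan) ⟨hx, ?_⟩ hv)
      rcases hx.pos_or_neg with h1 | h1
      · exact h1
      · exact absurd (h1 0) (not_le.2 hx0))
    exact ⟨z, hz, fun x => by rw [e, MulAut.conj_apply]⟩
  · intro z hz
    refine ⟨PP cs X, perfect D, le_PP (rho_root cs) (by decide) hz, fun y hy => ?_⟩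
    exact (cen_PP D hz hy).symm
  · intro z hz z' hz' h1 h1'
    obtain ⟨s, -, e⟩ := exists_tor R (rho_root cs) hz h1 hz' h1'
    exact ⟨s, e⟩

/-- perfect subgroups of `C(z)`, `1 ≠ z ∈ X ρ`, lie in `P` -/
theorem le_PP_of_perfect (hG1 : RGD.Sup X {x | IsRoot cs isCartan x} = ⊤)
    (hab : ∀ s ∈ T₀, ∀ s' ∈ T₀, s * s' = s' * s) {z : Y} (hz : z ∈ X rho) (hz1 : z ≠ 1) {L : Subgroup Y}
    (hL : ⁅L, L⁆ = L) (hLz : ∀ x ∈ L, x * z = z * x) : L ≤ PP cs X := by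
  have : Fact (Nat.Prime 2) := ⟨Nat.prime_two⟩
  have : Finite W := finiteW cs
  have hG : GG cs isCartan T₀ X = ⊤ := by
    rw [eq_top_iff, ← hG1]
    exact Cfsg.Agent.KFacts.RgdSyl.Sup_le_GG fun x hx => hx
  have hT : T₀ ≤ Subgroup.normalizer (PP cs X : Set Y) := R.T_le_normalizer fun x hx => hx.1
  have hdec : ∀ g ∈ L, ∃ s ∈ T₀, ∃ p ∈ PP cs X, g = s * p := by
    intro g hg
    have h2 : g ∈ ((PS T₀ X (Ge cs isCartan rho) : Subgroup Y) : Set Y) :=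
      (D.lr rho (rho_root cs) rho_long).le_PS_of_comm (by rw [hG]; exact Subgroup.mem_top g) hz hz1 (hLz g hg)
    unfold PS at h2
    rw [Subgroup.coe_mul_of_left_le_normalizer_right _ _ hT, Set.mem_mul] at h2
    obtain ⟨s, hs, p, hp, e⟩ := h2
    exact ⟨s, hs, p, hp, e.symm⟩
  have hn : ∀ s ∈ T₀, ∀ p, p ∈ PP cs X ↔ s * p * s⁻¹ ∈ PP cs X := fun s hs p =>
    Subgroup.mem_normalizer_iff.1 (hT hs) p
  rw [← hL, Subgroup.commutator_le]
  intro g hg g' hg'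
  obtain ⟨s, hs, p, hp, rfl⟩ := hdec g hg
  obtain ⟨s', hs', p', hp', rfl⟩ := hdec g' hg'
  obtain ⟨a, ha⟩ : ∃ a, a = s'⁻¹ * p * s' * p' := ⟨_, rfl⟩
  obtain ⟨b, hb⟩ : ∃ b, b = s⁻¹ * p' * s * p := ⟨_, rfl⟩
  have haP : a ∈ PP cs X := by
    rw [ha]
    refine mul_mem ?_ hp'
    have h1 := (hn s'⁻¹ (inv_mem hs') p).1 hp
    rwa [inv_inv] at h1
  have hbP : b ∈ PP cs X := by
    rw [hb]
    refine mul_mem ?_ hp
    have h1 := (hn s⁻¹ (inv_mem hs) p').1 hp'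
    rwa [inv_inv] at h1
  have e1 : s * p * (s' * p') = s * s' * a := by rw [ha]; group
  have e2 : s' * p' * (s * p) = s * s' * b := by rw [hab s hs s' hs', hb]; group
  have e : ⁅s * p, s' * p'⁆ = s * s' * (a * b⁻¹) * (s * s')⁻¹ := by
    calc ⁅s * p, s' * p'⁆ = s * p * (s' * p') * (s' * p' * (s * p))⁻¹ := by rw [commutatorElement_def]; group
      _ = _ := by rw [e1, e2]; group
  rw [e]
  exact (hn _ (mul_mem hs hs') _).1 (mul_mem haP (inv_mem hbP))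

end Abstract

section InG

open Cfsg.Agent.OddHalf.D7Out

variable {G : Type*} [Group G] {K : Subgroup G} {t v : G}
variable {W Y : Type*} [Group W] [Group Y] {cs : CoxeterSystem CoxeterMatrix.F₄ W} {T₀ : Subgroup Y} {n : Fin 4 → Y}
  {X : (Fin 4 → ℤ) → Subgroup Y}

/-- the embedding of `Y ≅ K` in `G` -/
def emb (e : Y ≃* ↥K) : Y →* G := K.subtype.comp e.toMonoidHom

theorem emb_injective (e : Y ≃* ↥K) : Function.Injective (emb e) := fun _ _ h =>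
  e.injective (Subtype.ext h)

theorem emb_mem (e : Y ≃* ↥K) (y : Y) : emb e y ∈ K := (e y).2

theorem exists_emb (e : Y ≃* ↥K) {x : G} (hx : x ∈ K) : ∃ y, emb e y = x :=
  ⟨e.symm ⟨x, hx⟩, by show ((e (e.symm ⟨x, hx⟩) : ↥K) : G) = x; rw [e.apply_symm_apply]⟩

/-- perfect subgroups of `C(t, z)` lie in `P` -/
theorem le_P {R : RGD cs isCartan 2 T₀ n X} (D : Dat R) (e : Y ≃* ↥K) (S : Front.FE.Start K t v)
    (hs : Cfsg.Agent.Schreier.Basic.Sch ↥K) (hG1 : RGD.Sup X {x | IsRoot cs isCartan x} = ⊤)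
    (hab : ∀ s ∈ T₀, ∀ s' ∈ T₀, s * s' = s' * s) {z : G} (hz : z ∈ (X rho).map (emb e)) (hz1 : z ≠ 1)
    {L : Subgroup G} (hL : ⁅L, L⁆ = L) (hLt : ∀ x ∈ L, x * t = t * x) (hLz : ∀ x ∈ L, x * z = z * x) :
    L ≤ (PP cs X).map (emb e) := by
  have hLK : L ≤ K := FrGen.perf_le S.toStart0 hs hLt hL
  obtain ⟨z, hz, rfl⟩ := hz
  have hmap : (L.comap (emb e)).map (emb e) = L := by
    apply le_antisymm (Subgroup.map_comap_le _ _)
    intro x hx
    obtain ⟨y, rfl⟩ := exists_emb e (hLK hx)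
    exact ⟨y, hx, rfl⟩
  have h1 : L.comap (emb e) ≤ PP cs X := by
    refine le_PP_of_perfect D hG1 hab hz (fun h => hz1 (by rw [h, map_one])) ?_ ?_
    · apply Subgroup.map_injective (emb_injective e)
      rw [Subgroup.map_commutator, hmap, hL]
    · intro x hx
      apply emb_injective e
      rw [map_mul, map_mul]
      exact hLz _ hx
  rw [← hmap]
  exact Subgroup.map_mono h1

/-- the output of the front: `D7Out.FrontCyc.Out` and the facts on `P = C(t, z)^∞` -/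
structure Out (t : G) (K P U Z T : Subgroup G) (n z : G) : Prop extends FrontCyc.Out t K U Z T n z where
  /-- `n` normalises `P` and `Z` -/
  nP : ∀ p, n * p * n⁻¹ ∈ P ↔ p ∈ P
  nZ : ∀ p ∈ Z, n * p * n⁻¹ ∈ Z
  perf : ⁅P, P⁆ = P
  /-- `P` is the perfect residual of `C(t, y)`, `1 ≠ y ∈ Z` -/
  max : ∀ y ∈ Z, y ≠ 1 → ∀ L : Subgroup G, ⁅L, L⁆ = L → (∀ x ∈ L, x * t = t * x) → (∀ x ∈ L, x * y = y * x) → L ≤ P
  Pt : ∀ p ∈ P, p * t = t * p
  PZ : ∀ p ∈ P, ∀ y ∈ Z, p * y = y * p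
  ZP : Z ≤ P
  /-- `Z = Z(P)` -/
  cP : ∀ g ∈ P, (∀ p ∈ P, p * g = g * p) → g ∈ Z

/-- **The front for a group with a root group datum of type `F₄` and long `ρ`.** -/
theorem front_of [Finite G] (hG : commutator G = ⊤) (S : Front.FE.Start K t v)
    (hs : Cfsg.Agent.Schreier.Basic.Sch ↥K) (hc : TwChoice.CycOut ↥K) (e : Y ≃* ↥K)
    {R : RGD cs isCartan 2 T₀ n X} (D : Dat R)
    (hG1 : RGD.Sup X {x | IsRoot cs isCartan x} = ⊤) (hab : ∀ s ∈ T₀, ∀ s' ∈ T₀, s * s' = s' * s)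
    (hk1 : K1 cs X) :
    v = t ∧ ∃ (T : Subgroup G) (m z : G), Out t K ((PP cs X).map (emb e))
      ((RGD.Sup X (RGD.Pos cs isCartan)).map (emb e)) ((X rho).map (emb e)) T m z := by
  have : Finite Y := Finite.of_injective _ (emb_injective e)
  obtain ⟨hv, T, m, z, hO⟩ := FrontCyc.front hG S ((kf D hG1 hk1).map e) hs hc
  subst hv
  rw [Subgroup.map_map, Subgroup.map_map] at hO
  change FrontCyc.Out v K ((RGD.Sup X (RGD.Pos cs isCartan)).map (emb e)) ((X rho).map (emb e)) T m z at hO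
  have hsw := hO.sw
  have hmax : ∀ y ∈ (X rho).map (emb e), y ≠ 1 → ∀ L : Subgroup G, ⁅L, L⁆ = L → (∀ x ∈ L, x * v = v * x) →
      (∀ x ∈ L, x * y = y * x) → L ≤ (PP cs X).map (emb e) := fun y hy hy1 L hL hLt hLz =>
    le_P D e S hs hG1 hab hy hy1 hL hLt hLz
  have hperf : ⁅(PP cs X).map (emb e), (PP cs X).map (emb e)⁆ = (PP cs X).map (emb e) := by
    rw [← Subgroup.map_commutator, perfect D]
  have hPt : ∀ p ∈ (PP cs X).map (emb e), p * v = v * p := by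
    rintro _ ⟨p, -, rfl⟩
    exact S.toStart0.Kt _ (emb_mem e p)
  have hPZ : ∀ p ∈ (PP cs X).map (emb e), ∀ y ∈ (X rho).map (emb e), p * y = y * p := by
    rintro _ ⟨p, hp, rfl⟩ _ ⟨y, hy, rfl⟩
    rw [← map_mul, ← map_mul, cen_PP D hy hp]
  have hnP := hsw.conj_P hperf hPt (fun p hp => hPZ p hp z hsw.zZ) (hmax z hsw.zZ hsw.z1)
  have hZP : (X rho).map (emb e) ≤ (PP cs X).map (emb e) :=
    Subgroup.map_mono (le_PP (rho_root cs) (by decide))
  have hcP : ∀ g ∈ (PP cs X).map (emb e), (∀ p ∈ (PP cs X).map (emb e), p * g = g * p) →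
      g ∈ (X rho).map (emb e) := by
    rintro _ ⟨g, hg, rfl⟩ hcg
    refine ⟨g, hk1 g fun x hx hx0 w hw => ?_, rfl⟩
    apply emb_injective e
    rw [map_mul, map_mul]
    exact (hcg _ ⟨w, le_PP hx hx0.le hw, rfl⟩).symm
  exact ⟨rfl, T, m, z, ⟨hO, hnP, FrontN.Swap.conj_Z hnP hZP (fun z hz p hp => hPZ p hp z hz) hcP, hperf, hmax, hPt,
    hPZ, hZP, hcP⟩⟩

end InG

/-! ### The instance `²E₆(q)` -/

section Inst

open Cfsg.Lie Cfsg.Agent.OddHalf.D7Out Cfsg.Agent.OddHalf.Iface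
open Cfsg.Agent.Nodes.RGDFold Cfsg.Agent.Nodes.RGDFoldSL Cfsg.Agent.Nodes.RGDTwNode.E6 Cfsg.Agent.KFacts.TwESix.Out
  Cfsg.Agent.KFacts.TwESix.NodeCoord

universe u

variable {F : Type u} [Field F] [Fintype F] {q : ℕ} {φ : F →+* F}

theorem card_lt (hφ : ∀ x, φ x = x ^ q) (hqq : ∀ t : F, (t ^ q) ^ q = t) (hF : Fintype.card F = q ^ 2)
    (hq1 : 1 < q) : Nat.card ↥(X φ q (sr 0)) < Nat.card ↥(X φ q (sr 3)) := by
  refine lt_of_le_of_ne ?_ (Cfsg.Agent.KFacts.TwESix.OutTwo.card_ne hφ hqq hF hq1).symm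
  rw [Cfsg.Agent.KFacts.TwESix.OutTwo.card_of_coord (Cfsg.Agent.KFacts.TwESix.Out.coordE hφ hqq 3),
    Cfsg.Agent.KFacts.TwESix.OutTwo.card_of_coord (Cfsg.Agent.KFacts.TwESix.Out.coordE hφ hqq 0)]
  have h1 : (Fx φ 2 : Subfield F) = ⊤ := Cfsg.Agent.KFacts.TwESix.Out.F2_eq_top hφ hqq
  have h2 : Nat.card (KF φ 3) = Nat.card F := by
    show Nat.card ↥(Fx φ 2) = _
    rw [h1]
    exact Nat.card_congr Subfield.topEquiv.toEquiv
  rw [h2]
  exact Nat.card_le_card_of_injective _ (Subtype.val_injective)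

/-- `Facts.Dat` for `²E₆(q)`, `q` even -/
theorem dat {W : Type*} [Group W] (cs : CoxeterSystem CoxeterMatrix.F₄ W) [CharP F 2] (hφ : ∀ x, φ x = x ^ q)
    (hqq : ∀ t : F, (t ^ q) ^ q = t) (hF : Fintype.card F = q ^ 2) (hq1 : 1 < q) : Dat (rgd cs hφ hqq 2) :=
  ⟨fun _ ha hl => Cfsg.Agent.KFacts.TwESix.Grp.lr_long cs hφ hqq 2 ha hl,
    Cfsg.Agent.KFacts.TwESix.NonComm.nc _ (fun _ ha hl => Cfsg.Agent.KFacts.TwESix.Grp.lr_long cs hφ hqq 2 ha hl)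
      (card_lt hφ hqq hF hq1)⟩

/-- the torus is abelian -/
theorem T_comm : ∀ s ∈ Cfsg.Agent.Nodes.RGDTwE6.T F q, ∀ s' ∈ Cfsg.Agent.Nodes.RGDTwE6.T F q, s * s' = s' * s := by
  intro s hs s' hs'
  apply Subtype.ext
  exact Cfsg.Agent.OddHalf.Small.ChevCent.diag_comm hp.inList (Subgroup.mem_subgroupOf.1 hs).1
    (Subgroup.mem_subgroupOf.1 hs').1

theorem cycOut [CharP F 2] (hq : IsPrimePow q) (hF : Fintype.card F = q ^ 2) :
    TwChoice.CycOut ↥(twistedE6 F q) := by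
  refine FrontCyc.cycOut_of_hom (A := F ≃+* F)
    (Cfsg.Agent.LieRecognition.FieldSemilinear.isCyclic_ringAut F) fun S hS => ?_
  obtain ⟨f, hf⟩ := Cfsg.Agent.KFacts.TwESix.OutMain.exists_hom hq hF (MulEquiv.refl _) 2 hS
  exact ⟨f, fun α h => (hf α).1 h⟩

theorem center_eq_bot {X : Type*} [Group X] (h1 : IsSimpleGroup X) (h2 : ¬ IsMulCommutative X) :
    Subgroup.center X = ⊥ := by
  rcases (inferInstance : (Subgroup.center X).Normal).eq_bot_or_eq_top with h | h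
  · exact h
  · exfalso
    apply h2
    refine ⟨⟨fun a b => ?_⟩⟩
    have : a ∈ Subgroup.center X := by rw [h]; exact Subgroup.mem_top a
    exact (Subgroup.mem_center_iff.1 this b).symm

/-- **The front for `K ≅ ²E₆(q)`.** -/
theorem front {G : Type*} [Group G] (C : Ctx G) {K : Subgroup G} (S : Std G K) (hcyc : Cyc K)
    {W : Type*} [Group W] (cs : CoxeterSystem CoxeterMatrix.F₄ W) [CharP F 2]
    (hφ : ∀ x, φ x = x ^ q) (hqq : ∀ t : F, (t ^ q) ^ q = t) (hq : IsPrimePow q) (hF : Fintype.card F = q ^ 2)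
    (e : ↥(twistedE6 F q) ≃* ↥K) (hk1 : K1 cs (X φ q)) :
    ∃ (t : G) (T : Subgroup G) (m z : G), Cfsg.Agent.OddHalf.Front.FE.Start K t t ∧
      Out t K ((PP cs (X φ q)).map (emb e)) ((RGD.Sup (X φ q) (RGD.Pos cs isCartan)).map (emb e))
        ((X φ q rho).map (emb e)) T m z := by
  have := C.fin
  obtain ⟨h1, h2⟩ := Cfsg.Agent.S1070.result (K := F) hq hF
  have hcen : Subgroup.center ↥K = ⊥ := by
    apply center_eq_bot
    · exact e.symm.isSimpleGroup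
    · intro h3
      apply h2
      refine ⟨⟨fun a b => e.injective ?_⟩⟩
      rw [map_mul, map_mul]
      exact h3.is_comm.comm _ _
  obtain ⟨t, v, h⟩ := Cfsg.Agent.OddHalf.Front.FE.exists_start C S hcyc hcen
  obtain ⟨hv, T, m, z, hT⟩ := front_of (Cfsg.Agent.OddHalf.Front.FE.commutator_eq_top C) h
    ((Cfsg.Agent.Schreier.TwESix.sch hq hF).of_equiv e) ((cycOut hq hF).of_equiv e) e
    (dat cs hφ hqq hF hq.one_lt) (G1_eq_top cs hφ hqq) T_comm hk1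
  subst hv
  exact ⟨v, T, m, z, h, hT⟩

end Inst

end Cfsg.Agent.OddHalf.D7Tw.Front
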