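import Cfsg.Agent.OddHalf.D7Tw.FamOf
import Cfsg.Agent.OddHalf.D7Out.CzComp
import Cfsg.Agent.OddHalf.CaseM.End
import Cfsg.Agent.OddHalf.D8.MainE

/-!
# THEOREM H for `K = ²E₆(q)`: the components of `C_G(z)` (helper756)

* `Base.czData`: the data of `D7Out/CzComp` for `H = C_G(z)`, `1 ≠ z ∈ X ρ`.
* `Base.component`: a component `M` of `C_G(z)` is normal, unique, contains `P` and `W ρ`, and
  `C_G(M) ≤ M ∩ W ρ`.
-/

set_option autoImplicit false

namespace Cfsg.Agent.OddHalf.D7Tw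

open Subgroup Cfsg
open Cfsg.Agent.OddHalf.Iface
open Cfsg.Agent.SignalizersComponents.Components
open scoped commutatorElement

universe u

variable {L : Type*} [AddCommGroup L] {G : Type u} [Group G]
variable {t : G} {K : Subgroup G} {B : L → L → ℤ} {Φ : Set L} {X W : L → Subgroup G} {ρ : L} {P Q : Subgroup G}

theorem mem_cent {z x : G} : x ∈ centralizer ({z} : Set G) ↔ x * z = z * x := mem_centralizer_singleton_iff

/-- a perfect subgroup of a larger group -/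
theorem perf_subgroupOf {P H : Subgroup G} (hPH : P ≤ H) (hP : ⁅P, P⁆ = P) :
    ⁅P.subgroupOf H, P.subgroupOf H⁆ = P.subgroupOf H := by
  apply map_injective H.subtype_injective
  rw [map_commutator, subgroupOf_map_subtype, inf_eq_left.2 hPH, hP]

theorem perf_map {H : Subgroup G} {D : Subgroup ↥H} (hD : ⁅D, D⁆ = D) :
    ⁅D.map H.subtype, D.map H.subtype⁆ = D.map H.subtype := by
  rw [← map_commutator, hD]

/-- elements of `E C(E)` induce inner automorphisms on `E` -/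
theorem inner_of_sup {H : Type*} [Group H] {E : Subgroup H} {p : H} (h : p ∈ E ⊔ centralizer (E : Set H)) :
    ∃ e ∈ E, ∀ x ∈ E, p * x * p⁻¹ = e * x * e⁻¹ := by
  let S : Subgroup H :=
    { carrier := {p | ∃ e ∈ E, ∀ x ∈ E, p * x * p⁻¹ = e * x * e⁻¹}
      one_mem' := ⟨1, one_mem _, fun x _ => rfl⟩
      mul_mem' := by
        rintro p q ⟨e, he, h1⟩ ⟨f, hf, h2⟩
        refine ⟨e * f, mul_mem he hf, fun x hx => ?_⟩
        calc p * q * x * (p * q)⁻¹ = p * (q * x * q⁻¹) * p⁻¹ := by group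
          _ = p * (f * x * f⁻¹) * p⁻¹ := by rw [h2 x hx]
          _ = e * (f * x * f⁻¹) * e⁻¹ := h1 _ (mul_mem (mul_mem hf hx) (inv_mem hf))
          _ = e * f * x * (e * f)⁻¹ := by group
      inv_mem' := by
        rintro p ⟨e, he, h1⟩
        refine ⟨e⁻¹, inv_mem he, fun x hx => ?_⟩
        have h2 := h1 (e⁻¹ * x * e) (mul_mem (mul_mem (inv_mem he) hx) he)
        have h3 : p * (e⁻¹ * x * e) * p⁻¹ = x := by rw [h2]; group
        calc p⁻¹ * x * p⁻¹⁻¹ = p⁻¹ * (p * (e⁻¹ * x * e) * p⁻¹) * p := by rw [h3]; group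
          _ = e⁻¹ * x * e⁻¹⁻¹ := by group }
  have h1 : E ⊔ centralizer (E : Set H) ≤ S := by
    refine sup_le (fun e he => ⟨e, he, fun x _ => rfl⟩) fun y hy => ⟨1, one_mem _, fun x hx => ?_⟩
    have h2 : x * y = y * x := mem_centralizer_iff.1 hy x hx
    rw [← h2]; group
  exact h1 h

namespace Base

theorem P_le (D : Base t K B Φ X W ρ P Q) {z : G} (hz : z ∈ X ρ) : P ≤ centralizer ({z} : Set G) :=
  fun _ hp => mem_cent.2 (D.P_z hp hz)

theorem V_le (D : Base t K B Φ X W ρ P Q) {z : G} (hz : z ∈ X ρ) : W ρ ≤ centralizer ({z} : Set G) := by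
  intro w hw
  exact mem_cent.2 (D.W_comm D.hρ hw (D.dbl.XW ρ D.hρ hz))

theorem Q_le (D : Base t K B Φ X W ρ P Q) {z : G} (hz : z ∈ X ρ) : Q ≤ centralizer ({z} : Set G) :=
  D.QP.trans (D.P_le hz)

theorem z_t (D : Base t K B Φ X W ρ P Q) {z : G} (hz : z ∈ X ρ) : z * t = t * z := D.Xt D.hρ hz

/-- the root `ρ - s` -/
theorem sub_mem' (D : Base t K B Φ X W ρ P Q) {s : L} (hs : s ∈ Φ) (h : B s ρ = 1) :
    ρ - s ∈ Φ ∧ B s (ρ - s) = -1 ∧ B (ρ - s) ρ = 1 ∧ s + (ρ - s) = ρ := by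
  refine ⟨D.roots.sub_mem D.hρ hs (by rw [D.roots.symm]; exact h), ?_, ?_, by abel⟩
  · rw [D.roots.sub_right, h, D.roots.two s hs]; norm_num
  · rw [D.roots.sub_left, h, D.roots.two ρ D.hρ]; norm_num

/-- **the data of `D7Out/CzComp`** -/
theorem czData [Finite G] (D : Base t K B Φ X W ρ P Q) {z : G} (hz : z ∈ X ρ) (hz1 : z ≠ 1)
    (c : Cen t z (X ρ) P Q) (hcore : pPrimeCore 2 ↥(centralizer ({z} : Set G)) = ⊥)
    (hsch : ∀ E : Subgroup ↥(centralizer ({z} : Set G)), IsComponent E →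
      (∀ p ∈ P.subgroupOf (centralizer ({z} : Set G)), ∀ e ∈ E, p * e * p⁻¹ ∈ E) →
      ∀ p ∈ P.subgroupOf (centralizer ({z} : Set G)), ∃ e ∈ E, ∀ x ∈ E, p * x * p⁻¹ = e * x * e⁻¹) :
    D7Out.Cz.Data (⟨t, mem_cent.2 (D.z_t hz).symm⟩ : ↥(centralizer ({z} : Set G)))
      (⟨z, mem_cent.2 rfl⟩ : ↥(centralizer ({z} : Set G)))
      (P.subgroupOf (centralizer ({z} : Set G))) (Q.subgroupOf (centralizer ({z} : Set G)))
      ((X ρ).subgroupOf (centralizer ({z} : Set G))) ((W ρ).subgroupOf (centralizer ({z} : Set G))) where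
  tt := Subtype.ext D.tt
  z1 := fun h => hz1 (congrArg Subtype.val h)
  zZ := hz
  core := hcore
  perf := perf_subgroupOf (D.P_le hz) D.perf
  Pt := fun p hp => Subtype.ext (D.Pt hp)
  top := by
    intro E hE hEt
    have h1 : E.map (centralizer ({z} : Set G)).subtype ≤ P := by
      refine c.top _ (perf_map hE) ?_ ?_
      · rintro _ ⟨d, hd, rfl⟩
        exact congrArg Subtype.val (hEt d hd)
      · rintro _ ⟨d, hd, rfl⟩
        exact mem_cent.1 d.2
    intro d hd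
    exact h1 ⟨d, hd, rfl⟩
  tP := fun h => D.tK (D.PK h)
  QP := comap_mono D.QP
  Q2 := by
    have h1 := D.Q2
    exact h1.comap_of_injective _ (centralizer ({z} : Set G)).subtype_injective
  norQ := fun x hx y hy => c.norQ x (congrArg Subtype.val hx) (mem_cent.1 x.2) y hy
  cenQ := by
    intro x hx h
    exact c.cenQ x (congrArg Subtype.val hx) (mem_cent.1 x.2) fun y hy =>
      congrArg Subtype.val (h ⟨y, D.Q_le hz hy⟩ hy)
  ZQ := comap_mono D.ZX
  nrm := by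
    intro N hN hNp hN1 hNn
    have h1 : Q ≤ N.map (centralizer ({z} : Set G)).subtype := by
      refine D.nrm _ ?_ (perf_map hNp) ?_ ?_
      · rintro _ ⟨n, hn, rfl⟩
        exact hN hn
      · intro h
        exact hN1 ((Subgroup.map_eq_bot_iff_of_injective _ (centralizer ({z} : Set G)).subtype_injective).1 h)
      · rintro p hp _ ⟨n, hn, rfl⟩
        exact ⟨_, hNn ⟨p, D.P_le hz hp⟩ hp n hn, rfl⟩
    intro y hy
    obtain ⟨n, hn, hny⟩ := h1 hy
    have : n = y := Subtype.ext hny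
    rwa [← this]
  gen := by
    set H := centralizer ({z} : Set G) with hH
    intro p hp
    have h1 : P ≤ (closure {c | ∃ w : ↥H, c = w * (⟨t, mem_cent.2 (D.z_t hz).symm⟩ : ↥H) * w⁻¹ *
        (⟨t, mem_cent.2 (D.z_t hz).symm⟩ : ↥H)⁻¹}).map H.subtype := by
      refine D.Pgen.trans ?_
      rw [closure_le]
      rintro _ ⟨g, hg, s, hs, hsρ, x, hx, rfl⟩
      obtain ⟨w, hw, hwx⟩ := D.dbl.surj s hs x hx
      have hwH : g * w⁻¹ * g⁻¹ ∈ H :=
        mul_mem (mul_mem (D.P_le hz hg) (inv_mem (mem_cent.2 (D.W_z hs hsρ hw hz)))) (inv_mem (D.P_le hz hg))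
      refine ⟨_, subset_closure ⟨⟨g * w⁻¹ * g⁻¹, hwH⟩, rfl⟩, ?_⟩
      have hgt : g * t = t * g := D.Pt hg
      have hgit : g⁻¹ * t = t * g⁻¹ := by
        rw [inv_mul_eq_iff_eq_mul, ← mul_assoc, hgt, mul_assoc, mul_inv_cancel, mul_one]
      show g * w⁻¹ * g⁻¹ * t * (g * w⁻¹ * g⁻¹)⁻¹ * t⁻¹ = g * x * g⁻¹
      rw [← hwx, D.tinv]
      calc g * w⁻¹ * g⁻¹ * t * (g * w⁻¹ * g⁻¹)⁻¹ * t
          = g * w⁻¹ * (g⁻¹ * t) * g * w * (g⁻¹ * t) := by group
        _ = g * w⁻¹ * (t * g⁻¹) * g * w * (t * g⁻¹) := by rw [hgit]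
        _ = g * (w⁻¹ * (t * w * t)) * g⁻¹ := by group
    obtain ⟨y, hy, hyp⟩ := h1 hp
    have : y = p := Subtype.ext hyp
    rwa [← this]
  V2 := fun w hw => Subtype.ext (D.dbl.sq ρ D.hρ w hw)
  ZV := comap_mono (D.dbl.XW ρ D.hρ)
  VP := fun w hw p hp => Subtype.ext (D.WP w hw p hp)
  Vt := fun w hw => by
    show t * w * t⁻¹ ∈ W ρ
    rw [D.tinv]
    exact D.dbl.conj_t ρ D.hρ w hw
  Vfix := fun w hw h => (D.dbl.cent ρ D.hρ w hw).1 (congrArg Subtype.val h).symm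
  Vsurj := by
    intro x hx
    obtain ⟨w, hw, hwx⟩ := D.dbl.surj ρ D.hρ x hx
    refine ⟨⟨w⁻¹, inv_mem (D.V_le hz hw)⟩, inv_mem hw, Subtype.ext ?_⟩
    show w⁻¹ * t * w⁻¹⁻¹ * t⁻¹ = x
    rw [← hwx, D.tinv]
    group
  Vgen := by
    set H := centralizer ({z} : Set G) with hH
    intro v hv
    obtain ⟨s, hs, hsρ⟩ := D.ex1
    obtain ⟨ha, hB, haρ, hsum⟩ := D.sub_mem' hs hsρ
    obtain ⟨y, hy, hy1⟩ := D.exists_ne ha
    obtain ⟨x, hx, hxz⟩ := D.Xsurj s hs _ ha hB y hy hy1 z (by rw [hsum]; exact hz)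
    have hv' : (v : G) ∈ W (s + (ρ - s)) := by rw [hsum]; exact hv
    obtain ⟨w, hw, x0, hx0, hvw⟩ := D.lift hs ha hB hy hy1 hv'
    have hxP : x ∈ P := D.XP s hs (by rw [hsρ]; norm_num) hx
    have hyP : y ∈ P := D.XP _ ha (by rw [haρ]; norm_num) hy
    have hx0P : x0 ∈ P := by
      rw [hsum] at hx0
      exact D.QP (D.ZX hx0)
    have hwH : w ∈ H := mem_cent.2 (D.W_z hs (by rw [hsρ]; norm_num) hw hz)
    have e : v = (⟨x0, D.P_le hz hx0P⟩ : ↥H) * (⟨w, hwH⟩ * ⟨y, D.P_le hz hyP⟩ * (⟨w, hwH⟩ : ↥H)⁻¹ *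
        (⟨y, D.P_le hz hyP⟩ : ↥H)⁻¹) := Subtype.ext hvw
    rw [e]
    refine mul_mem (subset_closure (Or.inr hx0P)) (subset_closure (Or.inl ?_))
    refine ⟨⟨w, hwH⟩, ⟨x, D.P_le hz hxP⟩, ⟨y, D.P_le hz hyP⟩, hxP, Subtype.ext ?_, ⟨⟨y, D.P_le hz hyP⟩, hyP, ?_⟩,
      hyP, rfl⟩
    · exact D.W_comm hs hw (D.dbl.XW s hs hx)
    · intro h
      have h1 : x * y = y * x := congrArg Subtype.val h
      apply hz1
      rw [← hxz, h1]
      group
  sch := hsch

/-- **the components of `C_G(z)`** -/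
theorem component [Finite G] (D : Base t K B Φ X W ρ P Q) (C : Ctx G)
    (hSch : Cfsg.Agent.Schreier.Cases.SchFor.{u} @IsKnownSimple') {z : G} (hz : z ∈ X ρ) (hz1 : z ≠ 1)
    (c : Cen t z (X ρ) P Q) {M : Subgroup ↥(centralizer ({z} : Set G))} (hM : IsComponent M) :
    P ≤ M.map (centralizer ({z} : Set G)).subtype ∧ W ρ ≤ M.map (centralizer ({z} : Set G)).subtype ∧
      (∀ M' : Subgroup ↥(centralizer ({z} : Set G)), IsComponent M' → M' = M) ∧ M.Normal ∧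
      centralizer (M : Set ↥(centralizer ({z} : Set G))) ≤ M ∧
      pCore 2 ↥(centralizer ({z} : Set G)) ≤ (W ρ).subgroupOf (centralizer ({z} : Set G)) ∧
      IsPGroup 2 (centralizer (M : Set ↥(centralizer ({z} : Set G)))) := by
  have hzz : z * z = 1 := D.dbl.sq ρ D.hρ z (D.dbl.XW ρ D.hρ hz)
  have ho : orderOf z = 2 := orderOf_eq_prime (by rw [pow_two]; exact hzz) hz1
  have hd := D.czData hz hz1 c (D8.MainE.core_eq_bot C ho) (by
    intro E hE hn p hp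
    have hle : P.subgroupOf (centralizer ({z} : Set G)) ≤
        E ⊔ centralizer (E : Set ↥(centralizer ({z} : Set G))) := by
      have hcomp := CaseM.compOf_map hE
      have hSchM : Cfsg.Agent.Schreier.Basic.Sch (↥E ⧸ center ↥E) := by
        have e : ↥(E.map (centralizer ({z} : Set G)).subtype) ≃* ↥E :=
          (E.equivMapOfInjective _ (centralizer ({z} : Set G)).subtype_injective).symm
        exact Cfsg.Agent.Schreier.Balance.sch_center_quotient e (CaseM.sch_of_comp C hSch ho hcomp)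
      refine CaseM.le_sup_centralizer hE.2.1 hSchM (perf_subgroupOf (D.P_le hz) D.perf) ?_
      intro p hp
      ext x
      rw [Cfsg.Agent.Cit.mem_cj]
      constructor
      · intro hx
        have h1 := hn p hp _ hx
        have e : p * (p⁻¹ * x * p) * p⁻¹ = x := by group
        rwa [e] at h1
      · intro hx
        have h1 := hn p⁻¹ (inv_mem hp) _ hx
        rwa [inv_inv] at h1
    exact inner_of_sup (hle hp))
  obtain ⟨h1, h2, h3, h4, h5, h6, h7⟩ := hd.component hM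
  refine ⟨?_, ?_, h3, h4, h5, h6, h7⟩
  · intro p hp
    exact ⟨⟨p, D.P_le hz hp⟩, h1 hp, rfl⟩
  · intro w hw
    exact ⟨⟨w, D.V_le hz hw⟩, h2 hw, rfl⟩

end Base

end Cfsg.Agent.OddHalf.D7Tw
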