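import Cfsg.Agent.OddHalf.D7Tw.Long
import Cfsg.Agent.OddHalf.SL.Main

/-!
# `²E₆(q)`: the doubling theorem for the long root groups (helper887)

* `exists_delta`, `big` : torus elements, `SL.Defs.Big`;
* `h1`, `h0`, `hm` : the centraliser hypotheses of `SL.General.PreY` from `K1` (`C(Q_r)`) and `K2` (`C(Q_r Q_s)`);
* `preY`, `dbl` : `PreY` and the conclusion `SL.Defs.Dbl`.
-/

set_option autoImplicit false
set_option linter.unusedSectionVars false
set_option linter.style.haveILetI false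

namespace Cfsg.Agent.OddHalf.D7Tw.Pre

open CoxeterSystem Cfsg.Agent.ChevalleyStructure.CoxeterGeom Cfsg.Agent.Tits.Roots Cfsg.Agent.Tits.Core
  Cfsg.Agent.Tits.RootComb Cfsg.Agent.Nodes.Reps Cfsg.Agent.Nodes.BNOf Cfsg.Agent.Nodes.Coroot
  Cfsg.Agent.Nodes.Bruhat Cfsg.Agent.Nodes.OppDec
  Cfsg.Agent.KFacts.RgdSL Cfsg.Agent.KFacts.RgdTI Cfsg.Agent.KFacts.RgdOdd Cfsg.Agent.KFacts.RgdEx
  Cfsg.Agent.Nodes.RGDTwE6 Cfsg.Agent.KFacts.TwESix.Comb Cfsg.Agent.KFacts.TwESix.CombRho
  Cfsg.Agent.KFacts.TwESix.Facts Cfsg.Agent.OddHalf.SL.Defs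
  Cfsg.Agent.OddHalf.D7Tw Cfsg.Agent.OddHalf.D7Tw.Orbit Cfsg.Agent.OddHalf.D7Tw.DFour
  Cfsg.Agent.OddHalf.D7Tw.Long
open scoped commutatorElement

variable {W G : Type*} [Group W] [Group G] {cs : CoxeterSystem CoxeterMatrix.F₄ W} {T : Subgroup G} {n : Fin 4 → G}
  {X : (Fin 4 → ℤ) → Subgroup G} {R : RGD cs isCartan 2 T n X}

/-! ### Combinatorics -/

/-- a short root and a long root -/
theorem short_long : ∀ a ∈ rts, bf a a = 2 → ∀ b ∈ rts, bf b b = 4 → bf a b = 2 ∨ bf a b = 0 ∨ bf a b = -2 := by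
  decide +kernel

/-- `r ⟂ s` long, `a` short with `⟨a, r⟩ > 0 > ⟨a, s⟩`: `a = l + y`, `l` and `l + 2y` long of the same kind, `y` short
orthogonal to `r` and `s` -/
theorem split : ∀ r ∈ lg, ∀ s ∈ lg, B r s = 0 → ∀ a ∈ rts, bf a a = 2 → bf a (c r) = 2 → bf a (c s) = -2 →
    ∃ l ∈ lg, B l r = 1 ∧ B l s = -1 ∧ a - c l ∈ rts ∧ bf (a - c l) (a - c l) = 2 ∧
      bf (c l) (a - c l) = -2 ∧ bf (a - c l) (c r) = 0 ∧ bf (a - c l) (c s) = 0 ∧
      a + (a - c l) ∈ rts ∧ bf (a + (a - c l)) (a + (a - c l)) = 4 := by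
  decide +kernel

/-! ### Torus elements -/

include R in
/-- A torus element of a long root. -/
theorem exists_delta (D : Dat R) {a : Fin 4 → ℤ} (ha : a ∈ Phi) {u u' : G} (hu : u ∈ XL X a)
    (hu' : u' ∈ XL X a) (hu1 : u ≠ 1) (hu1' : u' ≠ 1) (hne : u ≠ u') :
    ∃ δ ∈ T, (∀ b ∈ Phi, B a b = -1 → ∀ x ∈ XL X b, δ * x = x * δ → x = 1) ∧
      ∀ b ∈ Phi, B a b = 0 → ∀ x ∈ XL X b, δ * x = x * δ := by
  have : Finite W := finiteW cs
  have har := root cs ha
  obtain ⟨s, hs, y, hy, d, hd, m, hm, he⟩ := exists_mu R har hu hu1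
  obtain ⟨s', hs', y', hy', d', hd', m', hm', he'⟩ := exists_mu R har hu' hu1'
  have hss : s = s' := by
    have : s'⁻¹ * s = 1 := by
      refine eq_one_of_fix cs isCartan _ fun i => ?_
      have h3 : rep cs isCartan s (sr i) = rep cs isCartan s' (sr i) := by rw [hs, hs']
      show rep cs isCartan (s'⁻¹ * s) (sr i) = sr i
      rw [rep_mul_apply, h3, rep_inv_apply]
    exact (inv_mul_eq_one.1 this).symm
  subst hss
  refine ⟨m'⁻¹ * m, hm'.unique hm, ?_, ?_⟩
  · intro b hb hab x hx hcomm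
    have hA := a2_of cs ha hb hab
    have e1 := hA.comm_eq R hu hx hy hd hs hm he
    have e2 := hA.comm_eq R hu' hx hy' hd' hs' hm' he'
    by_contra hx1
    apply hne
    have e3 : ⁅u, x⁆ = ⁅u', x⁆ := by
      rw [e1, e2]
      have h1 : m * x * m⁻¹ = m' * (m'⁻¹ * m * x) * m⁻¹ := by group
      rw [h1, hcomm]; group
    have e4 : ⁅x, u⁆ = ⁅x, u'⁆ := by
      rw [← commutatorElement_inv, e3, commutatorElement_inv]
    exact hA.symm.comm_inj R hx hx1 hu hu' e4
  · intro b hb hab x hx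
    have hbr := root cs hb
    have hbl := long hb
    have hx' : x ∈ X (c b) := hx
    have k1 : ∀ y ∈ X (c a), Commute y x := fun y hy =>
      comm_long D har hbr hbl (by rw [bf_c, hab]; norm_num) hy hx'
    have k2 : ∀ y ∈ X (-(c a)), Commute y x := fun y hy =>
      comm_long D har.neg hbr hbl (by rw [bf_neg_left, bf_c, hab]; norm_num) hy hx'
    have k3 : Commute m x := by
      rw [he]
      exact ((k2 y hy).mul_left (k1 u hu)).mul_left (k2 d hd)
    have k4 : Commute m' x := by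
      rw [he']
      exact ((k2 y' hy').mul_left (k1 u' hu')).mul_left (k2 d' hd')
    exact (k4.inv_left.mul_left k3).eq

/-- **`Big`** -/
theorem big {t : G} {V : (Fin 4 → ℤ) → Subgroup G} (D : Dat R) (DV : YO R t rho V)
    (tT : ∀ δ ∈ T, δ * t = t * δ)
    (three : ∀ r ∈ Phi, ∀ x ∈ XL X r, ∃ y ∈ XL X r, y ≠ 1 ∧ y ≠ x) :
    Big t B Phi (XL X) (XL V) := by
  have hnT : ∀ δ ∈ T, ∀ r ∈ Phi, ∀ w ∈ XL V r, δ * w * δ⁻¹ ∈ XL V r := by
    intro δ hδ r hr w hw
    have := DV.eqv 1 δ (rp_of_mem (cs := cs) (hN := R.nsys) hδ) (c r) (c_mem_O hr) w hw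
    rwa [map_one, Module.End.one_apply] at this
  have hcard : ∀ r ∈ Phi, ∃ x ∈ XL X r, ∃ y ∈ XL X r, x ≠ 1 ∧ y ≠ 1 ∧ x ≠ y := by
    intro r hr
    obtain ⟨x, hx, hx1, -⟩ := three r hr 1 (one_mem _)
    obtain ⟨y, hy, hy1, hyx⟩ := three r hr x hx
    exact ⟨x, hx, y, hy, hx1, hy1, hyx.symm⟩
  constructor
  · intro r hr s hs hrs
    obtain ⟨m, hm, hmr, hms⟩ := lg_three r hr s hs hrs
    have hm' : -m ∈ Phi := lg_neg m hm
    obtain ⟨u, hu, u', hu', hu1, hu1', hne⟩ := hcard (-m) hm'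
    obtain ⟨δ, hδ, h1, h2⟩ := exists_delta D hm' hu hu' hu1 hu1' hne
    refine ⟨δ, tT δ hδ, ?_, hnT δ hδ r hr, hnT δ hδ s hs, ?_, ?_⟩
    · exact h2 (r - s) (roots.sub_mem hr hs hrs) (by rw [roots.neg_left, roots.sub_right, hmr, hms]; norm_num)
    · exact h1 r hr (by rw [roots.neg_left, hmr])
    · exact h1 s hs (by rw [roots.neg_left, hms])
  · intro r hr s hs hrs
    obtain ⟨m, hm, hmr, hms⟩ := lg_three r hr s hs hrs
    have hmr' : m - r ∈ Phi := roots.sub_mem hm hr hmr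
    have hrr := roots.two r hr
    have hss := roots.two s hs
    obtain ⟨u, hu, u', hu', hu1, hu1', hne⟩ := hcard (m - r) hmr'
    obtain ⟨δ, hδ, h1, h2⟩ := exists_delta D hmr' hu hu' hu1 hu1' hne
    refine ⟨δ, tT δ hδ, ?_, hnT δ hδ r hr, hnT δ hδ s hs, ?_, ?_⟩
    · exact h2 s hs (by rw [roots.sub_left, hms, hrs]; norm_num)
    · intro x hx
      have := R.tor (c (r - s)) (root cs (roots.sub_mem hr hs hrs)) δ hδ
      show δ * x * δ⁻¹ ∈ X (c (r - s))
      rw [← this]
      exact conj_mem_cj.2 hx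
    · refine h1 (r - s) (roots.sub_mem hr hs hrs) ?_
      rw [roots.sub_left, roots.sub_right, roots.sub_right, hmr, hms, hrr, hrs]
      norm_num

/-! ### The centralisers -/

section Cent

variable {t : G}

/-- `C_{C(t)}(Q_r) ≤ ⟨t⟩ X_r` -/
def K1 (cs : CoxeterSystem CoxeterMatrix.F₄ W) (X : (Fin 4 → ℤ) → Subgroup G) (t : G) : Prop :=
  ∀ r, IsRoot cs isCartan r → bf r r = 4 → ∀ k, k * t = t * k →
    (∀ a, IsRoot cs isCartan a → 0 < cpr cs isCartan a r → ∀ x ∈ X a, k * x = x * k) →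
    ∃ z ∈ X r, k = z ∨ k = t * z

/-- `C_{C(t)}(Q_r Q_s) ≤ ⟨t⟩ X_r X_s`, `r`, `s` at 60 degrees -/
def K2 (cs : CoxeterSystem CoxeterMatrix.F₄ W) (X : (Fin 4 → ℤ) → Subgroup G) (t : G) : Prop :=
  ∀ r s, IsRoot cs isCartan r → IsRoot cs isCartan s → bf r r = 4 → bf s s = 4 → bf r s = 2 →
    ∀ k, k * t = t * k →
    (∀ a, IsRoot cs isCartan a → 0 < cpr cs isCartan a r + cpr cs isCartan a s → ∀ x ∈ X a, k * x = x * k) →
    ∃ x ∈ X r, ∃ y ∈ X s, k = x * y ∨ k = t * (x * y)

theorem two_cpr {a : Fin 4 → ℤ} {r : Fin 4 → ℤ} (hr : r ∈ Phi) : 2 * cpr cs isCartan a (c r) = bf a (c r) :=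
  cpr_c cs a hr

theorem h1 (hK : K2 cs X t) : ∀ r ∈ Phi, ∀ s ∈ Phi, B r s = 1 → ∀ k, k * t = t * k →
    (∀ y ∈ YY cs X r s, k * y = y * k) → ∃ x ∈ XL X r, ∃ y ∈ XL X s, k = x * y ∨ k = t * (x * y) := by
  intro r hr s hs hrs k hkt hk
  refine hK (c r) (c s) (root cs hr) (root cs hs) (long hr) (long hs) (by rw [bf_c, hrs]; norm_num) k hkt ?_
  intro a ha hpos x hx
  have e1 := two_cpr (cs := cs) (a := a) hr
  have e2 := two_cpr (cs := cs) (a := a) hs
  refine hk x ⟨a, ha, ?_, ?_, hx⟩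
  · by_contra hneg
    rcases neg_cases a ((mem_rts cs).1 ha) _ ((mem_rts cs).1 (root cs hr)) (long hr) (by omega) with h4 | h4
    · have h5 : bf a (c s) = 4 := by
        rcases norm cs ha with hn | hn
        · obtain ⟨b, hb, rfl⟩ := exists_phi cs ha hn
          have h6 := roots.le b hb s hs
          rw [bf_c] at h4 e2 ⊢
          omega
        · rcases short_long a ((mem_rts cs).1 ha) hn _ ((mem_rts cs).1 (root cs hs)) (long hs) with h6 | h6 | h6 <;>
            omega
      rcases norm cs ha with hn | hn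
      · obtain ⟨b, hb, rfl⟩ := exists_phi cs ha hn
        have h6 : B b s = 2 := by
          rw [bf_c] at h5
          omega
        have h7 := roots.eq b hb s hs h6
        subst h7
        rw [bf_c, roots.symm, hrs] at h4
        omega
      · rcases short_long a ((mem_rts cs).1 ha) hn _ ((mem_rts cs).1 (root cs hs)) (long hs) with h6 | h6 | h6 <;>
          omega
    · have h5 : bf a (c s) = -2 := by rw [h4, bf_neg_left, bf_c, hrs]; norm_num
      have h6 : bf a (c r) = -4 := by rw [h4, bf_neg_left, long hr]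
      omega
  · by_contra hneg
    rcases neg_cases a ((mem_rts cs).1 ha) _ ((mem_rts cs).1 (root cs hs)) (long hs) (by omega) with h4 | h4
    · have h5 : bf a (c r) = 4 := by
        rcases norm cs ha with hn | hn
        · obtain ⟨b, hb, rfl⟩ := exists_phi cs ha hn
          have h6 := roots.le b hb r hr
          rw [bf_c] at h4 e1 ⊢
          omega
        · rcases short_long a ((mem_rts cs).1 ha) hn _ ((mem_rts cs).1 (root cs hr)) (long hr) with h6 | h6 | h6 <;>
            omega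
      rcases norm cs ha with hn | hn
      · obtain ⟨b, hb, rfl⟩ := exists_phi cs ha hn
        have h6 : B b r = 2 := by
          rw [bf_c] at h5
          omega
        have h7 := roots.eq b hb r hr h6
        subst h7
        rw [bf_c, hrs] at h4
        omega
      · rcases short_long a ((mem_rts cs).1 ha) hn _ ((mem_rts cs).1 (root cs hr)) (long hr) with h6 | h6 | h6 <;>
          omega
    · have h5 : bf a (c r) = -2 := by rw [h4, bf_neg_left, bf_comm, bf_c, hrs]; norm_num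
      have h6 : bf a (c s) = -4 := by rw [h4, bf_neg_left, long hs]
      omega

theorem h0 (D : Dat R) (hK : K1 cs X t) : ∀ r ∈ Phi, ∀ s ∈ Phi, B r s = 0 → ∀ k, k * t = t * k →
    (∀ y ∈ YY cs X r s, k * y = y * k) →
    (∀ a ∈ Phi, B a r = 1 → B a s = -1 → ∀ y ∈ XL X a, k * y = y * k) →
    (∀ a ∈ Phi, B a r = -1 → B a s = 1 → ∀ y ∈ XL X a, k * y = y * k) →
    ∃ x ∈ XL X r, ∃ y ∈ XL X s, k = x * y ∨ k = t * (x * y) := by
  intro r hr s hs hrs k hkt hk hl _
  obtain ⟨z, hz, hkz⟩ := hK (c r) (root cs hr) (long hr) k hkt (by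
    intro a ha hpos x hx
    have e1 := two_cpr (cs := cs) (a := a) hr
    by_cases h1 : 0 ≤ bf a (c s)
    · exact hk x ⟨a, ha, by omega, h1, hx⟩
    rcases norm cs ha with hn | hn
    · obtain ⟨b, hb, rfl⟩ := exists_phi cs ha hn
      rw [bf_c] at h1 e1
      have h2 := roots.le b hb r hr
      have h3 := roots.ge hb hs
      have h4 : B b s = -1 := by
        by_contra hne
        have h5 := roots.eq_neg hb hs (by omega)
        have h6 : B b r = 0 := by rw [h5, roots.neg_left, roots.symm, hrs, neg_zero]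
        omega
      have h5 : B b r = 1 := by
        by_contra hne
        have h6 := roots.eq b hb r hr (by omega)
        rw [h6, hrs] at h4
        omega
      exact hl b hb h5 h4 x hx
    · have h2 : bf a (c r) = 2 := by
        rcases short_long a ((mem_rts cs).1 ha) hn _ ((mem_rts cs).1 (root cs hr)) (long hr) with h6 | h6 | h6 <;>
          omega
      have h3 : bf a (c s) = -2 := by
        rcases short_long a ((mem_rts cs).1 ha) hn _ ((mem_rts cs).1 (root cs hs)) (long hs) with h6 | h6 | h6 <;>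
          omega
      obtain ⟨l, hl1, hlr, hls, hy, hyy, hly, hyr, hys, hm, hmm⟩ :=
        split r hr s hs hrs a ((mem_rts cs).1 ha) hn h2 h3
      set y := a - c l with hyd
      have ea : c l + y = a := by rw [hyd]; abel
      have em : c l + (2 : ℤ) • y = a + y := by
        rw [two_smul, ← add_assoc, ea]
      have hyR : IsRoot cs isCartan y := (mem_rts cs).2 hy
      have hmR : IsRoot cs isCartan (a + y) := (mem_rts cs).2 hm
      obtain ⟨u, hu, hu1⟩ := exists_ne_one R (root cs hl1)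
      obtain ⟨v, hv, w, hw, e⟩ := surj_135 D (root cs hl1) hyR (long hl1) hyy hly (by rw [ea]; exact ha)
        (by rw [em]; exact hmR) hu hu1 (w := x) (by rw [ea]; exact hx)
      have c1 : Commute k u := hl l hl1 hlr hls u hu
      have c2 : Commute k v := hk v ⟨y, hyR, by omega, by omega, hv⟩
      have c3 : Commute k w := by
        rw [em] at hw
        obtain ⟨m, hm1, hme⟩ := exists_phi cs hmR hmm
        refine hl m hm1 ?_ ?_ w (by show w ∈ X (c m); rw [hme]; exact hw)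
        · have h7 := bf_c m r
          rw [hme, bf_add_left, h2, hyr] at h7
          omega
        · have h7 := bf_c m s
          rw [hme, bf_add_left, h3, hys] at h7
          omega
      have c4 : Commute k ⁅u, v⁆ := by
        rw [commutatorElement_def]
        exact ((c1.mul_right c2).mul_right c1.inv_right).mul_right c2.inv_right
      have ex : x = ⁅u, v⁆ * w⁻¹ := by rw [e]; group
      rw [ex]
      exact (c4.mul_right c3.inv_right).eq)
  refine ⟨z, hz, 1, one_mem _, ?_⟩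
  rw [mul_one]
  exact hkz

theorem hm (hK : K1 cs X t) : ∀ r ∈ Phi, ∀ s ∈ Phi, B r s = -1 → ∀ k, k * t = t * k →
    (∀ y ∈ YY cs X r s, k * y = y * k) → (∀ y ∈ XL X r, k * y = y * k) → (∀ y ∈ XL X s, k * y = y * k) →
    ∃ x ∈ XL X r, ∃ y ∈ XL X s, ∃ m ∈ XL X (r + s), k = x * y * m ∨ k = t * (x * y * m) := by
  intro r hr s hs hrs k hkt hk hkr hks
  have hmem := roots.add r hr s hs hrs
  obtain ⟨z, hz, hkz⟩ := hK (c (r + s)) (root cs hmem) (long hmem) k hkt (by
    intro a ha hpos x hx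
    have e1 := two_cpr (cs := cs) (a := a) hmem
    have e2 : bf a (c (r + s)) = bf a (c r) + bf a (c s) := by rw [map_add, bf_add_right]
    rcases norm cs ha with hn | hn
    · obtain ⟨b, hb, rfl⟩ := exists_phi cs ha hn
      have e3 := bf_c b r
      have e4 := bf_c b s
      have l1 := roots.le b hb r hr
      have l2 := roots.le b hb s hs
      have g1 := roots.ge hb hr
      have g2 := roots.ge hb hs
      by_cases h1 : 0 ≤ B b r
      · by_cases h2 : 0 ≤ B b s
        · exact hk x ⟨c b, ha, by omega, by omega, hx⟩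
        · have h3 := roots.eq b hb r hr (by omega)
          subst h3
          exact hkr x hx
      · have h3 := roots.eq b hb s hs (by omega)
        subst h3
        exact hks x hx
    · have h1 := short_long a ((mem_rts cs).1 ha) hn _ ((mem_rts cs).1 (root cs hr)) (long hr)
      have h2 := short_long a ((mem_rts cs).1 ha) hn _ ((mem_rts cs).1 (root cs hs)) (long hs)
      exact hk x ⟨a, ha, by omega, by omega, hx⟩)
  refine ⟨1, one_mem _, 1, one_mem _, z, hz, ?_⟩
  rw [mul_one, one_mul]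
  exact hkz

end Cent

/-! ### The doubling theorem -/

section Main

variable {t : G} {V : (Fin 4 → ℤ) → Subgroup G}

/-- **`PreY`** for the long root groups of `²E₆(q)` -/
theorem preY (D : Dat R) (DV : YO R t rho V) (tt : t * t = 1)
    (tX : ∀ a, IsRoot cs isCartan a → ∀ x ∈ X a, t * x = x * t)
    (tN : ∀ w k, Rp cs R.nsys w k → t * k = k * t) {K : Subgroup G} (htK : t ∉ K)
    (hXK : ∀ a, IsRoot cs isCartan a → X a ≤ K)
    (three : ∀ r ∈ Phi, ∀ x ∈ XL X r, ∃ y ∈ XL X r, y ≠ 1 ∧ y ≠ x)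
    (hK1 : K1 cs X t) (hK2 : K2 cs X t) :
    Cfsg.Agent.OddHalf.SL.General.PreY t B Phi (XL X) (XL V) (YY cs X) :=
  Long.preY D DV tt tX tN htK hXK three (h1 hK2) (h0 D hK1) (hm hK1)

/-- **The doubled long root groups of `²E₆(q)`, `q > 2`.** -/
theorem dbl [Finite G] (D : Dat R) (DV : YO R t rho V) (tt : t * t = 1)
    (tX : ∀ a, IsRoot cs isCartan a → ∀ x ∈ X a, t * x = x * t)
    (tN : ∀ w k, Rp cs R.nsys w k → t * k = k * t) {K : Subgroup G} (htK : t ∉ K)
    (hXK : ∀ a, IsRoot cs isCartan a → X a ≤ K)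
    (three : ∀ r ∈ Phi, ∀ x ∈ XL X r, ∃ y ∈ XL X r, y ≠ 1 ∧ y ≠ x)
    (hK1 : K1 cs X t) (hK2 : K2 cs X t) : Dbl t B Phi (XL X) (XL V) :=
  SL.Main.dbl_of_big_Y (preY D DV tt tX tN htK hXK three hK1 hK2)
    (big D DV (fun δ hδ => (tN 1 δ (rp_of_mem (cs := cs) (hN := R.nsys) hδ)).symm) three) lg_one

end Main

end Cfsg.Agent.OddHalf.D7Tw.Pre
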