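import Cfsg.Agent.OddHalf.D7Tw.Inst
import Cfsg.Agent.OddHalf.D7Tw.Pre

/-!
# `K ≅ ²E₆(q)` in `G`, `q > 2` even: the doubled long root groups (helper887)

* `k1G`, `k2G` : the centraliser hypotheses `Pre.K1`, `Pre.K2` in `G`;
* **`dbl_of_all`** : `Inst.All` ⟹ `SL.Defs.Dbl t DFour.B DFour.Phi (XL (XG e X)) (XL V)`.
-/

set_option autoImplicit false
set_option linter.unusedSectionVars false

namespace Cfsg.Agent.OddHalf.D7Tw.DblOf

open CoxeterSystem Cfsg.Agent.ChevalleyStructure.CoxeterGeom Cfsg.Agent.Tits.Roots Cfsg.Agent.Tits.Core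
  Cfsg.Agent.Tits.RootComb Cfsg.Agent.Tits.Exchange Cfsg.Agent.Nodes.Reps Cfsg.Agent.Nodes.BNOf
  Cfsg.Agent.Nodes.Coroot Cfsg.Agent.Nodes.StabComb
  Cfsg.Agent.Nodes.LeviDec Cfsg.Agent.Nodes.Bruhat Cfsg.Agent.Nodes.OppDec
  Cfsg.Agent.KFacts.RgdPar Cfsg.Agent.KFacts.RgdCent
  Cfsg.Agent.KFacts.RgdSL Cfsg.Agent.KFacts.RgdTI Cfsg.Agent.KFacts.RgdOdd Cfsg.Agent.KFacts.RgdEx
  Cfsg.Agent.Nodes.RGDTwE6 Cfsg.Agent.KFacts.TwESix.Comb Cfsg.Agent.KFacts.TwESix.CombRho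
  Cfsg.Agent.KFacts.TwESix.Facts Cfsg.Agent.KFacts.TwESix.QRho Cfsg.Agent.KFacts.TwESix.Faith
  Cfsg.Agent.OddHalf.SL.Defs
  Cfsg.Agent.OddHalf.D7Tw Cfsg.Agent.OddHalf.D7Tw.Orbit Cfsg.Agent.OddHalf.D7Tw.ExRho
  Cfsg.Agent.OddHalf.D7Tw.Inst Cfsg.Agent.OddHalf.D7Tw.Long
  Cfsg.Agent.OddHalf.D7Tw.Front
open scoped commutatorElement

section Over

open Cfsg.Agent.OddHalf.D7Out

variable {G : Type*} [Group G] {K : Subgroup G} {t : G}
variable {W Y : Type*} [Group W] [Group Y] {cs : CoxeterSystem CoxeterMatrix.F₄ W} {T₀ : Subgroup Y} {n : Fin 4 → Y}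
  {X : (Fin 4 → ℤ) → Subgroup Y}

/-- `Pre.K1` in `G` -/
theorem k1G {R : RGD cs isCartan 2 T₀ n X} (D : Dat R) (e : Y ≃* ↥K) (S : Cfsg.Agent.OddHalf.Front.FE.Start K t t)
    (hG1 : RGD.Sup X {x | IsRoot cs isCartan x} = ⊤) (hNC : NoCent cs isCartan T₀ X) :
    Pre.K1 cs (XG e X) t := by
  intro r hr hl k hkt hk
  have hc : k ∈ Subgroup.normalizer (K : Set G) := S.nK k hkt
  obtain ⟨z, hz, h1⟩ := Cfsg.Agent.KFacts.TwESix.Cent.aut_k1 D hr hl hNC hG1 (α := aut e hc) (by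
    intro a ha ha0 v hv
    apply emb_injective e
    rw [emb_aut, hk a ha ha0 _ ⟨v, hv, rfl⟩, mul_inv_cancel_right])
  exact ⟨emb e z, ⟨z, hz, rfl⟩, eq_or_of_aut e hc hkt (fun x hx => (S.Kt x hx).symm) (centK S) h1⟩

/-- `Pre.K2` in `G` -/
theorem k2G {R : RGD cs isCartan 2 T₀ n X} (D : Dat R) (e : Y ≃* ↥K) (S : Cfsg.Agent.OddHalf.Front.FE.Start K t t)
    (hG1 : RGD.Sup X {x | IsRoot cs isCartan x} = ⊤) (hNC : NoCent cs isCartan T₀ X) :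
    Pre.K2 cs (XG e X) t := by
  intro r s hr hs hl hls hrs k hkt hk
  have hc : k ∈ Subgroup.normalizer (K : Set G) := S.nK k hkt
  obtain ⟨x, hx, y, hy, h1⟩ := Cfsg.Agent.KFacts.TwESix.Cent.aut_k2 D hr hl hs hls hrs hNC hG1 (α := aut e hc) (by
    intro a ha ha0 v hv
    apply emb_injective e
    rw [emb_aut, hk a ha ha0 _ ⟨v, hv, rfl⟩, mul_inv_cancel_right])
  refine ⟨emb e x, ⟨x, hx, rfl⟩, emb e y, ⟨y, hy, rfl⟩, ?_⟩
  rw [← map_mul]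
  exact eq_or_of_aut e hc hkt (fun x hx => (S.Kt x hx).symm) (centK S) h1

/-- **The doubled long root groups in `G`**, from `KX`, `Start` and `YO`. -/
theorem dblG [Finite G] {R : RGD cs isCartan 2 T₀ n X} (D : Dat R) (e : Y ≃* ↥K)
    (S : Cfsg.Agent.OddHalf.Front.FE.Start K t t)
    (hG1 : RGD.Sup X {x | IsRoot cs isCartan x} = ⊤) (hNC : NoCent cs isCartan T₀ X)
    (E : KX (rgdG R e) t K) {V : (Fin 4 → ℤ) → Subgroup G} (DV : YO (rgdG R e) t rho V) :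
    Dbl t DFour.B DFour.Phi (XL (XG e X)) (XL V) :=
  Pre.dbl E.dat DV E.tt (fun _ ha _ hx => E.tX ha hx) (fun _ k hk => E.Kt k (E.NK hk)) E.tK
    (fun _ ha => E.XK ha) E.three (k1G D e S hG1 hNC) (k2G D e S hG1 hNC)

end Over

/-! ### The instance `²E₆(q)` -/

section Inst

open Cfsg.Lie Cfsg.Agent.OddHalf.D7Out Cfsg.Agent.OddHalf.Iface

universe u

variable {F : Type u} [Field F] [Fintype F] {q : ℕ} {φ : F →+* F}

theorem noCent {W : Type*} [Group W] (cs : CoxeterSystem CoxeterMatrix.F₄ W) [CharP F 2]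
    (hφ : ∀ x, φ x = x ^ q) (hqq : ∀ t : F, (t ^ q) ^ q = t) (hq : IsPrimePow q)
    (hF : Fintype.card F = q ^ 2) : NoCent cs isCartan (Cfsg.Agent.Nodes.RGDTwE6.T F q) (X φ q) := by
  have : Finite W := finiteW cs
  obtain ⟨h1, h2⟩ := Cfsg.Agent.S1070.result (K := F) hq hF
  exact noCent_of_center (rgd cs hφ hqq 2) (G1_eq_top cs hφ hqq) (center_eq_bot h1 h2)

/-- **`All ⟹ Dbl`**: the doubled long root groups for `K ≅ ²E₆(q)`, `q > 2` even. -/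
theorem dbl_of_all {G : Type*} [Group G] [Finite G] {K : Subgroup G} {W : Type*} [Group W]
    {cs : CoxeterSystem CoxeterMatrix.F₄ W} [CharP F 2]
    {hφ : ∀ x, φ x = x ^ q} {hqq : ∀ t : F, (t ^ q) ^ q = t} (hq : IsPrimePow q)
    (hF : Fintype.card F = q ^ 2) {e : ↥(twistedE6 F q) ≃* ↥K}
    {t : G} {T : Subgroup G} {m z : G} {V : (Fin 4 → ℤ) → Subgroup G} (A : All cs hφ hqq e t T m z V) :
    Dbl t DFour.B DFour.Phi (fun x => XG e (X φ q) (DFour.c x)) (fun x => V (DFour.c x)) :=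
  dblG (Cfsg.Agent.KFacts.TwESix.Dat.dat cs hφ hqq hF hq.one_lt) e A.start (G1_eq_top cs hφ hqq)
    (noCent cs hφ hqq hq hF) A.kx A.yo

end Inst

end Cfsg.Agent.OddHalf.D7Tw.DblOf
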