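import Cfsg.Agent.OddHalf.CaseM.Sign
import Cfsg.Agent.OddHalf.D4.Cut

/-!
# THEOREM H: the exit (helper756), K-free

`Z ≤ V` are 2-groups, `V` elementary abelian, `Z = C_V(t)`; for every `x ∈ Z#` a component `M` of `C_G(x)` is unique,
normal, contains `V`, and `C(M) ≤ M ∩ V`. Then `C_G(z)` has no component at all (`exit_false`), given

* `Iface.Intr`: no standard subgroup `M` with `C(M) = ⟨z⟩ ≤ M`,
* `IntrNon`: no standard subgroup with noncyclic centre (`intrNon_of`: from the rows of D4 with `Z(K) ≠ 1`),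
* `MultV`: an elementary abelian centre of a known quasisimple group has order at most 4 (`multV_of`),
* `CaseM.NI`,
* the `T`-formula: `t` lies in the commutator subgroup of `C_G(z)`.
-/

set_option autoImplicit false

namespace Cfsg.Agent.OddHalf.D7Tw

open Subgroup Cfsg
open Cfsg.Agent.OddHalf.Iface
open Cfsg.Agent.SignalizersComponents.Components
open scoped commutatorElement

universe u

/-! ### The named hypotheses -/

/-- no standard subgroup with noncyclic centre -/
def IntrNon : Prop :=
  ∀ (G : Type u) [Group G], Ctx G → ∀ K : Subgroup G, Std0 G K → ¬ IsCyclic ↥(center ↥K) → False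

/-- elementary abelian centres of known quasisimple groups have order at most 4 -/
def MultV : Prop :=
  ∀ (K : Type u) [Group K], Finite K → IsQuasisimple K → IsPGroup 2 ↥(center K) → ¬ PRankLE 2 1 K →
    IsKnownSimple' (K ⧸ center K) → ¬ LieOdd (K ⧸ center K) → (∀ x ∈ center K, x * x = 1) →
    Nat.card ↥(center K) ≤ 4

/-- a cyclic group of exponent 2 -/
theorem card_le_two_of_cyclic {A : Type*} [Group A] [Finite A] (h : IsCyclic A) (h2 : ∀ x : A, x * x = 1) :
    Nat.card A ≤ 2 := by
  obtain ⟨g, hg⟩ := h.exists_generator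
  have h1 : orderOf g = Nat.card A := orderOf_eq_card_of_forall_mem_zpowers hg
  rw [← h1]
  exact orderOf_le_of_pow_eq_one (by norm_num) (by rw [pow_two]; exact h2 g)

theorem three_le {A : Type*} [Group A] [Finite A] {a b : A} (ha : a ≠ 1) (hb : b ≠ 1) (hab : a ≠ b) :
    3 ≤ Nat.card A := by
  classical
  haveI := Fintype.ofFinite A
  have h1 : ({1, a, b} : Finset A).card = 3 := Finset.card_eq_three.2 ⟨1, a, b, ha.symm, hb.symm, hab, rfl⟩
  rw [← h1, Nat.card_eq_fintype_card]
  exact Finset.card_le_univ _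

theorem five_le {A : Type*} [Group A] [Finite A] {a b c d : A} (ha : a ≠ 1) (hb : b ≠ 1) (hc : c ≠ 1)
    (hd : d ≠ 1) (hab : a ≠ b) (hac : a ≠ c) (had : a ≠ d) (hbc : b ≠ c) (hbd : b ≠ d) (hcd : c ≠ d) :
    5 ≤ Nat.card A := by
  classical
  haveI := Fintype.ofFinite A
  have h1 : ({1, a, b, c, d} : Finset A).card = 5 := by
    rw [Finset.card_insert_of_notMem, Finset.card_insert_of_notMem, Finset.card_insert_of_notMem,
      Finset.card_insert_of_notMem, Finset.card_singleton]
    · simpa using hcd
    · simp only [Finset.mem_insert, Finset.mem_singleton, not_or]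
      exact ⟨hbc, hbd⟩
    · simp only [Finset.mem_insert, Finset.mem_singleton, not_or]
      exact ⟨hab, hac, had⟩
    · simp only [Finset.mem_insert, Finset.mem_singleton, not_or]
      exact ⟨ha.symm, hb.symm, hc.symm, hd.symm⟩
  rw [← h1, Nat.card_eq_fintype_card]
  exact Finset.card_le_univ _

/-- **`MultV`** from the multiplier facts of D4 -/
theorem multV_of (d5cover : D5cover.{u}) (M4 : D4.Cut.MultD4.{u}) : MultV.{u} := by
  intro K _ hfin hq h2 hr hk ho hsq
  by_cases hc : IsCyclic ↥(center K)
  · have := card_le_two_of_cyclic hc fun x => Subtype.ext (hsq x x.2)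
    omega
  have hQ : D4.Cut.QsNon K := ⟨hfin, hq, h2, hc⟩
  have hna : ¬ IsMulCommutative (K ⧸ center K) := Soft.quo_na hq
  have hz : center K ≠ ⊥ := by
    intro h
    apply hc
    rw [h]
    infer_instance
  have halt : ¬ IsAlternating (K ⧸ center K) := by
    rintro ⟨n, hn, hf⟩
    obtain ⟨-, hcov⟩ := d5cover K hfin hq h2 hz hr n hn hf
    apply hc
    haveI : Fact (Nat.Prime 2) := ⟨Nat.prime_two⟩
    exact isCyclic_of_prime_card hcov.1
  rcases Known.classify hna hk with h | h | h | h
  · exact absurd h halt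
  · exact absurd h ho
  · rcases M4.lie K hQ ⟨h, halt, ho⟩ with h | h
    · exact (M4.four K hQ h).1.le
    · obtain ⟨-, homega⟩ := M4.l34 K hQ h
      rw [← homega]
      refine Nat.card_le_card_of_injective (fun z => (⟨z, Subtype.ext (hsq z z.2)⟩ :
        {z : ↥(center K) // z * z = 1})) ?_
      intro a b hab
      exact congrArg Subtype.val hab
  · exact absurd h (M4.spor K hQ)

/-- **`IntrNon`** from the rows of D4 with `Z(K) ≠ 1` -/
theorem intrNon_of (Kn : Main.Known.{u}) (d5cover : D5cover.{u}) (u2 : U2.{u}) (M4 : D4.Cut.MultD4.{u})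
    (R : D4.Cut.RowsCov.{u}) : IntrNon.{u} := by
  intro G _ C K S hc
  haveI := C.fin
  have hz : center ↥K ≠ ⊥ := by
    intro h
    apply hc
    rw [h]
    infer_instance
  by_cases hl : Listed K
  · exact ListedOut.listed_false Kn.rows Kn.forms C S hl
  by_cases ha : IsAlternating (↥K ⧸ center ↥K)
  · exact Main.altCov_false Kn d5cover C S ha hz
  by_cases ho : LieOdd (↥K ⧸ center ↥K)
  · exact u2 G C K S ho hz ha
  have ht : LieTwo (↥K ⧸ center ↥K) ∨ IsSporadicGroup (↥K ⧸ center ↥K) := by
    rcases Known.classify S.quo_na S.known with h | h | h | h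
    · exact absurd h ha
    · exact absurd h ho
    · exact Or.inl ⟨h, ha, ho⟩
    · exact Or.inr h
  have hr : ¬ PRankLE 2 1 ↥(centralizer (K : Set G)) := by
    intro hr
    haveI : Fact (Nat.Prime 2) := ⟨Nat.prime_two⟩
    let f : ↥(center ↥K) →* ↥(centralizer (K : Set G)) :=
      { toFun := fun x => ⟨((x : ↥K) : G), mem_centralizer_iff.2 fun k hk =>
          congrArg Subtype.val (mem_center_iff.1 x.2 ⟨k, hk⟩)⟩
        map_one' := rfl
        map_mul' := fun _ _ => rfl }
    have hf : Function.Injective f := fun a b h =>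
      Subtype.ext (Subtype.ext (congrArg (fun y : ↥(centralizer (K : Set G)) => (y : G)) h))
    have h1 : IsPGroup 2 ↥f.range := S.z2.of_surjective f.rangeRestrict f.rangeRestrict_surjective
    have hr2 : PRankLE 2 1 ↥f.range := OddOrderLocal.Rank.pRankLE_subgroup hr
    have hcomm : ∀ a b : ↥f.range, a * b = b * a := by
      rintro ⟨_, x, rfl⟩ ⟨_, y, rfl⟩
      apply Subtype.ext
      show f x * f y = f y * f x
      rw [← map_mul, ← map_mul]
      exact congrArg f (Subtype.ext (mem_center_iff.1 y.2 (x : ↥K)))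
    have hcyc : IsCyclic ↥f.range := by
      rcases Classification.RankOneCore.cyclic_or_quaternion h1 hr2 with h | ⟨n, ⟨e⟩⟩
      · exact h
      obtain _ | n := n
      · have h3 : IsCyclic (QuaternionGroup 1) := QuaternionGroup.quaternionGroup_one_isCyclic
        have e' : ↥f.range ≃* QuaternionGroup 1 := e
        exact isCyclic_of_surjective e'.symm e'.symm.surjective
      exfalso
      have h4 := hcomm (e.symm (QuaternionGroup.a 1)) (e.symm (QuaternionGroup.xa 0))
      rw [← map_mul, ← map_mul] at h4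
      have h5 := e.symm.injective h4
      rw [QuaternionGroup.a_mul_xa, QuaternionGroup.xa_mul_a, QuaternionGroup.xa.injEq] at h5
      have h6 : ((2 : ℕ) : ZMod (2 * 2 ^ (n + 1))) = 0 := by
        push_cast
        linear_combination -h5
      rw [ZMod.natCast_eq_zero_iff] at h6
      have h7 := Nat.le_of_dvd (by norm_num) h6
      have h8 := Nat.one_le_two_pow (n := n)
      rw [pow_succ] at h7
      omega
    refine hc (isCyclic_of_injective f.rangeRestrict ?_)
    exact MonoidHom.rangeRestrict_injective_iff.2 hf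
  exact D4.Cut.noncyclic_false M4 R C S hr hc ht hl

/-! ### Standard subgroups -/

variable {G : Type u} [Group G]

theorem eq_bot_of_perf_comm {D : Subgroup G} (hD : ⁅D, D⁆ = D) (hs : ∀ a ∈ D, ∀ b ∈ D, a * b = b * a) :
    D = ⊥ := by
  rw [← hD, commutator_eq_bot_iff_le_centralizer]
  intro a ha
  exact mem_centralizer_iff.2 fun b hb => hs b hb a ha

theorem map_conj_eq [Finite G] {g : G} {E : Subgroup G} (h : ∀ e ∈ E, g * e * g⁻¹ ∈ E) :
    E.map (MulAut.conj g).toMonoidHom = E := by
  refine Subgroup.eq_of_le_of_card_ge ?_ (le_of_eq (Nat.card_congr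
    (E.equivMapOfInjective (MulAut.conj g).toMonoidHom (MulAut.conj g).injective).toEquiv))
  rintro _ ⟨e, he, rfl⟩
  exact h e he

theorem mem_normalizer_of_map {g : G} {E : Subgroup G} (h : E.map (MulAut.conj g).toMonoidHom = E) :
    g ∈ normalizer (E : Set G) := by
  rw [mem_normalizer_iff]
  intro x
  constructor
  · intro hx
    rw [← h]
    exact ⟨x, hx, rfl⟩
  · intro hx
    rw [← h] at hx
    obtain ⟨y, hy, hyx⟩ := hx
    have : y = x := (MulAut.conj g).injective hyx
    rwa [← this]

/-- a quasisimple subgroup `E` with `C(E) ≤ E` a nontrivial 2-group, TI in the strong sense -/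
theorem standard_of [Finite G] {E : Subgroup G} (hq : IsQuasisimple ↥E)
    (hc : centralizer (E : Set G) ≤ E) (hc2 : IsPGroup 2 ↥(centralizer (E : Set G)))
    (hc1 : centralizer (E : Set G) ≠ ⊥)
    (hTI : ∀ x ∈ centralizer (E : Set G), x ≠ 1 → ∀ g : G, g * x * g⁻¹ ∈ centralizer (E : Set G) →
      E.map (MulAut.conj g).toMonoidHom = E) : IsStandardSubgroup E := by
  have hperf : ⁅E, E⁆ = E := by
    have h1 : commutator ↥E = ⊤ := Group.isPerfect_def.1 hq.1
    have h2 : (commutator ↥E).map E.subtype = E := by rw [h1, ← MonoidHom.range_eq_map, E.range_subtype]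
    rwa [_root_.commutator_def, map_commutator, ← MonoidHom.range_eq_map, E.range_subtype] at h2
  have hcc : ∀ a ∈ centralizer (E : Set G), ∀ b ∈ centralizer (E : Set G), a * b = b * a :=
    fun a ha b hb => mem_centralizer_iff.1 hb a (hc ha)
  have hE1 : E ≠ ⊥ := by
    intro h
    apply hc1
    rw [eq_bot_iff, ← h]
    exact hc
  refine ⟨hq, ⟨?_, ?_⟩, ?_, ?_⟩
  · haveI : Fact (Nat.Prime 2) := ⟨Nat.prime_two⟩
    haveI : Nontrivial ↥(centralizer (E : Set G)) := (Subgroup.nontrivial_iff_ne_bot _).2 hc1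
    obtain ⟨n, hn, hn'⟩ := hc2.nontrivial_iff_card.1 this
    rw [hn']
    exact (Nat.even_pow.2 ⟨even_two, hn.ne'⟩)
  · intro g hg
    have h1 : centralizer (E : Set G) ⊓ (centralizer (E : Set G)).map (MulAut.conj g).toMonoidHom = ⊥ := by
      rw [eq_bot_iff]
      rintro _ ⟨hx, ⟨y, hy, rfl⟩⟩
      rw [mem_bot]
      by_contra hne
      apply hg
      have hy1 : y ≠ 1 := by
        rintro rfl
        exact hne (map_one _)
      have h2 := mem_normalizer_of_map (hTI y hy hy1 g hx)
      have h3 : ∀ w ∈ centralizer (E : Set G), g * w * g⁻¹ ∈ centralizer (E : Set G) := by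
        intro w hw
        rw [mem_centralizer_iff]
        intro e he
        have h4 : g⁻¹ * e * g ∈ E := by
          have := (mem_normalizer_iff.1 (inv_mem h2) e).1 he
          rwa [inv_inv] at this
        have h5 := mem_centralizer_iff.1 hw _ h4
        calc e * (g * w * g⁻¹) = g * ((g⁻¹ * e * g) * w) * g⁻¹ := by group
          _ = g * (w * (g⁻¹ * e * g)) * g⁻¹ := by rw [h5]
          _ = g * w * g⁻¹ * e := by group
      exact mem_normalizer_of_map (map_conj_eq h3)
    rw [h1, Nat.card_unique]
    exact odd_one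
  · intro g _ hcom
    apply hE1
    have h1 : E.map (MulAut.conj g).toMonoidHom ≤ centralizer (E : Set G) := by
      have := commutator_eq_bot_iff_le_centralizer.1 hcom
      rwa [le_centralizer_iff] at this
    have h2 : E.map (MulAut.conj g).toMonoidHom = ⊥ := by
      refine eq_bot_of_perf_comm ?_ fun a ha b hb => hcc a (h1 ha) b (h1 hb)
      rw [← map_commutator, hperf]
    exact (Subgroup.map_eq_bot_iff_of_injective _ (MulAut.conj g).injective).1 h2
  · apply le_antisymm
    · intro g hg
      apply mem_normalizer_of_map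
      apply map_conj_eq
      intro w hw
      rw [mem_centralizer_iff]
      intro e he
      have h4 : g⁻¹ * e * g ∈ E := by
        have := (mem_normalizer_iff.1 (inv_mem hg) e).1 he
        rwa [inv_inv] at this
      have h5 := mem_centralizer_iff.1 hw _ h4
      calc e * (g * w * g⁻¹) = g * ((g⁻¹ * e * g) * w) * g⁻¹ := by group
        _ = g * (w * (g⁻¹ * e * g)) * g⁻¹ := by rw [h5]
        _ = g * w * g⁻¹ * e := by group
    · intro g hg
      obtain ⟨x, hx, hx1⟩ : ∃ x ∈ centralizer (E : Set G), x ≠ 1 := by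
        by_contra hcon
        push Not at hcon
        exact hc1 ((eq_bot_iff_forall _).2 hcon)
      exact mem_normalizer_of_map (hTI x hx hx1 g ((mem_normalizer_iff.1 hg x).1 hx))

theorem CompOf.conj' {x : G} {E : Subgroup G} (h : CompOf x E) (g : G) :
    CompOf (g * x * g⁻¹) (E.map (MulAut.conj g).toMonoidHom) := by
  have e : (centralizer ({x} : Set G)).map (MulAut.conj g).toMonoidHom = centralizer ({g * x * g⁻¹} : Set G) := by
    ext y
    constructor
    · rintro ⟨c, hc, rfl⟩
      have h1 : c * x = x * c := mem_centralizer_singleton_iff.1 hc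
      apply mem_centralizer_singleton_iff.2
      show g * c * g⁻¹ * (g * x * g⁻¹) = g * x * g⁻¹ * (g * c * g⁻¹)
      calc g * c * g⁻¹ * (g * x * g⁻¹) = g * (c * x) * g⁻¹ := by group
        _ = g * (x * c) * g⁻¹ := by rw [h1]
        _ = _ := by group
    · intro hy
      have h1 := mem_centralizer_singleton_iff.1 hy
      refine ⟨g⁻¹ * y * g, mem_centralizer_singleton_iff.2 ?_, ?_⟩
      · calc g⁻¹ * y * g * x = g⁻¹ * (y * (g * x * g⁻¹)) * g := by group
          _ = g⁻¹ * (g * x * g⁻¹ * y) * g := by rw [h1]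
          _ = _ := by group
      · show g * (g⁻¹ * y * g) * g⁻¹ = y
        group
  have h2 := Cfsg.Agent.SignalizersComponents.DistinctComponents.isComponent_subgroupOf_conj h.1 h.2 g
  rw [e] at h2
  refine ⟨?_, h2⟩
  rw [← e]
  exact map_mono h.1

/-! ### The exit -/

/-- the hypotheses of the exit -/
structure Ex (t z : G) (Z V : Subgroup G) : Prop where
  tt : t * t = 1
  V2 : ∀ w ∈ V, w * w = 1
  ZV : Z ≤ V
  Zt : ∀ w ∈ Z, w * t = t * w
  Vfix : ∀ w ∈ V, w * t = t * w → w ∈ Z
  zZ : z ∈ Z
  z1 : z ≠ 1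
  trans : ∀ x ∈ Z, x ≠ 1 → ∃ g : G, g * z * g⁻¹ = x
  /-- the output of `D7Out.Cz.Data.component` -/
  comp : ∀ x ∈ Z, x ≠ 1 → ∀ M : Subgroup ↥(centralizer ({x} : Set G)), IsComponent M →
    V ≤ M.map (centralizer ({x} : Set G)).subtype ∧
      (∀ M' : Subgroup ↥(centralizer ({x} : Set G)), IsComponent M' → M' = M) ∧ M.Normal ∧
      centralizer (M : Set ↥(centralizer ({x} : Set G))) ≤ M ∧
      pCore 2 ↥(centralizer ({x} : Set G)) ≤ V.subgroupOf (centralizer ({x} : Set G)) ∧
      IsPGroup 2 (centralizer (M : Set ↥(centralizer ({x} : Set G))))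
  /-- the `T`-formula -/
  tform : ∀ ht : t ∈ centralizer ({z} : Set G),
    (⟨t, ht⟩ : ↥(centralizer ({z} : Set G))) ∈ commutator ↥(centralizer ({z} : Set G))

namespace Ex

variable {t z : G} {Z V : Subgroup G}

theorem facts (h : Ex t z Z V) {x : G} (hx : x ∈ Z) (hx1 : x ≠ 1) {E : Subgroup G} (hE : CompOf x E) :
    V ≤ E ∧ (∀ E', CompOf x E' → E' = E) ∧ (∀ g, g * x = x * g → ∀ e ∈ E, g * e * g⁻¹ ∈ E) ∧
      ∀ y ∈ centralizer (E : Set G), y ∈ E ∧ y ∈ V := by
  have hmap : (E.subgroupOf (centralizer ({x} : Set G))).map (centralizer ({x} : Set G)).subtype = E := by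
    rw [subgroupOf_map_subtype, inf_eq_left.2 hE.1]
  obtain ⟨h1, h2, h3, h4, h5, h6⟩ := h.comp x hx hx1 _ hE.2
  rw [hmap] at h1
  refine ⟨h1, ?_, ?_, ?_⟩
  · intro E' hE'
    have e := h2 _ hE'.2
    have e1 := congrArg (fun D : Subgroup ↥(centralizer ({x} : Set G)) => D.map (centralizer ({x} : Set G)).subtype) e
    simp only [subgroupOf_map_subtype, inf_eq_left.2 hE'.1, inf_eq_left.2 hE.1] at e1
    exact e1
  · intro g hg e he
    exact h3.conj_mem ⟨e, hE.1 he⟩ he ⟨g, mem_centralizer_singleton_iff.2 hg⟩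
  · intro y hy
    have hyx : y * x = x * y := (mem_centralizer_iff.1 hy x (h1 (h.ZV hx))).symm
    have hyH : y ∈ centralizer ({x} : Set G) := mem_centralizer_singleton_iff.2 hyx
    have hyM : (⟨y, hyH⟩ : ↥(centralizer ({x} : Set G))) ∈
        centralizer ((E.subgroupOf (centralizer ({x} : Set G)) : Subgroup _) :
          Set ↥(centralizer ({x} : Set G))) := by
      rw [mem_centralizer_iff]
      intro e he
      exact Subtype.ext (mem_centralizer_iff.1 hy e he)
    haveI := h3
    have hn : (centralizer ((E.subgroupOf (centralizer ({x} : Set G)) : Subgroup _) :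
        Set ↥(centralizer ({x} : Set G)))).Normal := inferInstance
    exact ⟨h4 hyM, h5 (Lib.Cores.le_pCore hn h6 hyM)⟩

/-- a component of `C_G(z)` is a component of `C_G(x)` for `1 ≠ x ∈ Z ∩ Z(E)` -/
theorem move [Finite G] (h : Ex t z Z V) (C : Ctx G)
    (hSch : Cfsg.Agent.Schreier.Cases.SchFor.{u} @IsKnownSimple') {E : Subgroup G} (hE : CompOf z E) {x : G}
    (hx : x ∈ Z) (hx1 : x ≠ 1) (hxE : x ∈ centralizer (E : Set G)) : CompOf x E := by
  obtain ⟨g, rfl⟩ := h.trans x hx hx1
  have hE' := CompOf.conj' hE g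
  have hx2 : (g * z * g⁻¹) * (g * z * g⁻¹) = 1 := h.V2 _ (h.ZV hx)
  have ho : orderOf (g * z * g⁻¹) = 2 := orderOf_eq_prime (by rw [pow_two]; exact hx2) hx1
  obtain ⟨-, -, hn, hcc⟩ := h.facts hx hx1 hE'
  set E' := E.map (MulAut.conj g).toMonoidHom with hE'def
  have hq' := Soft.CompOf.quasisimple hE'
  have hq := Soft.CompOf.quasisimple hE
  have hperf : ⁅E, E⁆ = E := by
    have h1 : commutator ↥E = ⊤ := Group.isPerfect_def.1 hq.1
    have h2 : (commutator ↥E).map E.subtype = E := by rw [h1, ← MonoidHom.range_eq_map, E.range_subtype]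
    rwa [_root_.commutator_def, map_commutator, ← MonoidHom.range_eq_map, E.range_subtype] at h2
  have h1 : E ≤ E' ⊔ centralizer (E' : Set G) := by
    refine CaseM.le_sup_centralizer hq'.1 (CaseM.sch_of_comp C hSch ho hE') hperf ?_
    intro p hp
    refine map_conj_eq fun e he => hn p ?_ e he
    exact mem_centralizer_iff.1 hxE p hp
  have h2 : E ≤ E' := h1.trans (sup_le le_rfl fun y hy => (hcc y hy).1)
  have h3 : E = E' := Subgroup.eq_of_le_of_card_ge h2 (le_of_eq (Nat.card_congr
    (E.equivMapOfInjective (MulAut.conj g).toMonoidHom (MulAut.conj g).injective).toEquiv.symm))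
  rw [h3]
  exact hE'

/-- **the exit** -/
theorem exit_false [Finite G] (h : Ex t z Z V) (C : Ctx G)
    (hSch : Cfsg.Agent.Schreier.Cases.SchFor.{u} @IsKnownSimple') (hGW : SylowSp4.Hyps.GW.{u})
    (hI : Iface.Intr.{u}) (hIN : IntrNon.{u}) (hMV : MultV.{u}) (hNI : CaseM.NI.{u})
    (M : Subgroup ↥(centralizer ({z} : Set G))) (hM : IsComponent M) : False := by
  have hzz : z * z = 1 := h.V2 z (h.ZV h.zZ)
  have ho : orderOf z = 2 := orderOf_eq_prime (by rw [pow_two]; exact hzz) h.z1
  set E : Subgroup G := M.map (centralizer ({z} : Set G)).subtype with hEdef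
  have hE : CompOf z E := CaseM.compOf_map hM
  obtain ⟨hVE, huniq, hnE, hcE⟩ := h.facts h.zZ h.z1 hE
  have hzE : z ∈ E := hVE (h.ZV h.zZ)
  have hq := Soft.CompOf.quasisimple hE
  have hcz : z ∈ centralizer (E : Set G) := by
    rw [mem_centralizer_iff]
    intro e he
    exact mem_centralizer_singleton_iff.1 (hE.1 he)
  have hinv : ∀ y ∈ centralizer (E : Set G), y * y = 1 := fun y hy => h.V2 y (hcE y hy).2
  have hc2 : IsPGroup 2 ↥(centralizer (E : Set G)) := by
    intro y
    exact ⟨1, Subtype.ext (by rw [pow_one, pow_two]; exact hinv y y.2)⟩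
  have hcc : ∀ a ∈ centralizer (E : Set G), ∀ b ∈ centralizer (E : Set G), a * b = b * a :=
    fun a ha b hb => mem_centralizer_iff.1 hb a (hcE a ha).1
  have htz : t * z = z * t := (h.Zt z h.zZ).symm
  have htC : ∀ y ∈ centralizer (E : Set G), t * y * t ∈ centralizer (E : Set G) := by
    intro y hy
    have hti : t⁻¹ = t := inv_eq_of_mul_eq_one_left h.tt
    rw [mem_centralizer_iff]
    intro e he
    have h1 := hnE t htz e he
    rw [hti] at h1
    have h2 := mem_centralizer_iff.1 hy _ h1
    calc e * (t * y * t) = (t * t) * e * (t * y * t) := by rw [h.tt, one_mul]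
      _ = t * ((t * e * t) * y) * t := by group
      _ = t * (y * (t * e * t)) * t := by rw [h2]
      _ = t * y * t * e * (t * t) := by group
      _ = t * y * t * e := by rw [h.tt, mul_one]
  have hcenter : ∀ y : G, ∀ hy : y ∈ centralizer (E : Set G), (⟨y, (hcE y hy).1⟩ : ↥E) ∈ center ↥E := by
    intro y hy
    rw [mem_center_iff]
    intro e
    exact Subtype.ext (mem_centralizer_iff.1 hy e e.2)
  have hcenter' : ∀ y ∈ center ↥E, (y : G) ∈ centralizer (E : Set G) := by
    intro y hy
    rw [mem_centralizer_iff]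
    intro e he
    exact congrArg Subtype.val (mem_center_iff.1 hy ⟨e, he⟩)
  by_cases hall : ∀ y ∈ centralizer (E : Set G), y * t = t * y
  · -- `t` centralises `Z(E)`
    have hZ : ∀ y ∈ centralizer (E : Set G), y ∈ Z := fun y hy => h.Vfix y (hcE y hy).2 (hall y hy)
    have hstd : IsStandardSubgroup E := by
      refine standard_of hq (fun y hy => (hcE y hy).1) hc2 ?_ ?_
      · intro hb
        rw [hb, mem_bot] at hcz
        exact h.z1 hcz
      · intro x hx hx1 g hg
        have h1 := h.move C hSch hE (hZ x hx) hx1 hx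
        have hg1 : g * x * g⁻¹ ≠ 1 := by
          intro e
          apply hx1
          have : x = g⁻¹ * (g * x * g⁻¹) * g := by group
          rw [this, e]; group
        have h2 := h.move C hSch hE (hZ _ hg) hg1 hg
        exact (h.facts (hZ _ hg) hg1 h2).2.1 _ (CompOf.conj' h1 g)
    by_cases hcyc : IsCyclic ↥(center ↥E)
    · have h4 := card_le_two_of_cyclic hcyc fun x => Subtype.ext (Subtype.ext (hinv _ (hcenter' x x.2)))
      refine hI G C E z ho hstd hzE ?_
      refine le_antisymm ?_ (zpowers_le.2 hcz)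
      intro y hy
      by_contra hne
      have hy1 : y ≠ 1 := fun e => hne (e ▸ one_mem _)
      have hyz : y ≠ z := fun e => hne (e ▸ mem_zpowers z)
      have h5 := three_le (A := ↥(center ↥E)) (a := ⟨⟨z, hzE⟩, hcenter z hcz⟩)
        (b := ⟨⟨y, (hcE y hy).1⟩, hcenter y hy⟩)
        (fun e => h.z1 (congrArg (fun w : ↥(center ↥E) => ((w : ↥E) : G)) e))
        (fun e => hy1 (congrArg (fun w : ↥(center ↥E) => ((w : ↥E) : G)) e))
        (fun e => hyz (congrArg (fun w : ↥(center ↥E) => ((w : ↥E) : G)) e).symm)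
      omega
    · exact hIN G C E (Main.std0_of_standard hGW C hstd) hcyc
  · -- `t` moves an element of `Z(E)`
    push Not at hall
    obtain ⟨x, hx, hxt⟩ := hall
    have hsimp := C.simple
    have hnt := Soft.CompOf.ne_top C.na ho hE
    have hkn := Known.known_quotient C.kproper _ hnt _ hq.2 (Soft.quo_na hq)
    have h4 : Nat.card ↥(center ↥E) ≤ 4 := by
      refine hMV ↥E inferInstance hq ?_ (CaseM.rank_two C hGW ho hE hzE) hkn (hNI G C z E ho hE hzE) ?_
      · exact Soft.CompOf.center_isPGroup (C.bal z ho) hE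
      · intro y hy
        exact Subtype.ext (hinv _ (hcenter' y hy))
    have h5 : ∀ a b c d : G, a ∈ centralizer (E : Set G) → b ∈ centralizer (E : Set G) →
        c ∈ centralizer (E : Set G) → d ∈ centralizer (E : Set G) → a ≠ 1 → b ≠ 1 → c ≠ 1 → d ≠ 1 → a ≠ b →
        a ≠ c → a ≠ d → b ≠ c → b ≠ d → c ≠ d → False := by
      intro a b c d ha hb hc hd ha1 hb1 hc1 hd1 hab hac had hbc hbd hcd
      have key : ∀ (u v : G) (hu : u ∈ centralizer (E : Set G)) (hv : v ∈ centralizer (E : Set G)), u ≠ v →
          (⟨⟨u, (hcE u hu).1⟩, hcenter u hu⟩ : ↥(center ↥E)) ≠ ⟨⟨v, (hcE v hv).1⟩, hcenter v hv⟩ :=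
        fun u v hu hv huv e => huv (congrArg (fun w : ↥(center ↥E) => ((w : ↥E) : G)) e)
      have key1 : ∀ (u : G) (hu : u ∈ centralizer (E : Set G)), u ≠ 1 →
          (⟨⟨u, (hcE u hu).1⟩, hcenter u hu⟩ : ↥(center ↥E)) ≠ 1 :=
        fun u hu hu1 e => hu1 (congrArg (fun w : ↥(center ↥E) => ((w : ↥E) : G)) e)
      have := five_le (key1 a ha ha1) (key1 b hb hb1) (key1 c hc hc1) (key1 d hd hd1) (key a b ha hb hab)
        (key a c ha hc hac) (key a d ha hd had) (key b c hb hc hbc) (key b d hb hd hbd) (key c d hc hd hcd)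
      omega
    -- `w = [x, t]`
    set w := x * (t * x * t) with hw
    have hwC : w ∈ centralizer (E : Set G) := mul_mem hx (htC x hx)
    have hx2 := hinv x hx
    have hx1 : x ≠ 1 := by
      rintro rfl
      exact hxt (by group)
    have hw1 : w ≠ 1 := by
      intro e
      apply hxt
      have h6 : t * x * t = x := by
        calc t * x * t = (x * x) * (t * x * t) := by rw [hx2, one_mul]
          _ = x * w := by rw [hw]; group
          _ = x := by rw [e, mul_one]
      calc x * t = (t * x * t) * t := by rw [h6]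
        _ = t * x * (t * t) := by group
        _ = t * x := by rw [h.tt, mul_one]
    have hwt : w * t = t * w := by
      have h6 : x * (t * x * t) = (t * x * t) * x := hcc x hx _ (htC x hx)
      calc w * t = (x * (t * x * t)) * t := by rw [hw]
        _ = ((t * x * t) * x) * t := by rw [h6]
        _ = t * (x * (t * x * t)) := by group
        _ = t * w := by rw [hw]
    have hxw1 : x * w ≠ 1 := by
      intro e
      apply hxt
      have : x = w⁻¹ := eq_inv_of_mul_eq_one_left e
      rw [this]
      exact ((Commute.inv_left (show Commute w t from hwt))).eq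
    have hxw_t : ¬ (x * w) * t = t * (x * w) := by
      intro e
      apply hxt
      have h6 : Commute (x * w) t := e
      have h7 : Commute w⁻¹ t := Commute.inv_left (show Commute w t from hwt)
      have h8 : Commute (x * w * w⁻¹) t := h6.mul_left h7
      rw [mul_inv_cancel_right] at h8
      exact h8.eq
    have hxw_ne : x ≠ w := fun e => hxt (e ▸ hwt)
    have hxxw : x ≠ x * w := fun e => hw1 (left_eq_mul.1 e)
    have hwxw : w ≠ x * w := fun e => hx1 (right_eq_mul.1 e)
    have hzw : z = w := by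
      by_contra hne
      refine h5 x w (x * w) z hx hwC (mul_mem hx hwC) hcz hx1 hw1 hxw1 h.z1 hxw_ne hxxw ?_ hwxw (Ne.symm hne) ?_
      · intro e
        exact hxt (e ▸ h.Zt z h.zZ)
      · intro e
        exact hxw_t (e ▸ h.Zt z h.zZ)
    have hconj : ∀ g : G, g * z = z * g → g * x * g⁻¹ = x ∨ g * x * g⁻¹ = x * z := by
      intro g hg
      have hgC : g * x * g⁻¹ ∈ centralizer (E : Set G) := by
        rw [mem_centralizer_iff]
        intro e he
        have hgi : g⁻¹ * z = z * g⁻¹ := (Commute.inv_left (show Commute g z from hg)).eq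
        have h6 := hnE g⁻¹ hgi e he
        have h7 := mem_centralizer_iff.1 hx _ h6
        calc e * (g * x * g⁻¹) = g * ((g⁻¹ * e * g⁻¹⁻¹) * x) * g⁻¹ := by group
          _ = g * (x * (g⁻¹ * e * g⁻¹⁻¹)) * g⁻¹ := by rw [h7]
          _ = g * x * g⁻¹ * e := by group
      by_contra hcon
      push Not at hcon
      have hg1 : g * x * g⁻¹ ≠ 1 := by
        intro e
        apply hx1
        have : x = g⁻¹ * (g * x * g⁻¹) * g := by group
        rw [this, e]; group
      have hgz : g * x * g⁻¹ ≠ w := by
        intro e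
        rw [← hzw] at e
        apply hxw_ne
        rw [← hzw]
        have : x = g⁻¹ * (g * x * g⁻¹) * g := by group
        rw [this, e, mul_assoc, ← hg]
        group
      rw [hzw] at hcon
      exact h5 x w (x * w) _ hx hwC (mul_mem hx hwC) hgC hx1 hw1 hxw1 hg1 hxw_ne hxxw hcon.1.symm hwxw hgz.symm
        hcon.2.symm
    -- the commutator subgroup of `C_G(z)` centralises `x`
    have htH : t ∈ centralizer ({z} : Set G) := mem_centralizer_singleton_iff.2 htz
    have hcomm : ∀ a b : G, a * z = z * a → b * z = z * b → a * b * x * (a * b)⁻¹ = b * a * x * (b * a)⁻¹ := by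
      intro a b ha hb
      have e1 : ∃ i : G, (i = 1 ∨ i = z) ∧ a * x * a⁻¹ = x * i := by
        rcases hconj a ha with e | e
        · exact ⟨1, Or.inl rfl, by rw [e, mul_one]⟩
        · exact ⟨z, Or.inr rfl, e⟩
      have e2 : ∃ j : G, (j = 1 ∨ j = z) ∧ b * x * b⁻¹ = x * j := by
        rcases hconj b hb with e | e
        · exact ⟨1, Or.inl rfl, by rw [e, mul_one]⟩
        · exact ⟨z, Or.inr rfl, e⟩
      obtain ⟨i, hi, e1⟩ := e1
      obtain ⟨j, hj, e2⟩ := e2
      have hai : a * j = j * a := by
        rcases hj with rfl | rfl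
        · group
        · exact ha
      have hbi : b * i = i * b := by
        rcases hi with rfl | rfl
        · group
        · exact hb
      have hij : i * j = j * i := by
        rcases hi with rfl | rfl
        · group
        · rcases hj with rfl | rfl
          · group
          · rfl
      calc a * b * x * (a * b)⁻¹ = a * (b * x * b⁻¹) * a⁻¹ := by group
        _ = a * x * (j * a⁻¹) := by rw [e2]; group
        _ = a * x * (a⁻¹ * j) := by
          have : j * a⁻¹ = a⁻¹ * j := ((Commute.inv_left (show Commute a j from hai))).eq.symm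
          rw [this]
        _ = (a * x * a⁻¹) * j := by group
        _ = x * (i * j) := by rw [e1]; group
        _ = x * (j * i) := by rw [hij]
        _ = (b * x * b⁻¹) * i := by rw [e2]; group
        _ = b * x * (b⁻¹ * i) := by group
        _ = b * x * (i * b⁻¹) := by
          have : i * b⁻¹ = b⁻¹ * i := ((Commute.inv_left (show Commute b i from hbi))).eq.symm
          rw [this]
        _ = b * (x * i) * b⁻¹ := by group
        _ = b * (a * x * a⁻¹) * b⁻¹ := by rw [e1]
        _ = _ := by group
    let S : Subgroup ↥(centralizer ({z} : Set G)) := (centralizer ({x} : Set G)).subgroupOf _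
    have hS : commutator ↥(centralizer ({z} : Set G)) ≤ S := by
      rw [_root_.commutator_def, commutator_le]
      intro a _ b _
      have ha := mem_centralizer_singleton_iff.1 a.2
      have hb := mem_centralizer_singleton_iff.1 b.2
      have ha' : (a : G)⁻¹ * z = z * (a : G)⁻¹ := (Commute.inv_left (show Commute (a : G) z from ha)).eq
      have hb' : (b : G)⁻¹ * z = z * (b : G)⁻¹ := (Commute.inv_left (show Commute (b : G) z from hb)).eq
      show ((⁅a, b⁆ : ↥(centralizer ({z} : Set G))) : G) ∈ centralizer ({x} : Set G)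
      rw [mem_centralizer_singleton_iff]
      have hab : ((⁅a, b⁆ : ↥(centralizer ({z} : Set G))) : G) = (a : G) * b * (a : G)⁻¹ * (b : G)⁻¹ := rfl
      rw [hab]
      have e3 := hcomm _ _ ha' hb'
      calc (a : G) * b * (a : G)⁻¹ * (b : G)⁻¹ * x
          = (a : G) * b * ((a : G)⁻¹ * (b : G)⁻¹ * x * ((a : G)⁻¹ * (b : G)⁻¹)⁻¹) *
            ((a : G)⁻¹ * (b : G)⁻¹) := by group
        _ = (a : G) * b * ((b : G)⁻¹ * (a : G)⁻¹ * x * ((b : G)⁻¹ * (a : G)⁻¹)⁻¹) *
            ((a : G)⁻¹ * (b : G)⁻¹) := by rw [e3]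
        _ = x * ((a : G) * b * (a : G)⁻¹ * (b : G)⁻¹) := by group
    have h9 := hS (h.tform htH)
    have h10 : t * x = x * t := mem_centralizer_singleton_iff.1 (mem_subgroupOf.1 h9)
    exact hxt h10.symm

end Ex

end Cfsg.Agent.OddHalf.D7Tw
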