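import Cfsg.Agent.OddHalf.D7Tw.Comp
import Cfsg.Agent.OddHalf.D7Tw.Exit
import Cfsg.Agent.OddHalf.D7Out.CzTwo

/-!
# THEOREM H for `K = ²E₆(q)`: `O₂(C_G(z)) = Q**` (helper756)

* `Base.no_comp`: `C_G(z)` has no component (`Ex.exit_false`).
* `Base.env`: helper76's `CzTwo.Env` for `H = C_G(z)`.
* `Base.norm`: `C_G(z)` normalises `Q** = D (W ρ) (AA W)` and `W ρ`.
-/

set_option autoImplicit false

namespace Cfsg.Agent.OddHalf.D7Tw

open Subgroup Cfsg
open Cfsg.Agent.OddHalf.Iface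
open Cfsg.Agent.OddHalf.D7Out.CzTwo
open Cfsg.Agent.SignalizersComponents.Components
open scoped commutatorElement

universe u

variable {L : Type*} [AddCommGroup L] {G : Type u} [Group G]
variable {t : G} {K : Subgroup G} {B : L → L → ℤ} {Φ : Set L} {X W : L → Subgroup G} {ρ : L} {P Q : Subgroup G}

namespace Base

/-- the hypotheses of the exit -/
theorem ex [Finite G] (D : Base t K B Φ X W ρ P Q) (C : Ctx G)
    (hSch : Cfsg.Agent.Schreier.Cases.SchFor.{u} @IsKnownSimple') {z : G} (hz : z ∈ X ρ) (hz1 : z ≠ 1)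
    (c : ∀ x ∈ X ρ, x ≠ 1 → Cen t x (X ρ) P Q) (trans : ∀ x ∈ X ρ, x ≠ 1 → ∃ g : G, g * z * g⁻¹ = x)
    (tform : ∀ ht : t ∈ centralizer ({z} : Set G),
      (⟨t, ht⟩ : ↥(centralizer ({z} : Set G))) ∈ commutator ↥(centralizer ({z} : Set G))) :
    Ex t z (X ρ) (W ρ) where
  tt := D.tt
  V2 := D.dbl.sq ρ D.hρ
  ZV := D.dbl.XW ρ D.hρ
  Zt := fun _ hw => D.z_t hw
  Vfix := fun w hw h => (D.dbl.cent ρ D.hρ w hw).1 h.symm
  zZ := hz
  z1 := hz1
  trans := trans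
  comp := by
    intro x hx hx1 M hM
    obtain ⟨-, h2, h3, h4, h5, h6, h7⟩ := D.component C hSch hx hx1 (c x hx hx1) hM
    exact ⟨h2, h3, h4, h5, h6, h7⟩
  tform := tform

/-- `O₂(C_G(z))` -/
def F0 (z : G) : Subgroup G := (pCore 2 ↥(centralizer ({z} : Set G))).map (centralizer ({z} : Set G)).subtype

theorem mem_F0 {z x : G} : x ∈ F0 z ↔ ∃ hx : x ∈ centralizer ({z} : Set G),
    (⟨x, hx⟩ : ↥(centralizer ({z} : Set G))) ∈ pCore 2 ↥(centralizer ({z} : Set G)) := by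
  constructor
  · rintro ⟨y, hy, rfl⟩
    exact ⟨y.2, hy⟩
  · rintro ⟨hx, h⟩
    exact ⟨_, h, rfl⟩

/-- **`CzTwo.Env`** -/
theorem env [Finite G] (D : Base t K B Φ X W ρ P Q) {z : G} (hz : z ∈ X ρ) (hz1 : z ≠ 1)
    (c : Cen t z (X ρ) P Q) (hcore : pPrimeCore 2 ↥(centralizer ({z} : Set G)) = ⊥)
    (hno : ∀ M : Subgroup ↥(centralizer ({z} : Set G)), ¬ IsComponent M) :
    Env (centralizer ({z} : Set G)) (F0 z) P Q (X ρ) t where
  F_le := map_subtype_le _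
  F_conj := by
    intro h hh x hx
    obtain ⟨hx1, hx2⟩ := mem_F0.1 hx
    have hn : (pCore 2 ↥(centralizer ({z} : Set G))).Normal := Lib.Cores.pCore_normal 2
    have h1 := hn.conj_mem _ hx2 ⟨h, hh⟩
    exact ⟨_, h1, rfl⟩
  F_two := (Lib.Cores.pCore_isPGroup (G := ↥(centralizer ({z} : Set G))) 2).map _
  F_cent := by
    intro h hh hc
    have hlay : layer ↥(centralizer ({z} : Set G)) = ⊥ := by
      rw [eq_bot_iff]
      exact layer_le_iff.2 fun M hM => absurd hM (hno M)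
    haveI : Fact (Nat.Prime 2) := ⟨Nat.prime_two⟩
    have hfit : fittingSubgroup ↥(centralizer ({z} : Set G)) = pCore 2 ↥(centralizer ({z} : Set G)) :=
      SignalizersComponents.PConstrained.fittingSubgroup_eq_pCore_of_pPrimeCore_eq_bot 2 hcore
    have hgen : generalizedFittingSubgroup ↥(centralizer ({z} : Set G)) =
        pCore 2 ↥(centralizer ({z} : Set G)) := by
      rw [Lib.GenFitting.genFitting_def, hlay, hfit, bot_sup_eq]
    have hcen := Lib.GenFitting.centralizer_genFitting_le (G := ↥(centralizer ({z} : Set G)))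
    rw [hgen] at hcen
    refine mem_F0.2 ⟨hh, hcen ?_⟩
    rw [mem_centralizer_iff]
    intro x hx
    exact Subtype.ext (hc x ⟨x, hx, rfl⟩).symm
  t_mem := mem_cent.2 (D.z_t hz).symm
  tt := D.tt
  P_le := D.P_le hz
  P_t := fun _ hp => D.Pt hp
  P_perf := D.perf
  P_ne := by
    intro h
    have h1 : z ∈ P := D.QP (D.ZX hz)
    rw [h, mem_bot] at h1
    exact hz1 h1
  Q_le := D.Q_le hz
  Q_t := fun _ hx => D.Pt (D.QP hx)
  Q_conj := fun h hh ht x hx => c.norQ h ht (mem_cent.1 hh) x hx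
  Z_le := D.ZX
  Z_P := fun x hx p hp => D.P_z hp hx
  Z_comm := fun a ha b hb => D.W_comm D.hρ (D.dbl.XW ρ D.hρ ha) (D.dbl.XW ρ D.hρ hb)
  h2 := fun x hx hxt hxP => c.cenQ x hxt (mem_cent.1 hx) fun y hy => (hxP y (D.QP hy)).symm
  h3 := by
    intro N hN hNt hN2 hNc
    exact c.core N hNt (fun x hx => mem_cent.1 (hN hx)) hN2 fun h ht hh => hNc h (mem_cent.2 hh) ht
  h4 := by
    intro N hN hNc
    exact c.irr N hN fun h ht hh => hNc h (mem_cent.2 hh) ht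
  y := by
    obtain ⟨s, hs, hsρ⟩ := D.ex0
    obtain ⟨x, hx, hx1⟩ := D.exists_ne hs
    obtain ⟨w, hw, hwx⟩ := D.dbl.surj s hs x hx
    have hxK : x ∈ K := D.XK s hs hx
    have hxt : x * t = t * x := D.Xt hs hx
    have hxi : x⁻¹ * t = t * x⁻¹ := ((Commute.inv_left (show Commute x t from hxt))).eq
    have hxQ : x⁻¹ ∉ Q := by
      intro h
      exact hx1 (inv_eq_one.1 (D.XnQ s hs hsρ x⁻¹ (inv_mem hx) h))
    refine ⟨w⁻¹, inv_mem (mem_cent.2 (D.W_z hs hsρ.ge hw hz)), x⁻¹, ?_, hxi, hxQ, ?_⟩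
    · have h1 : t * w * t = w * x := by rw [← hwx]; group
      have h2 : t * w⁻¹ * t = (w * x)⁻¹ := by
        rw [← h1, mul_inv_rev, mul_inv_rev, D.tinv, mul_assoc]
      calc t * (w⁻¹ * t * w⁻¹⁻¹) = (t * w⁻¹ * t) * w := by group
        _ = x⁻¹ := by rw [h2]; group
    · intro h
      have h1 : t * x⁻¹ ∈ K := D.PK (D.QP h)
      apply D.tK
      have := mul_mem h1 hxK
      rwa [inv_mul_cancel_right] at this

/-- **no component** -/
theorem no_comp [Finite G] (D : Base t K B Φ X W ρ P Q) (C : Ctx G)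
    (hSch : Cfsg.Agent.Schreier.Cases.SchFor.{u} @IsKnownSimple') (hGW : SylowSp4.Hyps.GW.{u})
    (hI : Iface.Intr.{u}) (hIN : IntrNon.{u}) (hMV : MultV.{u}) (hNI : CaseM.NI.{u})
    {z : G} (hz : z ∈ X ρ) (hz1 : z ≠ 1)
    (c : ∀ x ∈ X ρ, x ≠ 1 → Cen t x (X ρ) P Q) (trans : ∀ x ∈ X ρ, x ≠ 1 → ∃ g : G, g * z * g⁻¹ = x)
    (tform : ∀ ht : t ∈ centralizer ({z} : Set G),
      (⟨t, ht⟩ : ↥(centralizer ({z} : Set G))) ∈ commutator ↥(centralizer ({z} : Set G)))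
    (M : Subgroup ↥(centralizer ({z} : Set G))) : ¬ IsComponent M :=
  (D.ex C hSch hz hz1 c trans tform).exit_false C hSch hGW hI hIN hMV hNI M

/-- **`C_G(z)` normalises `Q**` and `W ρ`** -/
theorem norm [Finite G] (D : Base t K B Φ X W ρ P Q) {z : G} (hz : z ∈ X ρ) (hz1 : z ≠ 1)
    (c : Cen t z (X ρ) P Q) (hcore : pPrimeCore 2 ↥(centralizer ({z} : Set G)) = ⊥)
    (hno : ∀ M : Subgroup ↥(centralizer ({z} : Set G)), ¬ IsComponent M) :
    (∀ h ∈ centralizer ({z} : Set G), ∀ x ∈ Fam.D (W ρ) (fun i : Ind (G := G) B Φ ρ P => AA W i),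
      h * x * h⁻¹ ∈ Fam.D (W ρ) (fun i : Ind (G := G) B Φ ρ P => AA W i)) ∧
      ∀ h ∈ centralizer ({z} : Set G), ∀ w ∈ W ρ, h * w * h⁻¹ ∈ W ρ := by
  have E := D.env hz hz1 c hcore hno
  have S := D.fam hz
  refine ⟨?_, E.W_conj S D.ZQ⟩
  rw [← E.eq_D S]
  exact E.F_conj

end Base

end Cfsg.Agent.OddHalf.D7Tw
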