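import Cfsg.Agent.OddHalf.D7Tw.Loc
import Cfsg.Agent.OddHalf.D7Ex.SetupOf

/-!
# The doubled root group at one long root, any type, `q > 2` (helper622; model: helper657's `D7Ex.SetupOf`)

* `nP_of_perf` : `n` normalises `P`: perfect subgroups of `C(t)` lie in `K`, `C_K(Z) ≤ T P`;
* `nQ_of_core` : `n` normalises `Q`;
* `KY` : the facts on `t`, `Z`, `P`, `T`; `KY.out_big` : the doubled root group from `Cent`;
* `KY.exists_out` : the doubled root group from `Loc`.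
-/

set_option autoImplicit false
set_option linter.style.haveILetI false
set_option linter.unusedSectionVars false
set_option linter.unusedVariables false

namespace Cfsg.Agent.OddHalf.D7Tw

open Subgroup Cfsg.Agent.OddHalf.D7Ex
open scoped commutatorElement

variable {G : Type*} [Group G]

/-- `T` abelian normalising `P`: `[T P, T P] ≤ P`. -/
theorem commutator_sup_le {T P : Subgroup G} (Tab : ∀ h ∈ T, ∀ k ∈ T, h * k = k * h)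
    (TP : ∀ h ∈ T, ∀ p ∈ P, h * p * h⁻¹ ∈ P) : ⁅T ⊔ P, T ⊔ P⁆ ≤ P := by
  have hT : T ≤ normalizer (P : Set G) := by
    intro τ hτ
    rw [mem_normalizer_iff]
    intro p
    refine ⟨fun hp => TP τ hτ p hp, fun hp => ?_⟩
    have h1 := TP τ⁻¹ (inv_mem hτ) _ hp
    have e : τ⁻¹ * (τ * p * τ⁻¹) * τ⁻¹⁻¹ = p := by group
    rwa [e] at h1
  rw [commutator_le]
  intro a ha b hb
  rw [← SetLike.mem_coe, coe_mul_of_left_le_normalizer_right _ _ hT] at ha hb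
  obtain ⟨τ, hτ, p, hp, rfl⟩ := ha
  obtain ⟨σ, hσ, r, hr, rfl⟩ := hb
  have h1 := TP τ hτ p hp
  have h2 := TP (τ * σ) (mul_mem hτ hσ) (r * p⁻¹) (mul_mem hr (inv_mem hp))
  have h3 := TP σ hσ r⁻¹ (inv_mem hr)
  have hc := Tab τ hτ σ hσ
  have e : ⁅τ * p, σ * r⁆ = (τ * p * τ⁻¹) * (τ * σ * (r * p⁻¹) * (τ * σ)⁻¹) * (σ * r⁻¹ * σ⁻¹) := by
    rw [commutatorElement_def]
    calc τ * p * (σ * r) * (τ * p)⁻¹ * (σ * r)⁻¹
        = (τ * p * τ⁻¹) * ((τ * σ) * (r * p⁻¹) * τ⁻¹ * (r⁻¹ * σ⁻¹)) := by group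
      _ = (τ * p * τ⁻¹) * ((τ * σ) * (r * p⁻¹) * (σ * τ)⁻¹ * (σ * r⁻¹ * σ⁻¹)) := by group
      _ = _ := by rw [← hc]; group
  rw [e]
  exact mul_mem (mul_mem h1 h2) h3

/-- **`n` normalises `P`**: `P` perfect, perfect subgroups of `C(t)` lie in `K` and `C_K(Z) ≤ T P`. -/
theorem nP_of_perf {t : G} {Z P T K : Subgroup G} (tt : t * t = 1) [Finite G]
    (hK : ∀ D : Subgroup G, (∀ x ∈ D, x * t = t * x) → ⁅D, D⁆ = D → D ≤ K)
    (hCK : ∀ c ∈ K, (∀ x ∈ Z, c * x = x * c) → c ∈ T ⊔ P)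
    (Tab : ∀ h ∈ T, ∀ k ∈ T, h * k = k * h) (TP : ∀ h ∈ T, ∀ p ∈ P, h * p * h⁻¹ ∈ P)
    (hPC : P ≤ CC t Z) (hP : ⁅P, P⁆ = P) (n : G) (hX : ∀ x ∈ Z, n * x * n⁻¹ ∈ Z)
    (ht : t * (n * t * n⁻¹) ∈ Z) : ∀ p ∈ P, n * p * n⁻¹ ∈ P := by
  intro p hp
  let R : Subgroup G := P.map (MulAut.conj n).toMonoidHom
  have hR : R ≤ CC t Z := by
    rintro _ ⟨p, hp, rfl⟩
    exact conj_CC tt hX ht (hPC hp)
  have hRp : ⁅R, R⁆ = R := by
    rw [← map_commutator, hP]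
  have hRK : R ≤ K := hK R (fun x hx => (mem_CC.1 (hR hx)).1) hRp
  have hRT : R ≤ T ⊔ P := fun x hx => hCK x (hRK hx) (mem_CC.1 (hR hx)).2
  have hRP : R ≤ P := by
    rw [← hRp]
    exact (commutator_mono hRT hRT).trans (commutator_sup_le Tab TP)
  exact hRP ⟨p, hp, rfl⟩

/-- **`n` normalises `Q`**: `Q` is the largest normal `2`-subgroup of `P`. -/
theorem nQ_of_core {t : G} {Z Q P : Subgroup G} (tt : t * t = 1) [Finite G] (hQ2 : IsPGroup 2 Q) (QP : Q ≤ P)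
    (PQ : ∀ p ∈ P, ∀ q ∈ Q, p * q * p⁻¹ ∈ Q)
    (o2 : ∀ R : Subgroup G, R ≤ P → IsPGroup 2 R → (∀ p ∈ P, ∀ x ∈ R, p * x * p⁻¹ ∈ R) → R ≤ Q)
    (nP0 : ∀ n : G, (∀ x ∈ Z, n * x * n⁻¹ ∈ Z) → t * (n * t * n⁻¹) ∈ Z → ∀ p ∈ P, n * p * n⁻¹ ∈ P)
    (n : G) (hX : ∀ x ∈ Z, n * x * n⁻¹ ∈ Z) (ht : t * (n * t * n⁻¹) ∈ Z) : ∀ q ∈ Q, n * q * n⁻¹ ∈ Q := by
  obtain ⟨hX', ht'⟩ := inv_normX tt hX ht
  let R : Subgroup G := Q.map (MulAut.conj n).toMonoidHom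
  have hR : R ≤ Q := by
    apply o2 R
    · rintro _ ⟨q, hq, rfl⟩
      exact nP0 n hX ht _ (QP hq)
    · exact hQ2.map _
    · rintro p hp _ ⟨q, hq, rfl⟩
      have h1 := nP0 n⁻¹ hX' ht' p hp
      refine ⟨_, PQ _ h1 q hq, ?_⟩
      show n * (n⁻¹ * p * n⁻¹⁻¹ * q * (n⁻¹ * p * n⁻¹⁻¹)⁻¹) * n⁻¹ = p * (n * q * n⁻¹) * p⁻¹
      group
  exact fun q hq => hR ⟨q, hq, rfl⟩

/-! ### The facts -/

/-- The facts on `t`, `Z`, `P` and the torus `T`. -/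
structure KY (t : G) (Z P T : Subgroup G) : Prop where
  tt : t * t = 1
  tZ : t ∉ Z
  Z2 : ∀ x ∈ Z, x * x = 1
  ZP : Z ≤ P
  tP : ∀ p ∈ P, t * p = p * t
  cen : ∀ x ∈ Z, ∀ p ∈ P, x * p = p * x
  tT : ∀ h ∈ T, t * h = h * t
  TZ : ∀ h ∈ T, ∀ x ∈ Z, h * x * h⁻¹ ∈ Z
  TP : ∀ h ∈ T, ∀ p ∈ P, h * p * h⁻¹ ∈ P
  Tab : ∀ h ∈ T, ∀ k ∈ T, h * k = k * h
  cP : ∀ c, t * c = c * t → (∀ p ∈ P, c * p = p * c) → c ∈ Z ∨ t * c ∈ Z

namespace KY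

variable {t : G} {Z P T : Subgroup G}

theorem PC (K : KY t Z P T) : P ≤ CC t Z := fun p hp => by
  rw [mem_CC]
  exact ⟨(K.tP p hp).symm, fun x hx => (K.cen x hx p hp).symm⟩

/-- The hypotheses of `Cent`. -/
theorem cent (K : KY t Z P T) (hex : ∀ x ∈ Z, ∃ b : G, (∀ p ∈ P, b * p = p * b) ∧ b * t * b⁻¹ = t * x) :
    Cent t Z P where
  tt := K.tt
  tX := K.tZ
  X2 := K.Z2
  XP := K.ZP
  tP := K.tP
  Xc := K.cen
  cP := K.cP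
  ex := hex

theorem nice (K : KY t Z P T) {h k : G} (hh : h ∈ T) (hk : k ∈ T) : Nice t Z P h k where
  kt := (K.tT k hk).symm
  kX := by
    intro x
    refine ⟨K.TZ k hk x, fun hx => ?_⟩
    have := K.TZ k⁻¹ (inv_mem hk) _ hx
    have e : k⁻¹ * (k * x * k⁻¹) * k⁻¹⁻¹ = x := by group
    rwa [e] at this
  kP := by
    intro p
    refine ⟨K.TP k hk p, fun hp => ?_⟩
    have := K.TP k⁻¹ (inv_mem hk) _ hp
    have e : k⁻¹ * (k * p * k⁻¹) * k⁻¹⁻¹ = p := by group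
    rwa [e] at this
  kh := by
    have e : k * h * k⁻¹ * h⁻¹ = 1 := by rw [K.Tab k hk h hh]; group
    rw [e]; exact one_mem _

/-- `h` is fixed point free on `Z`. -/
theorem fpf (K : KY t Z P T) (Htr : ∀ x ∈ Z, ∀ y ∈ Z, x ≠ 1 → y ≠ 1 → ∃ h ∈ T, h * x * h⁻¹ = y)
    {h : G} (hh : h ∈ T) (hne : ∃ x ∈ Z, h * x * h⁻¹ ≠ x) : ∀ x ∈ Z, h * x * h⁻¹ = x → x = 1 := by
  obtain ⟨x0, hx0, hne⟩ := hne
  have hx01 : x0 ≠ 1 := by
    rintro rfl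
    apply hne; group
  intro x hx e
  by_contra hx1
  apply hne
  obtain ⟨k, hk, ek⟩ := Htr x hx x0 hx0 hx1 hx01
  have hc := K.Tab h hh k hk
  calc h * x0 * h⁻¹ = (h * k) * x * (h * k)⁻¹ := by rw [← ek]; group
    _ = k * (h * x * h⁻¹) * k⁻¹ := by rw [hc]; group
    _ = x0 := by rw [e, ek]

/-- **The doubled root group from `Cent`, `q > 2`.** -/
theorem out_big (K : KY t Z P T) [Finite G] (C : Cent t Z P)
    (Htr : ∀ x ∈ Z, ∀ y ∈ Z, x ≠ 1 → y ≠ 1 → ∃ h ∈ T, h * x * h⁻¹ = y)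
    {h : G} (hh : h ∈ T) {m : ℕ} (hm : Odd m) (hm1 : h ^ m = 1) (hne : ∃ x ∈ Z, h * x * h⁻¹ ≠ x) :
    ∃ W, KR.Out t Z P T W := by
  have hf := K.fpf Htr hh hne
  have hN := K.nice hh hh
  refine ⟨C.Wbig hN m, C.isDbl_big hN hm1 hm hf, fun w hw => ?_, ?_⟩
  · obtain ⟨h1, -⟩ := (C.mem_Wbig hN m).1 hw
    exact C.sq_mem h1
  · intro k hk
    have hle : T ⊔ P ≤
        { carrier := {k | (∀ w ∈ C.Wbig hN m, k * w * k⁻¹ ∈ C.Wbig hN m) ∧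
            ∀ w ∈ C.Wbig hN m, k⁻¹ * w * k ∈ C.Wbig hN m}
          one_mem' := ⟨fun w hw => by simpa using hw, fun w hw => by simpa using hw⟩
          mul_mem' := by
            rintro a b ⟨ha, ha'⟩ ⟨hb, hb'⟩
            refine ⟨fun w hw => ?_, fun w hw => ?_⟩
            · have := ha _ (hb w hw)
              have e : a * b * w * (a * b)⁻¹ = a * (b * w * b⁻¹) * a⁻¹ := by group
              rwa [e]
            · have := hb' _ (ha' w hw)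
              have e : (a * b)⁻¹ * w * (a * b) = b⁻¹ * (a⁻¹ * w * a) * b := by group
              rwa [e]
          inv_mem' := by
            rintro a ⟨ha, ha'⟩
            exact ⟨fun w hw => by simpa using ha' w hw, fun w hw => by simpa using ha w hw⟩ : Subgroup G } := by
      refine sup_le (fun k hk => ⟨fun w hw => C.nice_big hN m (K.nice hh hk) hw, fun w hw => ?_⟩)
        fun k hk => ⟨fun w hw => ?_, fun w hw => ?_⟩
      · have := C.nice_big hN m (K.nice hh (inv_mem hk)) hw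
        rwa [inv_inv] at this
      · rw [← (C.isDbl_big hN hm1 hm hf).WP w hw k hk, mul_inv_cancel_right]
        exact hw
      · rw [mul_assoc, (C.isDbl_big hN hm1 hm hf).WP w hw k hk, inv_mul_cancel_left]
        exact hw
    exact (hle hk).1

/-- **The doubled root group at one root, `q > 2`.** -/
theorem exists_out {ι : Type*} [Finite ι] [Finite G] {X : ι → Subgroup G} {op : ι → ι} {g : Set ι}
    (K : KY t Z P T) (L : Loc X Z P op g) (hP : ⁅P, P⁆ = P)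
    (nP0 : ∀ n : G, (∀ x ∈ Z, n * x * n⁻¹ ∈ Z) → t * (n * t * n⁻¹) ∈ Z → ∀ p ∈ P, n * p * n⁻¹ ∈ P)
    (hQ2 : IsPGroup 2 (QS X Z Set.univ))
    (o2 : ∀ R : Subgroup G, R ≤ P → IsPGroup 2 R → (∀ p ∈ P, ∀ x ∈ R, p * x * p⁻¹ ∈ R) → R ≤ QS X Z Set.univ)
    (Htr : ∀ x ∈ Z, ∀ y ∈ Z, x ≠ 1 → y ≠ 1 → ∃ h ∈ T, h * x * h⁻¹ = y)
    {h : G} (hh : h ∈ T) (hPQ : ∀ p ∈ P, h * p * h⁻¹ * p⁻¹ ∈ QS X Z Set.univ) {m : ℕ} (hm : Odd m)
    (hm1 : h ^ m = 1) (hne : ∃ x ∈ Z, h * x * h⁻¹ ≠ x)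
    {n : G} (hX : ∀ x ∈ Z, n * x * n⁻¹ ∈ Z) (ht : t * (n * t * n⁻¹) ∈ Z) (hnt : n * t * n⁻¹ ≠ t) :
    ∃ W, KR.Out t Z P T W := by
  have S : Setup t Z (QS X Z Set.univ) P T := L.setup K.tt K.tZ K.tP K.tT K.TZ hP fun n hX ht =>
    ⟨nP0 n hX ht, nQ_of_core K.tt hQ2 (L.QS_le_P _) (fun p hp q hq => L.PQ hp hq) o2 nP0 n hX ht⟩
  have hn : n ∈ S.N := by
    refine ⟨hX, fun x hx => ?_, ht⟩
    have := (inv_normX K.tt hX ht).1 x hx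
    rwa [inv_inv] at this
  refine K.out_big (K.cent fun x hx => S.exists_cent_of_big ?_ Htr ⟨h, hh, hPQ, hne⟩ hn hnt hx) Htr hh hm hm1 hne
  exact fun n h2 hQ hX hP q hq => L.lin h2 hQ hX hP hq

end KY

end Cfsg.Agent.OddHalf.D7Tw
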