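import Cfsg.Agent.OddHalf.D7Ex.Wab

/-!
# The doubled root groups are abelian, `q > 2`: general form (helper622; copy of helper657's `D7Ex.Wab`)

`PreWY` : `D7Ex.PreW` with the centraliser hypothesis `K2` for a family `Y r s` of subsets of `C(W r) ∩ C(W s)` (twisted
types: `Φ` = the long roots, `Y r s` contains the short root groups). The proofs from (C) on are those of `PreW`.
-/

set_option autoImplicit false
set_option linter.unusedSectionVars false

namespace Cfsg.Agent.OddHalf.D7Tw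

open Subgroup Cfsg.Agent.OddHalf.SL.Defs
open Cfsg.Agent.OddHalf.D7Ex.PreW (d d_conj d_mul comm_of_d eq_t)

variable {L : Type*} [AddCommGroup L] {G : Type*} [Group G]

/-- The doubled root groups before one knows that they are abelian. -/
structure PreWY (t : G) (B : L → L → ℤ) (Φ : Set L) (X W : L → Subgroup G) (Y : L → L → Set G) : Prop where
  roots : Roots B Φ
  tt : t * t = 1
  tX : ∀ r ∈ Φ, ∀ x ∈ X r, t * x = x * t
  Xsq : ∀ r ∈ Φ, ∀ x ∈ X r, x * x = 1
  XW : ∀ r ∈ Φ, X r ≤ W r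
  Wsq : ∀ r ∈ Φ, ∀ w ∈ W r, w * w ∈ X r
  brk : ∀ r ∈ Φ, ∀ w ∈ W r, w⁻¹ * (t * w * t) ∈ X r
  cent : ∀ r ∈ Φ, ∀ w ∈ W r, t * w = w * t → w ∈ X r
  surj : ∀ r ∈ Φ, ∀ x ∈ X r, ∃ w ∈ W r, w⁻¹ * (t * w * t) = x
  WX : ∀ r ∈ Φ, ∀ a ∈ Φ, 0 ≤ B a r → ∀ w ∈ W r, ∀ x ∈ X a, w * x = x * w
  inf : ∀ r ∈ Φ, ∀ s ∈ Φ, B r s = 1 → ∀ x ∈ X r, x ∈ X s → x = 1
  neg : ∀ r ∈ Φ, ∀ s ∈ Φ, B r s = -1 → ∀ x ∈ X r, ∀ y ∈ X s, x * y * x⁻¹ * y⁻¹ ∈ X (r + s)
  sur : ∀ a ∈ Φ, ∀ b ∈ Φ, B a b = -1 → ∀ y ∈ X b, y ≠ 1 → ∀ z ∈ X (a + b), ∃ x ∈ X a, x * y * x⁻¹ * y⁻¹ = z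
  YW : ∀ r ∈ Φ, ∀ s ∈ Φ, B r s = 1 → ∀ c ∈ Y r s, (∀ w ∈ W r, w * c = c * w) ∧ (∀ w ∈ W s, w * c = c * w)
  Yd : ∀ r ∈ Φ, ∀ s ∈ Φ, B r s = 1 → ∀ c ∈ Y r s, ∀ g ∈ X (r - s), ∀ w ∈ W s,
    w * (g⁻¹ * c * g) = (g⁻¹ * c * g) * w
  K2 : ∀ r ∈ Φ, ∀ s ∈ Φ, B r s = 1 → ∀ c, c * t = t * c → (∀ k ∈ Y r s, c * k = k * c) →
    ∃ x ∈ X r, ∃ y ∈ X s, c = x * y ∨ c = t * (x * y)
  /-- the swap -/
  swap : ∀ r ∈ Φ, ∀ s ∈ Φ, B r s = 1 → ∀ x ∈ X r, ∀ y ∈ X s, x ≠ 1 → y ≠ 1 → ∃ n : G, n * t = t * n ∧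
    n * x * n⁻¹ = y ∧ n * y * n⁻¹ = x ∧ (∀ w ∈ W r, n * w * n⁻¹ ∈ W s) ∧ (∀ w ∈ W s, n * w * n⁻¹ ∈ W r)
  three : ∀ r ∈ Φ, ∀ x ∈ X r, ∃ y ∈ X r, y ≠ 1 ∧ y ≠ x

namespace PreWY

variable {t : G} {B : L → L → ℤ} {Φ : Set L} {X W : L → Subgroup G} {Y : L → L → Set G}

theorem d_eq_one (h : PreWY t B Φ X W Y) {r : L} (hr : r ∈ Φ) {w : G} (hw : w ∈ W r) (hd : d t w = 1) : w ∈ X r :=
  h.cent r hr w hw (eq_t h.tt hd)

theorem inv_X (h : PreWY t B Φ X W Y) {r : L} (hr : r ∈ Φ) {x : G} (hx : x ∈ X r) : x⁻¹ = x :=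
  inv_eq_of_mul_eq_one_left (h.Xsq r hr x hx)

/-- (B) -/
theorem stepB (h : PreWY t B Φ X W Y) {r s : L} (hr : r ∈ Φ) (hs : s ∈ Φ) (hrs : B r s = 1) {g u w : G}
    (hg : g ∈ X (r - s)) (hu : u ∈ W s) (hw : w ∈ W r) (hd : d t w = g * d t u * g⁻¹ * (d t u)⁻¹) :
    ∃ x ∈ X r, ∃ y ∈ X s, g * u * g⁻¹ = x * y * (u * w) ∨ g * u * g⁻¹ = t * (x * y) * (u * w) := by
  have R := h.roots
  have ha : r - s ∈ Φ := R.sub_mem hr hs hrs
  have hsr : B s r = 1 := by rw [R.symm]; exact hrs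
  have hgt : g * t = t * g := (h.tX _ ha g hg).symm
  have hdu : d t u ∈ X s := h.brk s hs u hu
  have hduw : d t u * w = w * d t u := (h.WX r hr s hs (by rw [hsr]; norm_num) w hw _ hdu).symm
  have hd1 : d t (g * u * g⁻¹) = d t (u * w) := by
    rw [d_conj hgt, d_mul h.tt hduw, hd]
    have h1 : d t u * (g * d t u * g⁻¹ * (d t u)⁻¹) = (g * d t u * g⁻¹ * (d t u)⁻¹) * d t u := by
      rw [← hd]
      exact h.WX r hr s hs (by rw [hsr]; norm_num) _ (by
        have := h.brk r hr w hw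
        exact h.XW r hr this) _ hdu |>.symm
    rw [h1]; group
  have hc1 := comm_of_d h.tt hd1
  obtain ⟨x, hx, y, hy, e⟩ := h.K2 r hr s hs hrs _ hc1 (by
    intro x hx
    -- `u w` commutes with `x`
    have c1 : u * x = x * u := (h.YW r hr s hs hrs x hx).2 u hu
    have c2 : w * x = x * w := (h.YW r hr s hs hrs x hx).1 w hw
    -- `g u g⁻¹` commutes with `x`
    have c3 : (g * u * g⁻¹) * x = x * (g * u * g⁻¹) := by
      have c4 : u * (g⁻¹ * x * g) = (g⁻¹ * x * g) * u := h.Yd r hr s hs hrs x hx g hg u hu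
      calc g * u * g⁻¹ * x = g * (u * (g⁻¹ * x * g)) * g⁻¹ := by group
        _ = g * ((g⁻¹ * x * g) * u) * g⁻¹ := by rw [c4]
        _ = _ := by group
    have c5 : (u * w)⁻¹ * x = x * (u * w)⁻¹ := by
      have : (u * w) * x = x * (u * w) := by rw [mul_assoc, c2, ← mul_assoc, c1, mul_assoc]
      rw [inv_mul_eq_iff_eq_mul, ← mul_assoc, this, mul_inv_cancel_right]
    rw [mul_assoc, c5, ← mul_assoc, c3, mul_assoc])
  refine ⟨x, hx, y, hy, ?_⟩
  rcases e with e | e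
  · left; rw [← e]; group
  · right; rw [← e]; group

/-- (C) -/
theorem stepC_aux (h : PreWY t B Φ X W Y) {r s : L} (hr : r ∈ Φ) (hs : s ∈ Φ) (hrs : B r s = 1) {u w : G}
    (hu : u ∈ W s) (hw : w ∈ W r) {g x y : G} (hg : g ∈ X (r - s)) (hx : x ∈ X r) (hy : y ∈ X s) :
    (g * u * g⁻¹ = x * y * (u * w) → w * u * w⁻¹ * u⁻¹ ∈ X r) ∧
    (g * u * g⁻¹ = t * (x * y) * (u * w) → ∃ x ∈ X r, w * u * w⁻¹ * u⁻¹ = x * d t u) := by
  have R := h.roots
  have ha : r - s ∈ Φ := R.sub_mem hr hs hrs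
  have hsr : B s r = 1 := by rw [R.symm]; exact hrs
  have h1 : B (r - s) s = -1 := by rw [R.sub_left, hrs, R.two s hs]; norm_num
  have hduX : d t u ∈ X s := h.brk s hs u hu
  have hdwX : d t w ∈ X r := h.brk r hr w hw
  -- commuting facts
  have hXrXs : ∀ x ∈ X r, ∀ y ∈ X s, x * y = y * x := fun x hx y hy =>
    h.WX r hr s hs (by rw [hsr]; norm_num) x (h.XW r hr hx) y hy
  have cu : ∀ x ∈ X r, u * x = x * u := fun x hx => h.WX s hs r hr (by rw [hrs]; norm_num) u hu x hx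
  have cu' : ∀ x ∈ X s, u * x = x * u := fun x hx => h.WX s hs s hs (by rw [R.two s hs]; norm_num) u hu x hx
  have cw : ∀ x ∈ X r, w * x = x * w := fun x hx => h.WX r hr r hr (by rw [R.two r hr]; norm_num) w hw x hx
  have cw' : ∀ x ∈ X s, w * x = x * w := fun x hx => h.WX r hr s hs (by rw [hsr]; norm_num) w hw x hx
  have hu2 := h.Wsq s hs u hu
  have hw2 := h.Wsq r hr w hw
  -- `g u² g⁻¹ = z u²`, `z ∈ X r`
  have hz := h.neg _ ha s hs h1 g hg (u * u) hu2
  rw [sub_add_cancel] at hz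
  obtain ⟨z, hzd⟩ : ∃ z, z = g * (u * u) * g⁻¹ * (u * u)⁻¹ := ⟨_, rfl⟩
  rw [← hzd] at hz
  have hsq : (g * u * g⁻¹) * (g * u * g⁻¹) = z * (u * u) := by rw [hzd]; group
  have hxx := h.Xsq r hr x hx
  have hyy := h.Xsq s hs y hy
  -- the square of `x y u w`
  have hq : (x * y * (u * w)) * (x * y * (u * w)) = (u * w) * (u * w) := by
    have c1 : (u * w) * x = x * (u * w) := by rw [mul_assoc, cw x hx, ← mul_assoc, cu x hx, mul_assoc]
    have c2 : (u * w) * y = y * (u * w) := by rw [mul_assoc, cw' y hy, ← mul_assoc, cu' y hy, mul_assoc]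
    calc (x * y * (u * w)) * (x * y * (u * w)) = x * y * ((u * w) * x) * y * (u * w) := by group
      _ = x * (y * x) * ((u * w) * y) * (u * w) := by rw [c1]; group
      _ = x * (x * y) * (y * (u * w)) * (u * w) := by rw [c2, hXrXs x hx y hy]
      _ = (x * x) * (y * y) * ((u * w) * (u * w)) := by group
      _ = _ := by rw [hxx, hyy, one_mul, one_mul]
  have hw2' : (w * w)⁻¹ ∈ X r := inv_mem hw2
  -- from `(u w)² = k u²`, `k` commuting with `u`, `w`: `[w, u] = k (w w)⁻¹`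
  have key : ∀ k : G, k * u = u * k → (u * w) * (u * w) = k * (u * u) →
      w * u * w⁻¹ * u⁻¹ = k * (w * w)⁻¹ := by
    intro k hk e
    have e1 : w * u = k * u * w⁻¹ := by
      have e2 : u * (w * u) = u * (k * u * w⁻¹) := by
        calc u * (w * u) = (u * w) * (u * w) * w⁻¹ := by group
          _ = (k * u) * u * w⁻¹ := by rw [e]; group
          _ = (u * k) * u * w⁻¹ := by rw [hk]
          _ = u * (k * u * w⁻¹) := by group
      exact mul_left_cancel e2
    calc w * u * w⁻¹ * u⁻¹ = k * (u * (w * w)⁻¹) * u⁻¹ := by rw [e1]; group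
      _ = k * (w * w)⁻¹ := by rw [cu _ hw2']; group
  refine ⟨fun hB => ?_, fun hB => ?_⟩
  · rw [hB, hq] at hsq
    rw [key z (cu z hz).symm hsq]
    exact mul_mem hz hw2'
  · have tinv : t⁻¹ = t := inv_eq_of_mul_eq_one_left h.tt
    -- `(t x y u w)² = (t (x y u w) t) (x y u w)`
    have htx : t * x = x * t := h.tX r hr x hx
    have hty : t * y = y * t := h.tX s hs y hy
    have htu : t * u * t = u * d t u := by unfold d; group
    have htw : t * w * t = w * d t w := by unfold d; group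
    have hq2 : (t * (x * y) * (u * w)) * (t * (x * y) * (u * w)) =
        (d t u * d t w) * ((x * y * (u * w)) * (x * y * (u * w))) := by
      have e1 : t * (x * y) = (x * y) * t := by rw [← mul_assoc, htx, mul_assoc, hty, ← mul_assoc]
      have e2 : (t * (x * y) * (u * w)) * t = x * y * ((t * u * t) * (t * w * t)) := by
        calc (t * (x * y) * (u * w)) * t = x * y * (t * u * 1 * w * t) := by rw [e1]; group
          _ = x * y * (t * u * (t * t) * w * t) := by rw [h.tt]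
          _ = _ := by group
      have e3 : (t * u * t) * (t * w * t) = (d t u * d t w) * (u * w) := by
        rw [htu, htw]
        calc u * d t u * (w * d t w) = (u * d t u) * (d t w * w) := by rw [cw _ hdwX]
          _ = (d t u * u) * (d t w * w) := by rw [cu' _ hduX]
          _ = d t u * (u * d t w) * w := by group
          _ = _ := by rw [cu _ hdwX]; group
      have e4 : x * y * (d t u * d t w) = (d t u * d t w) * (x * y) := by
        have c1 : x * d t u = d t u * x := hXrXs x hx _ hduX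
        have c2 : x * d t w = d t w * x :=
          h.WX r hr r hr (by rw [R.two r hr]; norm_num) x (h.XW r hr hx) _ hdwX
        have c3 : y * d t u = d t u * y :=
          h.WX s hs s hs (by rw [R.two s hs]; norm_num) y (h.XW s hs hy) _ hduX
        have c4 : y * d t w = d t w * y := (hXrXs _ hdwX y hy).symm
        calc x * y * (d t u * d t w) = x * (y * d t u) * d t w := by group
          _ = (x * d t u) * (y * d t w) := by rw [c3]; group
          _ = d t u * (x * d t w) * y := by rw [c1, c4]; group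
          _ = _ := by rw [c2]; group
      calc (t * (x * y) * (u * w)) * (t * (x * y) * (u * w)) =
          ((t * (x * y) * (u * w)) * t) * ((x * y) * (u * w)) := by group
        _ = x * y * ((d t u * d t w) * (u * w)) * ((x * y) * (u * w)) := by rw [e2, e3]
        _ = (x * y * (d t u * d t w)) * (u * w) * ((x * y) * (u * w)) := by group
        _ = _ := by rw [e4]; group
    rw [hB, hq2, hq] at hsq
    -- `(u w)² = (d u d w)⁻¹ z u²`
    have hzk : (d t u * d t w)⁻¹ * z * u = u * ((d t u * d t w)⁻¹ * z) := by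
      have c1 : u * (d t u * d t w)⁻¹ = (d t u * d t w)⁻¹ * u := by
        rw [mul_inv_rev, ← mul_assoc, cu _ (inv_mem hdwX), mul_assoc, cu' _ (inv_mem hduX), mul_assoc]
      rw [← mul_assoc, c1, mul_assoc, ← cu z hz, mul_assoc]
    have hsq' : (u * w) * (u * w) = (d t u * d t w)⁻¹ * z * (u * u) := by
      rw [mul_assoc _ z, ← hsq]; group
    refine ⟨d t w * z * (w * w)⁻¹, mul_mem (mul_mem hdwX hz) hw2', ?_⟩
    rw [key _ hzk hsq', mul_inv_rev, h.inv_X hr hdwX, h.inv_X hs hduX]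
    have c5 := hXrXs _ (mul_mem hz hw2') _ hduX
    calc d t w * d t u * z * (w * w)⁻¹ = d t w * (d t u * (z * (w * w)⁻¹)) := by group
      _ = d t w * ((z * (w * w)⁻¹) * d t u) := by rw [c5]
      _ = _ := by group

/-- (C) -/
theorem stepC (h : PreWY t B Φ X W Y) {r s : L} (hr : r ∈ Φ) (hs : s ∈ Φ) (hrs : B r s = 1) {u w : G}
    (hu : u ∈ W s) (hw : w ∈ W r) (hdu : d t u ≠ 1) :
    w * u * w⁻¹ * u⁻¹ ∈ X r ∨ ∃ x ∈ X r, w * u * w⁻¹ * u⁻¹ = x * d t u := by
  have R := h.roots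
  have ha : r - s ∈ Φ := R.sub_mem hr hs hrs
  have h1 : B (r - s) s = -1 := by rw [R.sub_left, hrs, R.two s hs]; norm_num
  have hduX : d t u ∈ X s := h.brk s hs u hu
  have hdwX : d t w ∈ X r := h.brk r hr w hw
  obtain ⟨g, hg, e⟩ := h.sur _ ha s hs h1 (d t u) hduX hdu (d t w) (by
    rw [sub_add_cancel]; exact hdwX)
  obtain ⟨x, hx, y, hy, hB⟩ := h.stepB hr hs hrs hg hu hw e.symm
  have h2 := h.stepC_aux hr hs hrs hu hw hg hx hy
  rcases hB with hB | hB
  · exact Or.inl (h2.1 hB)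
  · exact Or.inr (h2.2 hB)

/-- `[W r, W s] = 1` -/
theorem comm60 (h : PreWY t B Φ X W Y) {r s : L} (hr : r ∈ Φ) (hs : s ∈ Φ) (hrs : B r s = 1) {u w : G}
    (hu : u ∈ W s) (hw : w ∈ W r) : w * u = u * w := by
  have R := h.roots
  have hsr : B s r = 1 := by rw [R.symm]; exact hrs
  have hXrXs : ∀ x ∈ X r, ∀ y ∈ X s, x * y = y * x := fun x hx y hy =>
    h.WX r hr s hs (by rw [hsr]; norm_num) x (h.XW r hr hx) y hy
  -- the possible values
  have val : ∀ u ∈ W s, ∀ w ∈ W r, d t u ≠ 1 → d t w ≠ 1 →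
      w * u * w⁻¹ * u⁻¹ = 1 ∨ w * u * w⁻¹ * u⁻¹ = d t w * d t u := by
    intro u hu w hw hdu hdw
    have hduX : d t u ∈ X s := h.brk s hs u hu
    have hdwX : d t w ∈ X r := h.brk r hr w hw
    have c1 := h.stepC hr hs hrs hu hw hdu
    have c2 := h.stepC hs hr hsr hw hu hdw
    have e0 : u * w * u⁻¹ * w⁻¹ = (w * u * w⁻¹ * u⁻¹)⁻¹ := by group
    rw [e0] at c2
    obtain ⟨c, hc⟩ : ∃ c, c = w * u * w⁻¹ * u⁻¹ := ⟨_, rfl⟩
    rw [← hc] at c1 c2 ⊢
    -- the swap
    obtain ⟨n, hnt, hn1, hn2, hnr, hns⟩ := h.swap r hr s hs hrs _ hdwX _ hduX hdw hdu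
    have hcc : n * c * n⁻¹ = c⁻¹ := by
      -- `n w n⁻¹ = u y`, `n u n⁻¹ = w x`
      have d1 : d t (n * w * n⁻¹) = d t u := by rw [d_conj hnt]; exact hn1
      have d2 : d t (n * u * n⁻¹) = d t w := by rw [d_conj hnt]; exact hn2
      have hy : (n * w * n⁻¹) * u⁻¹ ∈ X s :=
        h.cent s hs _ (mul_mem (hnr w hw) (inv_mem hu)) (comm_of_d h.tt d1).symm
      have hx : (n * u * n⁻¹) * w⁻¹ ∈ X r :=
        h.cent r hr _ (mul_mem (hns u hu) (inv_mem hw)) (comm_of_d h.tt d2).symm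
      obtain ⟨y, hy'⟩ : ∃ y, y = (n * w * n⁻¹) * u⁻¹ := ⟨_, rfl⟩
      obtain ⟨x, hx'⟩ : ∃ x, x = (n * u * n⁻¹) * w⁻¹ := ⟨_, rfl⟩
      rw [← hy'] at hy
      rw [← hx'] at hx
      have ew : n * w * n⁻¹ = y * u := by rw [hy']; group
      have eu : n * u * n⁻¹ = x * w := by rw [hx']; group
      have cux : u * x = x * u := h.WX s hs r hr (by rw [hrs]; norm_num) u hu x hx
      have cwx : w * x = x * w := h.WX r hr r hr (by rw [R.two r hr]; norm_num) w hw x hx
      have cwy : w * y = y * w := h.WX r hr s hs (by rw [hsr]; norm_num) w hw y hy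
      have cuy : u * y = y * u := h.WX s hs s hs (by rw [R.two s hs]; norm_num) u hu y hy
      have cxy : x * y = y * x := hXrXs x hx y hy
      calc n * c * n⁻¹ = (n * w * n⁻¹) * (n * u * n⁻¹) * (n * w * n⁻¹)⁻¹ * (n * u * n⁻¹)⁻¹ := by
            rw [hc]; group
        _ = (y * u) * (x * w) * (y * u)⁻¹ * (x * w)⁻¹ := by rw [ew, eu]
        _ = y * (u * x) * w * (u⁻¹ * y⁻¹) * (x * w)⁻¹ := by group
        _ = y * x * u * w * u⁻¹ * y⁻¹ * (x * w)⁻¹ := by rw [cux]; group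
        _ = (x * y) * u * w * u⁻¹ * y⁻¹ * (w⁻¹ * x⁻¹) := by rw [← cxy]; group
        _ = x * (y * (u * w * u⁻¹)) * y⁻¹ * w⁻¹ * x⁻¹ := by group
        _ = x * ((u * w * u⁻¹) * y) * y⁻¹ * w⁻¹ * x⁻¹ := by
          have : y * (u * w * u⁻¹) = (u * w * u⁻¹) * y := by
            calc y * (u * w * u⁻¹) = (y * u) * w * u⁻¹ := by group
              _ = u * (y * w) * u⁻¹ := by rw [← cuy]; group
              _ = u * w * (y * u) * u⁻¹ * u⁻¹ := by rw [← cwy]; group
              _ = u * w * (u * y) * u⁻¹ * u⁻¹ := by rw [← cuy]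
              _ = u * w * u * (y * (u⁻¹ * u⁻¹)) := by group
              _ = u * w * u * ((u⁻¹ * u⁻¹) * y) := by
                rw [h.WX s hs s hs (by rw [R.two s hs]; norm_num) _ (mul_mem (inv_mem hu) (inv_mem hu)) y hy]
              _ = _ := by group
          rw [this]
        _ = (x * (u * w * u⁻¹ * w⁻¹)) * x⁻¹ := by group
        _ = ((u * w * u⁻¹ * w⁻¹) * x) * x⁻¹ := by
          have : x * (u * w * u⁻¹ * w⁻¹) = (u * w * u⁻¹ * w⁻¹) * x := by
            have c1 : x * u = u * x := cux.symm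
            have c2 : x * w = w * x := cwx.symm
            have c3 : x * u⁻¹ = u⁻¹ * x :=
              (h.WX s hs r hr (by rw [hrs]; norm_num) _ (inv_mem hu) x hx).symm
            have c4 : x * w⁻¹ = w⁻¹ * x :=
              (h.WX r hr r hr (by rw [R.two r hr]; norm_num) _ (inv_mem hw) x hx).symm
            calc x * (u * w * u⁻¹ * w⁻¹) = (x * u) * w * u⁻¹ * w⁻¹ := by group
              _ = u * (x * w) * u⁻¹ * w⁻¹ := by rw [c1]; group
              _ = u * w * (x * u⁻¹) * w⁻¹ := by rw [c2]; group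
              _ = u * w * u⁻¹ * (x * w⁻¹) := by rw [c3]; group
              _ = _ := by rw [c4]; group
          rw [this]
        _ = c⁻¹ := by rw [hc]; group
    -- `c ∈ {1, x, y, xy}`
    have hcr : c ∈ X r ∨ ∃ a ∈ X r, c = a * d t u := c1
    have hcs : c ∈ X s ∨ ∃ b ∈ X s, c = b * d t w := by
      rcases c2 with h2 | ⟨b, hb, e⟩
      · left; exact (inv_mem_iff).1 h2
      · right
        refine ⟨b⁻¹, inv_mem hb, ?_⟩
        have : c = (b * d t w)⁻¹ := by rw [← e, inv_inv]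
        rw [this, mul_inv_rev, h.inv_X hr hdwX]
        exact hXrXs _ hdwX _ (inv_mem hb)
    have hcc' : ∀ v : G, v * v = 1 → c = v → n * v * n⁻¹ = v := by
      intro v hv e
      rw [← e, hcc, e]
      exact inv_eq_of_mul_eq_one_left hv
    rcases hcr with h1 | ⟨a, ha, h1⟩
    · rcases hcs with h2 | ⟨b, hb, h2⟩
      · left; exact h.inf r hr s hs hrs c h1 h2
      · -- `c = d w`
        have hb1 : b = 1 := by
          apply h.inf r hr s hs hrs b _ hb
          have : b = c * (d t w)⁻¹ := by rw [h2]; group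
          rw [this]; exact mul_mem h1 (inv_mem hdwX)
        rw [hb1, one_mul] at h2
        exfalso
        have h3 := hcc' _ (h.Xsq r hr _ hdwX) h2
        rw [hn1] at h3
        exact hdu (h.inf r hr s hs hrs _ (h3 ▸ hdwX) hduX)
    · rcases hcs with h2 | ⟨b, hb, h2⟩
      · -- `c = d u`
        have ha1 : a = 1 := by
          apply h.inf r hr s hs hrs a ha
          have : a = c * (d t u)⁻¹ := by rw [h1]; group
          rw [this]; exact mul_mem h2 (inv_mem hduX)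
        rw [ha1, one_mul] at h1
        exfalso
        have h3 := hcc' _ (h.Xsq s hs _ hduX) h1
        rw [hn2] at h3
        exact hdu (h.inf r hr s hs hrs _ (h3 ▸ hdwX) hduX)
      · right
        -- `a d u = b d w`
        have h3 : (d t w)⁻¹ * a = b * (d t u)⁻¹ := by
          have h4 : a * d t u = b * d t w := h1.symm.trans h2
          have h5 : a = b * d t w * (d t u)⁻¹ := by rw [← h4]; group
          have h7 : (d t w)⁻¹ * b = b * (d t w)⁻¹ := hXrXs _ (inv_mem hdwX) _ hb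
          calc (d t w)⁻¹ * a = ((d t w)⁻¹ * b) * (d t w * (d t u)⁻¹) := by rw [h5]; group
            _ = b * (d t u)⁻¹ := by rw [h7]; group
        have h4 : (d t w)⁻¹ * a = 1 := h.inf r hr s hs hrs _ (mul_mem (inv_mem hdwX) ha)
          (h3 ▸ mul_mem hb (inv_mem hduX))
        rw [h1, ← inv_mul_eq_one.1 h4]
  by_cases hdu : d t u = 1
  · exact h.WX r hr s hs (by rw [hsr]; norm_num) w hw u (h.d_eq_one hs hu hdu)
  by_cases hdw : d t w = 1
  · exact (h.WX s hs r hr (by rw [hrs]; norm_num) u hu w (h.d_eq_one hr hw hdw)).symm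
  have hduX : d t u ∈ X s := h.brk s hs u hu
  have hdwX : d t w ∈ X r := h.brk r hr w hw
  obtain ⟨y, hy, hy1, hyx⟩ := h.three r hr _ hdwX
  obtain ⟨w', hw', e'⟩ := h.surj r hr y hy
  have e'' : d t w' = y := e'
  have cdu : ∀ v ∈ W r, v * d t u = d t u * v := fun v hv => h.WX r hr s hs (by rw [hsr]; norm_num) v hv _ hduX
  have cX : ∀ v ∈ W r, ∀ x ∈ X r, v * x = x * v := fun v hv x hx =>
    h.WX r hr r hr (by rw [R.two r hr]; norm_num) v hv x hx
  have hd2 : d t (w * w') = d t w * y := by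
    rw [d_mul h.tt (cX w' hw' _ hdwX).symm, e'']
  have hd2' : d t (w * w') ≠ 1 := by
    rw [hd2]
    intro h1
    apply hyx
    have h2 : y = (d t w)⁻¹ := eq_inv_of_mul_eq_one_right h1
    rw [h2, h.inv_X hr hdwX]
  have hy1' : d t w' ≠ 1 := by rw [e'']; exact hy1
  have v1 := val u hu w hw hdu hdw
  have v2 := val u hu w' hw' hdu hy1'
  have v3 := val u hu (w * w') (mul_mem hw hw') hdu hd2'
  have hc : w * (w' * u * w'⁻¹ * u⁻¹) = (w' * u * w'⁻¹ * u⁻¹) * w := by
    rcases v2 with h2 | h2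
    · rw [h2, mul_one, one_mul]
    · rw [h2, e'', ← mul_assoc, cX w hw y hy, mul_assoc, cdu w hw, ← mul_assoc]
  have e3 : (w * w') * u * (w * w')⁻¹ * u⁻¹ = (w' * u * w'⁻¹ * u⁻¹) * (w * u * w⁻¹ * u⁻¹) := by
    calc (w * w') * u * (w * w')⁻¹ * u⁻¹ = w * (w' * u * w'⁻¹ * u⁻¹) * (u * w⁻¹ * u⁻¹) := by group
      _ = _ := by rw [hc]; group
  rw [e3, hd2] at v3
  rw [e''] at v2
  have hdudu := h.Xsq s hs _ hduX
  have c12 : ∀ x ∈ X r, d t u * x = x * d t u := fun x hx => (hXrXs x hx _ hduX).symm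
  suffices hh : w * u * w⁻¹ * u⁻¹ = 1 by
    calc w * u = (w * u * w⁻¹ * u⁻¹) * (u * w) := by group
      _ = u * w := by rw [hh, one_mul]
  rcases v1 with v1 | v1
  · exact v1
  exfalso
  rcases v2 with v2 | v2
  · rw [v1, v2, one_mul] at v3
    rcases v3 with v3 | v3
    · -- `d w d u = 1`
      have h1 : d t w = (d t u)⁻¹ := eq_inv_of_mul_eq_one_left v3
      exact hdw (h.inf r hr s hs hrs _ hdwX (h1 ▸ inv_mem hduX))
    · have h1 := mul_right_cancel v3
      exact hy1 (left_eq_mul.1 h1)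
  · rw [v1, v2] at v3
    have e4 : y * d t u * (d t w * d t u) = d t w * y := by
      calc y * d t u * (d t w * d t u) = y * (d t u * d t w) * d t u := by group
        _ = y * (d t w * d t u) * d t u := by rw [c12 _ hdwX]
        _ = (y * d t w) * (d t u * d t u) := by group
        _ = y * d t w := by rw [hdudu, mul_one]
        _ = d t w * y := cX y (h.XW r hr hy) _ hdwX
    rw [e4] at v3
    rcases v3 with v3 | v3
    · exact hd2' (by rw [hd2]; exact v3)
    · exact hdu (left_eq_mul.1 v3)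

/-- `W r` is abelian. -/
theorem ab (h : PreWY t B Φ X W Y) {r s : L} (hr : r ∈ Φ) (hs : s ∈ Φ) (hrs : B r s = 1) {v w : G}
    (hv : v ∈ W r) (hw : w ∈ W r) : v * w = w * v := by
  have R := h.roots
  have hsr : B s r = 1 := by rw [R.symm]; exact hrs
  have ha : r - s ∈ Φ := R.sub_mem hr hs hrs
  have cX : ∀ v ∈ W r, ∀ x ∈ X r, v * x = x * v := fun v hv x hx =>
    h.WX r hr r hr (by rw [R.two r hr]; norm_num) v hv x hx
  have hdwX : d t w ∈ X r := h.brk r hr w hw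
  by_cases hdw : d t w = 1
  · exact cX v hv w (h.d_eq_one hr hw hdw)
  -- `u ∈ W s` with `d u ≠ 1`
  obtain ⟨y, hy, hy1, -⟩ := h.three s hs 1 (one_mem _)
  obtain ⟨u, hu, e⟩ := h.surj s hs y hy
  have e' : d t u = y := e
  have h1 : B (r - s) s = -1 := by rw [R.sub_left, hrs, R.two s hs]; norm_num
  obtain ⟨g, hg, e2⟩ := h.sur _ ha s hs h1 y hy hy1 (d t w) (by rw [sub_add_cancel]; exact hdwX)
  rw [← e'] at e2
  obtain ⟨x, hx, z, hz, hB⟩ := h.stepB hr hs hrs hg hu hw e2.symm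
  have cg : v * g = g * v := h.WX r hr _ ha (by rw [R.sub_left, R.two r hr, hsr]; norm_num) v hv g hg
  have cu : v * u = u * v := h.comm60 hr hs hrs hu hv
  have cgi : v * g⁻¹ = g⁻¹ * v :=
    h.WX r hr _ ha (by rw [R.sub_left, R.two r hr, hsr]; norm_num) v hv _ (inv_mem hg)
  have cx : v * x = x * v := cX v hv x hx
  have cz : v * z = z * v := h.WX r hr s hs (by rw [hsr]; norm_num) v hv z hz
  have c1 : v * (g * u * g⁻¹) = (g * u * g⁻¹) * v := by
    calc v * (g * u * g⁻¹) = (v * g) * u * g⁻¹ := by group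
      _ = g * (v * u) * g⁻¹ := by rw [cg]; group
      _ = g * u * (v * g⁻¹) := by rw [cu]; group
      _ = _ := by rw [cgi]; group
  have cxz : v * (x * z) = (x * z) * v := by rw [← mul_assoc, cx, mul_assoc, cz, mul_assoc]
  rcases hB with hB | hB
  · rw [hB] at c1
    have c2 : x * z * u * (v * w) = x * z * u * (w * v) := by
      calc x * z * u * (v * w) = x * z * (u * v) * w := by group
        _ = (x * z * v) * u * w := by rw [← cu]; group
        _ = v * (x * z * (u * w)) := by rw [← cxz]; group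
        _ = x * z * (u * w) * v := c1
        _ = _ := by group
    exact mul_left_cancel c2
  · -- `τ = t` : impossible, square (B)
    exfalso
    have hcomm : w * u = u * w := h.comm60 hr hs hrs hu hw
    obtain ⟨a, ha', e3⟩ := (h.stepC_aux hr hs hrs hu hw hg hx hz).2 hB
    have e4 : w * u * w⁻¹ * u⁻¹ = 1 := by rw [hcomm]; group
    rw [e4] at e3
    have h2 : a = (d t u)⁻¹ := eq_inv_of_mul_eq_one_left e3.symm
    have hduX : d t u ∈ X s := h.brk s hs u hu
    have h3 := h.inf r hr s hs hrs a ha' (h2 ▸ inv_mem hduX)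
    apply hy1
    rw [← e']
    rw [h3, one_mul] at e3
    exact e3.symm

end PreWY

end Cfsg.Agent.OddHalf.D7Tw
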