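import Cfsg.Agent.OddHalf.D7Tw.DFour
import Cfsg.Agent.OddHalf.D7Tw.Orbit
import Cfsg.Agent.OddHalf.D7Tw.WabY
import Cfsg.Agent.KFacts.TwESix.Facts
import Cfsg.Agent.OddHalf.SL.General

/-!
# `²E₆(q)`: the doubled long root groups (helper622)

`R : RGD cs isCartan 2 T n X` of type `F₄` in a group `G`, `D : Facts.Dat R`, `DV : YO R t rho V`: the doubled root groups
along the orbit of `ρ` (= the long roots = `Phi`, type `D₄`).

* `XL X x = X (c x)`, `YY cs X r s` : all `X a`, `⟨a, r⟩ ≥ 0`, `⟨a, s⟩ ≥ 0`, `a` long or short;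
* `YW`, `Yd`, `Ym` : the hypotheses of `SL.General.PreY` on `YY`;
* `preWY` : `D7Tw.PreWY`, `wab` : the `V r` are abelian for `|X r| > 2`;
* `preY` : `SL.General.PreY` from `H1`, `H0`, `Hm`.
-/

set_option autoImplicit false
set_option linter.unusedSectionVars false

namespace Cfsg.Agent.OddHalf.D7Tw.Long

open CoxeterSystem Cfsg.Agent.ChevalleyStructure.CoxeterGeom Cfsg.Agent.Tits.Roots Cfsg.Agent.Tits.Core
  Cfsg.Agent.Tits.RootComb Cfsg.Agent.Nodes.Reps Cfsg.Agent.Nodes.BNOf Cfsg.Agent.Nodes.Coroot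
  Cfsg.Agent.Nodes.Bruhat Cfsg.Agent.Nodes.OppDec
  Cfsg.Agent.KFacts.RgdSL Cfsg.Agent.KFacts.RgdTI Cfsg.Agent.KFacts.RgdOdd Cfsg.Agent.KFacts.RgdEx
  Cfsg.Agent.Nodes.RGDTwE6 Cfsg.Agent.KFacts.TwESix.Comb Cfsg.Agent.KFacts.TwESix.CombRho
  Cfsg.Agent.KFacts.TwESix.Facts Cfsg.Agent.OddHalf.SL.Defs
  Cfsg.Agent.OddHalf.D7Tw Cfsg.Agent.OddHalf.D7Tw.Orbit Cfsg.Agent.OddHalf.D7Tw.DFour
open scoped commutatorElement

variable {W G : Type*} [Group W] [Group G] {cs : CoxeterSystem CoxeterMatrix.F₄ W} {T : Subgroup G} {n : Fin 4 → G}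
  {X : (Fin 4 → ℤ) → Subgroup G}

/-- the groups along the long roots -/
def XL (X : (Fin 4 → ℤ) → Subgroup G) (x : Fin 4 → ℤ) : Subgroup G := X (c x)

/-- all root groups `X a` with `⟨a, r⟩ ≥ 0`, `⟨a, s⟩ ≥ 0` -/
def YY (cs : CoxeterSystem CoxeterMatrix.F₄ W) (X : (Fin 4 → ℤ) → Subgroup G) (r s : Fin 4 → ℤ) : Set G :=
  {k | ∃ a, IsRoot cs isCartan a ∧ 0 ≤ bf a (c r) ∧ 0 ≤ bf a (c s) ∧ k ∈ X a}

theorem mem_O {r : Fin 4 → ℤ} (hr : IsRoot cs isCartan r) (hl : bf r r = 4) : r ∈ O cs isCartan rho := by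
  obtain ⟨w, hw⟩ := exists_rep_long cs hr hl
  obtain ⟨w', hw'⟩ := exists_rep_long cs (rho_root cs) rho_long
  refine ⟨w * w'⁻¹, ?_⟩
  rw [rep_mul_apply, ← hw', rep_inv_apply, hw]

theorem c_mem_O {x : Fin 4 → ℤ} (hx : x ∈ Phi) : c x ∈ O cs isCartan rho := mem_O (root cs hx) (long hx)

/-- the long roots, `⟨a, b⟩ < 0` -/
theorem neg_cases : ∀ a ∈ rts, ∀ b ∈ rts, bf b b = 4 → bf a b < 0 → bf a b = -2 ∨ a = -b := by decide +kernel

theorem long_neg : ∀ a ∈ rts, ∀ b ∈ rts, bf b b = 4 → bf a a = 4 → bf a b = -2 → 2 * bf a b = - bf a a := by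
  decide +kernel

variable {R : RGD cs isCartan 2 T n X}

theorem card_ne {x y : Fin 4 → ℤ} (hx : x ∈ Phi) (hy : y ∈ Phi) (hxy : B x y = 1) : c x ≠ c y := by
  intro h
  have := c_inj h
  rw [this, roots.two y hy] at hxy
  omega

section YO

variable {t : G} {V : (Fin 4 → ℤ) → Subgroup G} (D : Dat R) (DV : YO R t rho V)

include DV

theorem V_comm {r a : Fin 4 → ℤ} (hr : r ∈ Phi) (ha : IsRoot cs isCartan a) (h0 : 0 ≤ bf a (c r)) {w k : G}
    (hw : w ∈ V (c r)) (hk : k ∈ X a) : w * k = k * w :=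
  DV.WX (c r) (c_mem_O hr) a ha ((ge_iff cs (root cs hr) (long hr)).2 h0) w hw k hk

theorem YW : ∀ r ∈ Phi, ∀ s ∈ Phi, ∀ k ∈ YY cs X r s,
    (∀ w ∈ XL V r, w * k = k * w) ∧ (∀ w ∈ XL V s, w * k = k * w) := by
  rintro r hr s hs k ⟨a, ha, har, has, hk⟩
  exact ⟨fun w hw => V_comm DV hr ha har hw hk, fun w hw => V_comm DV hs ha has hw hk⟩

theorem Ym : ∀ r ∈ Phi, ∀ s ∈ Phi, B r s = -1 → ∀ k ∈ YY cs X r s, ∀ w ∈ XL V (r + s), w * k = k * w := by
  rintro r hr s hs hrs k ⟨a, ha, har, has, hk⟩ w hw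
  refine V_comm DV (roots.add r hr s hs hrs) ha ?_ hw hk
  rw [map_add, bf_add_right]; omega

include D

theorem Yd : ∀ r ∈ Phi, ∀ s ∈ Phi, B r s = 1 → ∀ k ∈ YY cs X r s, ∀ g ∈ XL X (r - s), ∀ w ∈ XL V s,
    w * (g⁻¹ * k * g) = (g⁻¹ * k * g) * w := by
  rintro r hr s hs hrs k ⟨a, ha, har, has, hk⟩ g hg w hw
  have : Finite W := finiteW cs
  have hd : r - s ∈ Phi := roots.sub_mem hr hs hrs
  have hdr := root cs hd
  have hdl := long hd
  have hg' : g ∈ X (c (r - s)) := hg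
  have hw' : w ∈ V (c s) := hw
  have e1 : bf a (c (r - s)) = bf a (c r) - bf a (c s) := by rw [map_sub, bf_sub_right]
  have e2 : bf (c (r - s)) (c s) = -2 := by
    rw [bf_c, roots.sub_left, hrs, roots.two s hs]; norm_num
  have e3 : bf (c (r - s)) (c r) = 2 := by
    rw [bf_c, roots.sub_left, roots.two r hr, roots.symm s r, hrs]; norm_num
  by_cases h0 : 0 ≤ bf a (c (r - s))
  · have h1 : k * g = g * k := comm_long D ha hdr hdl h0 hk hg'
    have h2 : g⁻¹ * k * g = k := by rw [mul_assoc, h1]; group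
    rw [h2]
    exact V_comm DV hs ha has hw' hk
  rcases neg_cases a ((mem_rts cs).1 ha) _ ((mem_rts cs).1 hdr) hdl (by omega) with h4 | h4
  swap
  · rw [h4, bf_neg_left, e3] at har
    omega
  have h5 : 2 ≤ bf a (c s) := by omega
  -- the roots between `a` and `d`
  have key : ∀ z, Btwn cs isCartan a (c (r - s)) z → 0 ≤ bf z (c s) := by
    intro z hz
    rcases norm cs ha with hn | hn
    · have h6 : z = a + c (r - s) := btwn_a2 cs ha hdr (by rw [hn, hdl]) (by rw [h4, hn]; norm_num) hz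
      rw [h6, bf_add_left, e2]; omega
    · rcases btwn_135 cs hdl hn (by rw [bf_comm]; exact h4) hz.symm with h6 | h6
      · rw [h6, bf_add_left, e2]; omega
      · rw [h6, bf_add_left, e2, bf_smul_left]; omega
  have hne : a ≠ c (r - s) := by
    rintro h6
    rw [h6, hdl] at h4
    omega
  have hne' : a ≠ -(c (r - s)) := by
    rintro h6
    rw [h6, bf_neg_left, hdl] at h4
    omega
  have h6 := R.comm a (c (r - s)) ha hdr hne hne' k⁻¹ (inv_mem hk) g⁻¹ (inv_mem hg')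
  have h7 : btw cs isCartan X a (c (r - s)) ≤ Subgroup.centralizer {w} := by
    refine iSup_le fun z => ?_
    intro y hy
    rw [Subgroup.mem_centralizer_singleton_iff]
    exact (V_comm DV hs z.2.1 (key z.1 z.2) hw' hy).symm
  have h8 := h7 h6
  rw [Subgroup.mem_centralizer_singleton_iff, commutatorElement_def, inv_inv, inv_inv] at h8
  have h9 : w * k = k * w := V_comm DV hs ha has hw' hk
  have e : g⁻¹ * k * g = k * (k⁻¹ * g⁻¹ * k * g) := by group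
  rw [e]
  calc w * (k * (k⁻¹ * g⁻¹ * k * g)) = (w * k) * (k⁻¹ * g⁻¹ * k * g) := by group
    _ = k * (w * (k⁻¹ * g⁻¹ * k * g)) := by rw [h9]; group
    _ = k * (k⁻¹ * g⁻¹ * k * g) * w := by rw [← h8]; group

/-- the element `k` swapping `x ∈ X r` and `y ∈ X s` -/
theorem swap (tN : ∀ w k, Rp cs R.nsys w k → t * k = k * t) : ∀ r ∈ Phi, ∀ s ∈ Phi, B r s = 1 →
    ∀ x ∈ XL X r, ∀ y ∈ XL X s, x ≠ 1 → y ≠ 1 → ∃ n : G, n * t = t * n ∧
    n * x * n⁻¹ = y ∧ n * y * n⁻¹ = x ∧ (∀ w ∈ XL V r, n * w * n⁻¹ ∈ XL V s) ∧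
    (∀ w ∈ XL V s, n * w * n⁻¹ ∈ XL V r) := by
  intro r hr s hs hrs x hx y hy hx1 hy1
  have : Finite W := finiteW cs
  have hsr : B s r = 1 := by rw [roots.symm]; exact hrs
  have hA : A2 cs isCartan (c r - c s) (c s) := by
    rw [← map_sub]
    exact a2_of cs (roots.sub_mem hr hs hrs) hs (by rw [roots.sub_left, hrs, roots.two s hs]; norm_num)
  have hA' : A2 cs isCartan (c s - c r) (c r) := by
    rw [← map_sub]
    exact a2_of cs (roots.sub_mem hs hr hsr) hr (by rw [roots.sub_left, hsr, roots.two r hr]; norm_num)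
  refine DV.swap (rho_root cs) tN (c_mem_O hr) (c_mem_O hs) hA hA' (fun x hx => sq R (root cs hr) hx)
    (fun x hx => sq R (root cs hs) hx) (fun u hu v hv => ?_) (fun u hu hu' => ?_) hx hy hx1 hy1
  · exact comm_long D (root cs hr) (root cs hs) (long hs) (by rw [bf_c, hrs]; norm_num) hu hv
  · have h7 := X_inf_X R (root cs hr) (root cs hs) (card_ne hr hs hrs)
    have h8 : u ∈ X (c r) ⊓ X (c s) := ⟨hu, hu'⟩
    rwa [h7, Subgroup.mem_bot] at h8

/-- **The hypotheses of `PreWY.ab`.** -/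
theorem preWY (tt : t * t = 1) (tX : ∀ a, IsRoot cs isCartan a → ∀ x ∈ X a, t * x = x * t)
    (tN : ∀ w k, Rp cs R.nsys w k → t * k = k * t)
    (K2 : ∀ r ∈ Phi, ∀ s ∈ Phi, B r s = 1 → ∀ k, k * t = t * k → (∀ y ∈ YY cs X r s, k * y = y * k) →
      ∃ x ∈ XL X r, ∃ y ∈ XL X s, k = x * y ∨ k = t * (x * y))
    (three : ∀ r ∈ Phi, ∀ x ∈ XL X r, ∃ y ∈ XL X r, y ≠ 1 ∧ y ≠ x) :
    PreWY t B Phi (XL X) (XL V) (YY cs X) where
  roots := roots
  tt := tt
  tX := fun r hr x hx => tX _ (root cs hr) x hx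
  Xsq := fun r hr x hx => sq R (root cs hr) hx
  XW := fun r hr => DV.XW _ (c_mem_O hr)
  Wsq := fun r hr => DV.sq _ (c_mem_O hr)
  brk := fun r hr => DV.brk _ (c_mem_O hr)
  cent := fun r hr => DV.cent _ (c_mem_O hr)
  surj := fun r hr => DV.surj _ (c_mem_O hr)
  WX := fun r hr a ha h0 w hw x hx => V_comm DV hr (root cs ha) (by rw [bf_c]; omega) hw hx
  inf := fun r hr s hs hrs u hu hu' => by
    have : Finite W := finiteW cs
    have h7 := X_inf_X R (root cs hr) (root cs hs) (card_ne hr hs hrs)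
    have h8 : u ∈ X (c r) ⊓ X (c s) := ⟨hu, hu'⟩
    rwa [h7, Subgroup.mem_bot] at h8
  neg := fun r hr s hs hrs x hx y hy => by
    have : Finite W := finiteW cs
    have h := (a2_of cs hr hs hrs).comm_mem R hx hy
    rw [commutatorElement_def, ← map_add] at h
    exact h
  sur := fun a ha b hb hab y hy hy1 z hz => by
    have : Finite W := finiteW cs
    have hz' : z⁻¹ ∈ X (c b + c a) := by
      rw [add_comm, ← map_add]; exact inv_mem hz
    obtain ⟨v, hv, e⟩ := (a2_of cs ha hb hab).symm.comm_surj R hy hy1 hz'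
    refine ⟨v, hv, ?_⟩
    have h1 : ⁅v, y⁆ = z := by rw [← commutatorElement_inv, e, inv_inv]
    rw [← h1, commutatorElement_def]
  YW := fun r hr s hs _ k hk => YW DV r hr s hs k hk
  Yd := Yd D DV
  K2 := K2
  swap := swap D DV tN
  three := three

/-- **The doubled root groups are abelian.** -/
theorem wab (tt : t * t = 1) (tX : ∀ a, IsRoot cs isCartan a → ∀ x ∈ X a, t * x = x * t)
    (tN : ∀ w k, Rp cs R.nsys w k → t * k = k * t)
    (K2 : ∀ r ∈ Phi, ∀ s ∈ Phi, B r s = 1 → ∀ k, k * t = t * k → (∀ y ∈ YY cs X r s, k * y = y * k) →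
      ∃ x ∈ XL X r, ∃ y ∈ XL X s, k = x * y ∨ k = t * (x * y))
    (three : ∀ r ∈ Phi, ∀ x ∈ XL X r, ∃ y ∈ XL X r, y ≠ 1 ∧ y ≠ x) :
    ∀ r ∈ Phi, ∀ v ∈ XL V r, ∀ w ∈ XL V r, v * w = w * v := by
  intro r hr v hv w hw
  obtain ⟨s, hs, hrs⟩ := lg_one r hr
  exact (preWY D DV tt tX tN K2 three).ab hr hs hrs hv hw

/-- **`SL.General.PreY`** for the doubled long root groups. -/
theorem preY (tt : t * t = 1) (tX : ∀ a, IsRoot cs isCartan a → ∀ x ∈ X a, t * x = x * t)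
    (tN : ∀ w k, Rp cs R.nsys w k → t * k = k * t) {K : Subgroup G} (htK : t ∉ K)
    (hXK : ∀ a, IsRoot cs isCartan a → X a ≤ K)
    (three : ∀ r ∈ Phi, ∀ x ∈ XL X r, ∃ y ∈ XL X r, y ≠ 1 ∧ y ≠ x)
    (H1 : ∀ r ∈ Phi, ∀ s ∈ Phi, B r s = 1 → ∀ k, k * t = t * k → (∀ y ∈ YY cs X r s, k * y = y * k) →
      ∃ x ∈ XL X r, ∃ y ∈ XL X s, k = x * y ∨ k = t * (x * y))
    (H0 : ∀ r ∈ Phi, ∀ s ∈ Phi, B r s = 0 → ∀ k, k * t = t * k → (∀ y ∈ YY cs X r s, k * y = y * k) →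
      (∀ a ∈ Phi, B a r = 1 → B a s = -1 → ∀ y ∈ XL X a, k * y = y * k) →
      (∀ a ∈ Phi, B a r = -1 → B a s = 1 → ∀ y ∈ XL X a, k * y = y * k) →
      ∃ x ∈ XL X r, ∃ y ∈ XL X s, k = x * y ∨ k = t * (x * y))
    (Hm : ∀ r ∈ Phi, ∀ s ∈ Phi, B r s = -1 → ∀ k, k * t = t * k → (∀ y ∈ YY cs X r s, k * y = y * k) →
      (∀ y ∈ XL X r, k * y = y * k) → (∀ y ∈ XL X s, k * y = y * k) →
      ∃ x ∈ XL X r, ∃ y ∈ XL X s, ∃ m ∈ XL X (r + s), k = x * y * m ∨ k = t * (x * y * m)) :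
    Cfsg.Agent.OddHalf.SL.General.PreY t B Phi (XL X) (XL V) (YY cs X) where
  roots := roots
  tt := tt
  tX := fun r hr x hx => tX _ (root cs hr) x hx
  tK := fun h => htK ((iSup₂_le fun r hr => hXK _ (root cs hr) : (⨆ r ∈ Phi, XL X r) ≤ K) h)
  Xsq := fun r hr x hx => sq R (root cs hr) hx
  Xne := fun r hr h => by
    obtain ⟨u, hu, hu1⟩ := exists_ne_one R (root cs hr)
    have h2 : u ∈ XL X r := hu
    rw [h, Subgroup.mem_bot] at h2
    exact hu1 h2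
  XW := fun r hr => DV.XW _ (c_mem_O hr)
  Wab := wab D DV tt tX tN H1 three
  brk := fun r hr => DV.brk _ (c_mem_O hr)
  cent := fun r hr => DV.cent _ (c_mem_O hr)
  surj := fun r hr => DV.surj _ (c_mem_O hr)
  WX := fun r hr a ha h0 w hw x hx => V_comm DV hr (root cs ha) (by rw [bf_c]; omega) hw hx
  Xneg := (preWY D DV tt tX tN H1 three).neg
  Xnd := fun r hr s hs hrs x hx y hy hxy => by
    have : Finite W := finiteW cs
    by_contra hc
    push Not at hc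
    exact (a2_of cs hr hs hrs).comm_ne_one R hx hc.1 hy hc.2 (commutatorElement_eq_one_iff_mul_comm.2 hxy)
  tri := fun r hr s hs hrs g hg hg1 => by
    have : Finite W := finiteW cs
    have hd : r - s ∈ Phi := roots.sub_mem hr hs hrs
    have hsr : B s r = 1 := by rw [roots.symm]; exact hrs
    have hd' : s - r ∈ Phi := roots.sub_mem hs hr hsr
    have h1 : cpr cs isCartan (c s) (c r - c s) = -1 := by
      rw [← map_sub, cpr_cc cs s hd, roots.sub_right, hsr, roots.two s hs]; norm_num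
    have h2 : 0 ≤ cpr cs isCartan (c s - c r) (c s) := by
      rw [← map_sub, cpr_cc cs (s - r) hs, roots.sub_left, hrs, roots.two s hs]; norm_num
    obtain ⟨k, hk, h3⟩ := DV.tri (c_mem_O hr) (c_mem_O hs) (by rw [← map_sub]; exact root cs hd) h1 h2
      (g := g) (by rw [← map_sub]; exact hg) hg1
    exact ⟨k, by rw [← map_sub] at hk; exact hk, h3⟩
  YW := YW DV
  Yd := Yd D DV
  Ym := Ym DV
  H1 := H1
  H0 := H0
  Hm := Hm
  orth := lg_orth

end YO

end Cfsg.Agent.OddHalf.D7Tw.Long
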