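import Cfsg.Agent.OddHalf.D7Tw.ExAbs
import Cfsg.Agent.OddHalf.D7Tw.Long
import Cfsg.Agent.OddHalf.D7Out.FrontN
import Cfsg.Agent.KFacts.TwESix.Faith

/-!
# `²E₆(q)`, `q > 2`: the doubled long root groups (helper622)

`KX R t K`: the facts on `K = GG` (root group datum in `G`), `t` and `K`.

* `KX.ky` : `D7Tw.KY` at `ρ`; `KX.exists_out` : the doubled root group at `ρ` from one element `n`;
* `KX.exists_yo` : `∃ V, YO R t rho V`; `KX.three` : `|X r| > 2`;
* `KX.swap_Z` : the element `n` of the front normalises `X ρ`; `KX.exists_yo_of_swap`.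
-/

set_option autoImplicit false
set_option linter.unusedSectionVars false

namespace Cfsg.Agent.OddHalf.D7Tw.ExRho

open CoxeterSystem Cfsg.Agent.ChevalleyStructure.CoxeterGeom Cfsg.Agent.Tits.Roots Cfsg.Agent.Tits.Core
  Cfsg.Agent.Tits.RootComb Cfsg.Agent.Tits.Exchange Cfsg.Agent.Nodes.Reps Cfsg.Agent.Nodes.BNOf
  Cfsg.Agent.Nodes.Coroot Cfsg.Agent.Nodes.StabComb
  Cfsg.Agent.Nodes.LeviDec Cfsg.Agent.Nodes.Bruhat Cfsg.Agent.Nodes.OppDec
  Cfsg.Agent.KFacts.RgdPar Cfsg.Agent.KFacts.RgdCent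
  Cfsg.Agent.KFacts.RgdSL Cfsg.Agent.KFacts.RgdTI Cfsg.Agent.KFacts.RgdOdd Cfsg.Agent.KFacts.RgdEx
  Cfsg.Agent.Nodes.RGDTwE6 Cfsg.Agent.KFacts.TwESix.Comb Cfsg.Agent.KFacts.TwESix.CombRho
  Cfsg.Agent.KFacts.TwESix.Facts Cfsg.Agent.KFacts.TwESix.QRho Cfsg.Agent.KFacts.TwESix.Faith
  Cfsg.Agent.OddHalf.SL.Defs Cfsg.Agent.OddHalf.D7Ex
  Cfsg.Agent.OddHalf.D7Tw Cfsg.Agent.OddHalf.D7Tw.Orbit Cfsg.Agent.OddHalf.D7Tw.DFour
  Cfsg.Agent.OddHalf.D7Tw.Long
open scoped commutatorElement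

variable {W G : Type*} [Group W] [Group G] {cs : CoxeterSystem CoxeterMatrix.F₄ W} {T : Subgroup G} {n : Fin 4 → G}
  {X : (Fin 4 → ℤ) → Subgroup G}

/-- The facts on `K = GG`, `t` and `G`. -/
structure KX (R : RGD cs isCartan 2 T n X) (t : G) (K : Subgroup G) : Prop where
  dat : Dat R
  gg : GG cs isCartan T X = K
  Tab : ∀ a ∈ T, ∀ b ∈ T, a * b = b * a
  tt : t * t = 1
  tK : t ∉ K
  Kt : ∀ x ∈ K, t * x = x * t
  /-- perfect subgroups of `C(t)` lie in `K` -/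
  perf : ∀ E : Subgroup G, (∀ x ∈ E, x * t = t * x) → ⁅E, E⁆ = E → E ≤ K
  /-- `C(t) ∩ C(P) = ⟨t⟩ × X ρ` -/
  cP : ∀ c, t * c = c * t → (∀ p ∈ PP cs X, c * p = p * c) → c ∈ X rho ∨ t * c ∈ X rho
  /-- `q > 2` -/
  hrho : ∃ k ∈ T ⊓ (X rho ⊔ X (-rho)), ∃ x ∈ X rho, k * x * k⁻¹ ≠ x

theorem TP (R : RGD cs isCartan 2 T n X) : ∀ k ∈ T, ∀ p ∈ PP cs X, k * p * k⁻¹ ∈ PP cs X := by
  intro k hk p hp
  have hTn : T ≤ Subgroup.normalizer (PP cs X : Set G) := R.T_le_normalizer fun x hx => hx.1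
  exact (Subgroup.mem_normalizer_iff.1 (hTn hk) p).1 hp

namespace KX

variable {R : RGD cs isCartan 2 T n X} {t : G} {K : Subgroup G} (E : KX R t K)

include E

theorem TK : T ≤ K := by
  rw [← E.gg]
  exact le_trans (T_le_PS (X := X) (Ω := {b | IsRoot cs isCartan b})) (PS_le_GG fun x hx => hx)

theorem XK {a : Fin 4 → ℤ} (ha : IsRoot cs isCartan a) : X a ≤ K := by
  rw [← E.gg]
  exact le_trans (X_le_PS (T := T) (Ω := {b | IsRoot cs isCartan b}) ha) (PS_le_GG fun x hx => hx)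

theorem PK : PP cs X ≤ K := PP_le fun _ hb _ => E.XK hb

theorem NK {w : W} {k : G} (hk : Rp cs R.nsys w k) : k ∈ K := by
  rw [← E.gg]
  have : Finite W := finiteW cs
  exact NN_le_GG R ⟨_, hk⟩

theorem tX {a : Fin 4 → ℤ} (ha : IsRoot cs isCartan a) {x : G} (hx : x ∈ X a) : t * x = x * t := E.Kt x (E.XK ha hx)

/-- **`KY` at `ρ`.** -/
theorem ky : KY t (X rho) (PP cs X) T where
  tt := E.tt
  tZ := fun h => E.tK (E.XK (rho_root cs) h)
  Z2 := fun x hx => sq R (rho_root cs) hx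
  ZP := le_PP (rho_root cs) (by decide)
  tP := fun p hp => E.Kt p (E.PK hp)
  cen := fun x hx p hp => cen_PP E.dat hx hp
  tT := fun h hh => E.Kt h (E.TK hh)
  TZ := fun h hh x hx => tor_mem R (rho_root cs) hh hx
  TP := TP R
  Tab := E.Tab
  cP := E.cP

/-- an element centralising `X ρ` lies in `T P` -/
theorem mem_TP {c : G} (hc : c ∈ K) (hcX : ∀ x ∈ X rho, c * x = x * c) : c ∈ T ⊔ PP cs X := by
  obtain ⟨z, hz, hz1⟩ := exists_ne_one R (rho_root cs)
  obtain ⟨τ, hτ, -, p, hp, rfl⟩ := cent_z E.dat (by rw [E.gg]; exact hc) hz hz1 (hcX z hz)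
  exact mul_mem (Subgroup.mem_sup_left hτ) (Subgroup.mem_sup_right hp)

/-- an element normalising `X ρ` lies in `T P` -/
theorem mem_TP_of_norm {w : W} {k : G} (hk : Rp cs R.nsys w k) (hw : rep cs isCartan w rho = rho) :
    k ∈ T ⊔ PP cs X := by
  have : Finite W := finiteW cs
  have L := E.dat.lr rho (rho_root cs) rho_long
  have h1 := (L.mem_normalizer_iff hk).2 hw
  have h2 : k ∈ PS T X (Ge cs isCartan rho) := by
    rw [← L.normalizer]
    exact ⟨h1, by rw [E.gg]; exact E.NK hk⟩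
  exact h2

/-- **The doubled root group at `ρ`.** -/
theorem exists_out [Finite G] {m : G} (hX : ∀ x ∈ X rho, m * x * m⁻¹ ∈ X rho) (ht : t * (m * t * m⁻¹) ∈ X rho)
    (hnt : m * t * m⁻¹ ≠ t) : ∃ V₀, KR.Out t (X rho) (PP cs X) T V₀ := by
  have hPC : PP cs X ≤ CC t (X rho) := E.ky.PC
  obtain ⟨k, hk, x, hx, hne⟩ := E.hrho
  have hkT := (Subgroup.mem_inf.1 hk).1
  have hodd : Odd (Nat.card T) := by
    rw [← Nat.coprime_two_right]; exact R.tcop
  have hg1 : k ^ Nat.card T = 1 := congrArg Subtype.val (pow_card_eq_one' (G := T) (x := ⟨k, hkT⟩))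
  have hQS : QS (fun b : Ix => X b.1) (X rho) Set.univ = QQ cs X := QS_eq (cs := cs)
  -- `k` centralises the root groups orthogonal to `ρ`
  have h0 : ∀ b, IsRoot cs isCartan b → b 0 = 0 → ∀ y ∈ X b, k * y = y * k := by
    intro b hb hb0 y hy
    have h1 : X rho ⊔ X (-rho) ≤ Subgroup.centralizer {y} := by
      refine sup_le (fun u hu => ?_) (fun u hu => ?_)
      · rw [Subgroup.mem_centralizer_singleton_iff]
        exact (comm_long E.dat hb (rho_root cs) rho_long (by rw [bf_rho, hb0]; norm_num) hy hu).symm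
      · rw [Subgroup.mem_centralizer_singleton_iff]
        exact (comm_long E.dat hb (rho_root cs).neg (by rw [bf_neg_left, bf_neg_right, rho_long]; norm_num)
          (by rw [bf_neg_right, bf_rho, hb0]; norm_num) hy hu).symm
    exact Subgroup.mem_centralizer_singleton_iff.1 (h1 (Subgroup.mem_inf.1 hk).2)
  have hPQ : ∀ p ∈ PP cs X, k * p * k⁻¹ * p⁻¹ ∈ QQ cs X := by
    have hN : ∀ p ∈ PP cs X, ∀ q ∈ QQ cs X, p * q * p⁻¹ ∈ QQ cs X := fun p hp q hq =>
      (Subgroup.mem_normalizer_iff.1 (PP_normalizer R hp) q).1 hq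
    let S : Subgroup G :=
      { carrier := {p | p ∈ PP cs X ∧ k * p * k⁻¹ * p⁻¹ ∈ QQ cs X}
        one_mem' := ⟨one_mem _, by rw [mul_one, mul_inv_cancel, inv_one, mul_one]; exact one_mem _⟩
        mul_mem' := by
          rintro a b ⟨ha, ha'⟩ ⟨hb, hb'⟩
          refine ⟨mul_mem ha hb, ?_⟩
          have e : k * (a * b) * k⁻¹ * (a * b)⁻¹ = (k * a * k⁻¹ * a⁻¹) * (a * (k * b * k⁻¹ * b⁻¹) * a⁻¹) := by group
          rw [e]
          exact mul_mem ha' (hN a ha _ hb')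
        inv_mem' := by
          rintro a ⟨ha, ha'⟩
          refine ⟨inv_mem ha, ?_⟩
          have e2 : k * a⁻¹ * k⁻¹ * a⁻¹⁻¹ = a⁻¹ * (k * a * k⁻¹ * a⁻¹)⁻¹ * a⁻¹⁻¹ := by group
          rw [e2]
          exact hN a⁻¹ (inv_mem ha) _ (inv_mem ha') }
    have hle : PP cs X ≤ S := by
      refine PP_le fun b hb hb0 y hy => ⟨le_PP hb hb0 hy, ?_⟩
      by_cases h1 : b 0 = 0
      · rw [h0 b hb h1 y hy]
        have : y * k * k⁻¹ * y⁻¹ = 1 := by group
        rw [this]; exact one_mem _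
      · exact mul_mem (le_QQ hb (by omega) (tor_mem R hb hkT hy)) (inv_mem (le_QQ hb (by omega) hy))
    exact fun p hp => (hle hp).2
  refine E.ky.exists_out (loc E.dat) (perfect E.dat) (nP_of_perf E.tt E.perf (fun c hc hcX => E.mem_TP hc hcX) E.Tab
    (TP R) hPC (perfect E.dat)) ?_ ?_ (fun x hx y hy hx1 hy1 => exists_tor R (rho_root cs) hx hx1 hy hy1) hkT ?_
    hodd hg1 ⟨x, hx, hne⟩ hX ht hnt
  · rw [hQS]; exact isPGroup_QQ R
  · intro S hS h2 hn
    rw [hQS]; exact core R hS h2 hn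
  · rw [hQS]; exact hPQ

/-- **The doubled long root groups.** -/
theorem exists_yo [Finite G] {m : G} (hX : ∀ x ∈ X rho, m * x * m⁻¹ ∈ X rho) (ht : t * (m * t * m⁻¹) ∈ X rho)
    (hnt : m * t * m⁻¹ ≠ t) : ∃ V, YO R t rho V := by
  have : Finite W := finiteW cs
  obtain ⟨V₀, O⟩ := E.exists_out hX ht hnt
  have B : BaseO R t rho V₀ := by
    refine ⟨rho_root cs, O.dbl.XW, O.sq, O.dbl.brk, O.dbl.cent, O.dbl.surj, ?_, fun w k hk hwr v hv => ?_,
      fun w k hk => E.Kt k (E.NK hk)⟩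
    · intro a ha h0 w hw x hx
      rw [cpr_rho] at h0
      exact O.dbl.WP w hw x (le_PP ha h0 hx)
    · exact O.nrm k (E.mem_TP_of_norm hk hwr) v hv
  exact ⟨_, B.yO⟩

/-- `|X r| > 2` -/
theorem three : ∀ r ∈ Phi, ∀ x ∈ XL X r, ∃ y ∈ XL X r, y ≠ 1 ∧ y ≠ x := by
  intro r hr x _
  have : Finite W := finiteW cs
  obtain ⟨k, hk, x0, hx0, hne⟩ := E.hrho
  have hkT := (Subgroup.mem_inf.1 hk).1
  obtain ⟨w, hw⟩ := c_mem_O (cs := cs) hr
  obtain ⟨l, hl⟩ := exists_rp cs R.nsys w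
  have hconj : ∀ y ∈ X rho, l * y * l⁻¹ ∈ XL X r := by
    intro y hy
    have := R.conj_mem hl (rho_root cs) hy
    rwa [hw] at this
  have hx01 : x0 ≠ 1 := by
    rintro rfl
    apply hne; group
  have hy01 : k * x0 * k⁻¹ ≠ 1 := by
    intro h
    apply hx01
    have e : x0 = k⁻¹ * (k * x0 * k⁻¹) * k := by group
    rw [e, h]; group
  have hinj : ∀ {a b : G}, l * a * l⁻¹ = l * b * l⁻¹ → a = b := fun h => mul_left_cancel (mul_right_cancel h)
  by_cases h : l * x0 * l⁻¹ = x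
  · refine ⟨_, hconj _ (tor_mem R (rho_root cs) hkT hx0), fun h1 => hy01 ?_, fun h1 => hne ?_⟩
    · refine hinj (h1.trans ?_); group
    · exact hinj (h1.trans h.symm)
  · refine ⟨_, hconj _ hx0, fun h1 => hx01 ?_, h⟩
    refine hinj (h1.trans ?_); group

/-- The element `m` of the front normalises `X ρ`. -/
theorem swap_Z [Finite G] {S : Subgroup G} {m z : G} (F : D7Out.FrontN.Swap t (X rho) S m z) :
    ∀ x ∈ X rho, m * x * m⁻¹ ∈ X rho := by
  have hz := F.zZ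
  have h1 : ∀ p, m * p * m⁻¹ ∈ PP cs X ↔ p ∈ PP cs X :=
    F.conj_P (perfect E.dat) (fun p hp => (E.Kt p (E.PK hp)).symm) (fun p hp => (cen_PP E.dat hz hp).symm)
      fun L hL hLt hLz => perfect_le E.dat E.Tab hz F.z1 hL (by rw [E.gg]; exact E.perf L hLt hL) hLz
  refine D7Out.FrontN.Swap.conj_Z h1 (le_PP (rho_root cs) (by decide))
    (fun x hx p hp => (cen_PP E.dat hx hp).symm) fun g hg hgP => ?_
  rcases E.cP g (E.Kt g (E.PK hg)) (fun p hp => (hgP p hp).symm) with h | h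
  · exact h
  · exfalso
    apply E.tK
    have e : t = (t * g) * g⁻¹ := by group
    rw [e]
    exact mul_mem (E.XK (rho_root cs) h) (inv_mem (E.PK hg))

/-- **The doubled long root groups**, from the element of the front. -/
theorem exists_yo_of_swap [Finite G] {S : Subgroup G} {m z : G} (F : D7Out.FrontN.Swap t (X rho) S m z) :
    ∃ V, YO R t rho V := by
  refine E.exists_yo (E.swap_Z F) ?_ ?_
  · rw [F.nt, ← mul_assoc, E.tt, one_mul]; exact F.zZ
  · rw [F.nt]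
    intro h
    exact F.z1 (mul_left_cancel (h.trans (mul_one t).symm))

end KX

end Cfsg.Agent.OddHalf.D7Tw.ExRho
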