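import Cfsg.Agent.OddHalf.D7Tw.Defs
import Cfsg.Agent.OddHalf.D7Out.CzTwo

/-!
# THEOREM H for `K = ²E₆(q)`: the family of the doubled long root groups in `Q` (helper756)

* `Base.lift`: `W (r + s) ≤ [W r, y] X (r + s)` for `1 ≠ y ∈ X s`, `(r, s) = -1`.
* `Base.fam`: helper76's `CzTwo.Fam` for `H = C_G(z)`, `z ∈ X ρ`.
-/

set_option autoImplicit false

namespace Cfsg.Agent.OddHalf.D7Tw

open Subgroup
open scoped commutatorElement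

variable {L : Type*} [AddCommGroup L] {G : Type*} [Group G]

theorem Cj.le {k : G} {A A' : Subgroup G} (h : Cj k A A') {x : G} (hx : x ∈ A) : k * x * k⁻¹ ∈ A' := (h x).1 hx

theorem Cj.inv {k : G} {A A' : Subgroup G} (h : Cj k A A') : Cj k⁻¹ A' A := by
  intro x
  rw [h]
  have e : k * (k⁻¹ * x * k⁻¹⁻¹) * k⁻¹ = x := by group
  rw [e]

theorem Cj.mul {k l : G} {A A' A'' : Subgroup G} (h : Cj k A A') (h' : Cj l A' A'') : Cj (l * k) A A'' := by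
  intro x
  rw [h, h']
  have e : l * (k * x * k⁻¹) * l⁻¹ = l * k * x * (l * k)⁻¹ := by group
  rw [e]

/-- a conjugation into a group of the same order is onto -/
theorem Cj.of_le [Finite G] {k : G} {A A' : Subgroup G} (h : ∀ x ∈ A, k * x * k⁻¹ ∈ A')
    (hc : Nat.card A' ≤ Nat.card A) : Cj k A A' := by
  have h1 : A.map (MulAut.conj k).toMonoidHom ≤ A' := by
    rintro _ ⟨x, hx, rfl⟩
    exact h x hx
  have h2 : Nat.card (A.map (MulAut.conj k).toMonoidHom) = Nat.card A :=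
    (Nat.card_congr (A.equivMapOfInjective (MulAut.conj k).toMonoidHom (MulAut.conj k).injective).toEquiv).symm
  have h3 : A.map (MulAut.conj k).toMonoidHom = A' := Subgroup.eq_of_le_of_card_ge h1 (by rw [h2]; exact hc)
  intro x
  constructor
  · exact h x
  · intro hx
    rw [← h3] at hx
    obtain ⟨y, hy, hyx⟩ := hx
    have : y = x := (MulAut.conj k).injective hyx
    rw [← this]
    exact hy

variable {t : G} {K : Subgroup G} {B : L → L → ℤ} {Φ : Set L} {X W : L → Subgroup G} {ρ : L} {P Q : Subgroup G}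

namespace Base

theorem tt (D : Base t K B Φ X W ρ P Q) : t * t = 1 := D.dbl.tt

theorem tinv (D : Base t K B Φ X W ρ P Q) : t⁻¹ = t := inv_eq_of_mul_eq_one_left D.tt

theorem t1 (D : Base t K B Φ X W ρ P Q) : t ≠ 1 := fun h => D.tK (h ▸ one_mem K)

theorem Pt (D : Base t K B Φ X W ρ P Q) {p : G} (hp : p ∈ P) : p * t = t * p := D.Kt p (D.PK hp)

theorem conj_t (D : Base t K B Φ X W ρ P Q) {p : G} (hp : p ∈ P) : t * p * t = p := by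
  have := D.Pt hp
  calc t * p * t = t * (p * t) := by group
    _ = t * (t * p) := by rw [this]
    _ = (t * t) * p := by group
    _ = p := by rw [D.tt, one_mul]

theorem Xt (D : Base t K B Φ X W ρ P Q) {r : L} (hr : r ∈ Φ) {x : G} (hx : x ∈ X r) : x * t = t * x :=
  D.Kt x (D.XK r hr hx)

theorem W_comm (D : Base t K B Φ X W ρ P Q) {r : L} (hr : r ∈ Φ) {v w : G} (hv : v ∈ W r) (hw : w ∈ W r) :
    v * w = w * v := D.dbl.pos r hr r hr (by rw [D.roots.two r hr]; norm_num) v hv w hw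

theorem ZX (D : Base t K B Φ X W ρ P Q) : X ρ ≤ Q := D.XQ ρ D.hρ (by rw [D.roots.two ρ D.hρ]; norm_num)

theorem inv_mem_eq (D : Base t K B Φ X W ρ P Q) {r : L} (hr : r ∈ Φ) {w : G} (hw : w ∈ W r) : w⁻¹ = w :=
  inv_eq_of_mul_eq_one_left (D.dbl.sq r hr w hw)

/-- `W (r + s) ≤ [W r, y] X (r + s)` -/
theorem lift (D : Base t K B Φ X W ρ P Q) {r s : L} (hr : r ∈ Φ) (hs : s ∈ Φ) (hrs : B r s = -1) {y : G}
    (hy : y ∈ X s) (hy1 : y ≠ 1) {w : G} (hw : w ∈ W (r + s)) :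
    ∃ v ∈ W r, ∃ x ∈ X (r + s), w = x * (v * y * v⁻¹ * y⁻¹) := by
  have hm : r + s ∈ Φ := D.roots.add r hr s hs hrs
  have hti := D.tinv
  obtain ⟨u, hu, huc⟩ := D.Xsurj r hr s hs hrs y hy hy1 _ (D.dbl.brk _ hm w hw)
  obtain ⟨v, hv, hvu⟩ := D.dbl.surj r hr u hu
  have hyW : y ∈ W s := D.dbl.XW s hs hy
  have hyt := D.Xt hs hy
  have hc : v * y * v⁻¹ * y⁻¹ ∈ W (r + s) := D.dbl.neg r hr s hs hrs v hv y hyW
  set c := w⁻¹ * (t * w * t) with hcdef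
  have hcX : c ∈ X (r + s) := D.dbl.brk _ hm w hw
  have hcv : v * c = c * v := by
    refine D.dbl.pos r hr _ hm ?_ v hv c (D.dbl.XW _ hm hcX)
    rw [D.roots.add_right, D.roots.two r hr, hrs]; norm_num
  have hvt : t * v * t = v * u := by rw [← hvu]; group
  have hyt' : t * y * t = y := by
    calc t * y * t = t * (y * t) := by group
      _ = t * (t * y) := by rw [hyt]
      _ = (t * t) * y := by group
      _ = y := by rw [D.tt, one_mul]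
  have hvit : t * v⁻¹ * t = u⁻¹ * v⁻¹ := by
    calc t * v⁻¹ * t = (t⁻¹ * v * t⁻¹)⁻¹ := by group
      _ = (t * v * t)⁻¹ := by rw [hti]
      _ = u⁻¹ * v⁻¹ := by rw [hvt, mul_inv_rev]
  have hyit : t * y⁻¹ * t = y⁻¹ := by
    calc t * y⁻¹ * t = (t⁻¹ * y * t⁻¹)⁻¹ := by group
      _ = y⁻¹ := by rw [hti, hyt']
  have key : t * (v * y * v⁻¹ * y⁻¹) * t = c * (v * y * v⁻¹ * y⁻¹) := by
    calc t * (v * y * v⁻¹ * y⁻¹) * t
        = t * v * 1 * y * 1 * v⁻¹ * 1 * y⁻¹ * t := by group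
      _ = t * v * (t * t) * y * (t * t) * v⁻¹ * (t * t) * y⁻¹ * t := by rw [D.tt]
      _ = (t * v * t) * (t * y * t) * (t * v⁻¹ * t) * (t * y⁻¹ * t) := by group
      _ = v * (u * y * u⁻¹ * y⁻¹) * y * v⁻¹ * y⁻¹ := by rw [hvt, hyt', hvit, hyit]; group
      _ = (v * c) * y * v⁻¹ * y⁻¹ := by rw [huc]
      _ = c * (v * y * v⁻¹ * y⁻¹) := by rw [hcv]; group
  refine ⟨v, hv, w * (v * y * v⁻¹ * y⁻¹)⁻¹, ?_, by group⟩
  refine (D.dbl.cent _ hm _ (mul_mem hw (inv_mem hc))).1 ?_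
  set d := v * y * v⁻¹ * y⁻¹ with hd
  have hwt : t * w * t = w * c := by rw [hcdef]; group
  have hdi : t * d⁻¹ * t = d⁻¹ * c⁻¹ := by
    calc t * d⁻¹ * t = (t⁻¹ * d * t⁻¹)⁻¹ := by group
      _ = (t * d * t)⁻¹ := by rw [hti]
      _ = d⁻¹ * c⁻¹ := by rw [key, mul_inv_rev]
  have hcd : c * d⁻¹ = d⁻¹ * c := D.W_comm hm (D.dbl.XW _ hm hcX) (inv_mem hc)
  have h1 : t * (w * d⁻¹) * t = w * d⁻¹ := by
    calc t * (w * d⁻¹) * t = t * w * 1 * d⁻¹ * t := by group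
      _ = t * w * (t * t) * d⁻¹ * t := by rw [D.tt]
      _ = (t * w * t) * (t * d⁻¹ * t) := by group
      _ = w * (c * d⁻¹) * c⁻¹ := by rw [hwt, hdi]; group
      _ = w * d⁻¹ := by rw [hcd]; group
  calc t * (w * d⁻¹) = t * (w * d⁻¹) * (t * t) := by rw [D.tt, mul_one]
    _ = (t * (w * d⁻¹) * t) * t := by group
    _ = w * d⁻¹ * t := by rw [h1]

/-- the doubled root groups `W s`, `(s, ρ) ≥ 0`, centralise `X ρ` -/
theorem W_z (D : Base t K B Φ X W ρ P Q) {s : L} (hs : s ∈ Φ) (h : 0 ≤ B s ρ) {w z : G} (hw : w ∈ W s)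
    (hz : z ∈ X ρ) : w * z = z * w := D.dbl.pos s hs ρ D.hρ h w hw z (D.dbl.XW ρ D.hρ hz)

theorem P_z (D : Base t K B Φ X W ρ P Q) {p z : G} (hp : p ∈ P) (hz : z ∈ X ρ) : p * z = z * p :=
  (D.WP z (D.dbl.XW ρ D.hρ hz) p hp).symm

theorem exists_ne (D : Base t K B Φ X W ρ P Q) {r : L} (hr : r ∈ Φ) : ∃ x ∈ X r, x ≠ 1 := by
  by_contra hcon
  push Not at hcon
  exact D.Xne r hr ((eq_bot_iff_forall _).2 hcon)

/-- every subgroup containing `Q` which is invariant under `C_G(z)` contains `W ρ` and the `W s`, `(s, ρ) = 1` -/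
theorem W_le_of (D : Base t K B Φ X W ρ P Q) {z : G} (hz : z ∈ X ρ) {F : Subgroup G} (hQ : Q ≤ F)
    (hF : ∀ h ∈ centralizer ({z} : Set G), ∀ x ∈ F, h * x * h⁻¹ ∈ F) :
    W ρ ≤ F ∧ ∀ s ∈ Φ, B s ρ = 1 → W s ≤ F := by
  have key : ∀ r ∈ Φ, ∀ s ∈ Φ, B r s = -1 → 0 ≤ B r ρ → X s ≤ F → X (r + s) ≤ F → W (r + s) ≤ F := by
    intro r hr s hs hrs hrρ hXs hXrs w hw
    obtain ⟨y, hy, hy1⟩ := D.exists_ne hs
    obtain ⟨v, hv, x, hx, rfl⟩ := D.lift hr hs hrs hy hy1 hw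
    refine mul_mem (hXrs hx) (mul_mem (hF v ?_ y (hXs hy)) (inv_mem (hXs hy)))
    exact mem_centralizer_singleton_iff.2 (D.W_z hr hrρ hv hz)
  have h1 : ∀ s ∈ Φ, B s ρ = 1 → W s ≤ F := by
    intro s hs hsρ
    obtain ⟨s', hs', h0, h1⟩ := D.ex01 s hs hsρ
    have ha : s - s' ∈ Φ := D.roots.sub_mem hs hs' h1
    have hB : B s' (s - s') = -1 := by
      rw [D.roots.sub_right, D.roots.symm s' s, h1, D.roots.two s' hs']; norm_num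
    have haρ : B (s - s') ρ = 1 := by rw [D.roots.sub_left, hsρ, h0]; norm_num
    have e : s' + (s - s') = s := by abel
    have := key s' hs' _ ha hB h0.ge ((D.XQ _ ha haρ.ge).trans hQ)
    rw [e] at this
    exact this ((D.XQ s hs hsρ.ge).trans hQ)
  refine ⟨?_, h1⟩
  obtain ⟨s, hs, hsρ⟩ := D.ex1
  have ha : ρ - s ∈ Φ := D.roots.sub_mem D.hρ hs (by rw [D.roots.symm]; exact hsρ)
  have hB : B s (ρ - s) = -1 := by
    rw [D.roots.sub_right, hsρ, D.roots.two s hs]; norm_num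
  have haρ : B (ρ - s) ρ = 1 := by rw [D.roots.sub_left, hsρ, D.roots.two ρ D.hρ]; norm_num
  have e : s + (ρ - s) = ρ := by abel
  have := key s hs _ ha hB (by rw [hsρ]; norm_num) ((D.XQ _ ha haρ.ge).trans hQ)
  rw [e] at this
  exact this (D.ZX.trans hQ)

/-- the index set of the long root groups in `Q` -/
def Ind (B : L → L → ℤ) (Φ : Set L) (ρ : L) (P : Subgroup G) : Type _ :=
  {i : G × L // i.1 ∈ P ∧ i.2 ∈ Φ ∧ B i.2 ρ = 1}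

/-- the long root group -/
def AA (X : L → Subgroup G) (i : Ind (G := G) B Φ ρ P) : Subgroup G :=
  (X i.1.2).map (MulAut.conj i.1.1).toMonoidHom

/-- **the family of the doubled long root groups in `Q`** -/
theorem fam [Finite G] (D : Base t K B Φ X W ρ P Q) {z : G} (hz : z ∈ X ρ) :
    D7Out.CzTwo.Fam (centralizer ({z} : Set G)) Q (X ρ) (W ρ) t
      (fun i : Ind (G := G) B Φ ρ P => AA X i) (fun i => AA W i) where
  gen := by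
    intro F hQ hF
    obtain ⟨h1, h2⟩ := D.W_le_of hz hQ hF
    refine ⟨h1, ?_⟩
    rintro ⟨⟨p, s⟩, hp, hs, hsρ⟩ _ ⟨w, hw, rfl⟩
    exact hF p (mem_centralizer_singleton_iff.2 (D.P_z hp hz)) w (h2 s hs hsρ hw)
  A_le := by
    rintro ⟨⟨p, s⟩, hp, hs, hsρ⟩
    exact map_mono (D.dbl.XW s hs)
  Q_le := by
    refine D.Qgen.trans (sup_le le_sup_left ?_)
    rw [closure_le]
    rintro _ ⟨p, hp, s, hs, hsρ, x, hx, rfl⟩
    refine (le_sup_right : _ ≤ X ρ ⊔ _) ?_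
    exact (le_iSup (fun i : Ind (G := G) B Φ ρ P => AA X i) ⟨(p, s), hp, hs, hsρ⟩) ⟨x, hx, rfl⟩
  brk := by
    rintro ⟨⟨p, s⟩, hp, hs, hsρ⟩ _ ⟨w, hw, rfl⟩
    refine ⟨w⁻¹ * (t * w * t), D.dbl.brk s hs w hw, ?_⟩
    have hpt : p * t = t * p := D.Pt hp
    have hpit : p⁻¹ * t = t * p⁻¹ := by
      rw [inv_mul_eq_iff_eq_mul, ← mul_assoc, hpt, mul_assoc, mul_inv_cancel, mul_one]
    show p * (w⁻¹ * (t * w * t)) * p⁻¹ = (p * w * p⁻¹)⁻¹ * (t * (p * w * p⁻¹) * t)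
    calc p * (w⁻¹ * (t * w * t)) * p⁻¹ = p * w⁻¹ * p⁻¹ * ((p * t) * w * (t * p⁻¹)) := by group
      _ = p * w⁻¹ * p⁻¹ * ((t * p) * w * (p⁻¹ * t)) := by rw [hpt, hpit]
      _ = _ := by group
  onto := by
    rintro ⟨⟨p, s⟩, hp, hs, hsρ⟩ _ ⟨x, hx, rfl⟩
    obtain ⟨w, hw, hwx⟩ := D.dbl.surj s hs x hx
    refine ⟨p * w * p⁻¹, ⟨w, hw, rfl⟩, ?_⟩
    have hpt : p * t = t * p := D.Pt hp
    have hpit : p⁻¹ * t = t * p⁻¹ := by
      rw [inv_mul_eq_iff_eq_mul, ← mul_assoc, hpt, mul_assoc, mul_inv_cancel, mul_one]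
    show (p * w * p⁻¹)⁻¹ * (t * (p * w * p⁻¹) * t) = p * x * p⁻¹
    rw [← hwx]
    calc (p * w * p⁻¹)⁻¹ * (t * (p * w * p⁻¹) * t) = p * w⁻¹ * p⁻¹ * ((t * p) * w * (p⁻¹ * t)) := by group
      _ = p * w⁻¹ * p⁻¹ * ((p * t) * w * (t * p⁻¹)) := by rw [hpt, hpit]
      _ = _ := by group
  comm := by
    rintro ⟨⟨p₁, s₁⟩, hp₁, hs₁, hsρ₁⟩ ⟨⟨p₂, s₂⟩, hp₂, hs₂, hsρ₂⟩ _ ⟨w₁, hw₁, rfl⟩ _ ⟨w₂, hw₂, rfl⟩
    obtain ⟨k, hk, r₁, hr₁, r₂, hr₂, hB, c₁, c₂⟩ := D.pair p₁ hp₁ p₂ hp₂ s₁ hs₁ s₂ hs₂ hsρ₁ hsρ₂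
    have d₁ := D.Wcan s₁ hs₁ r₁ hr₁ (k * p₁) (mul_mem hk (D.PK hp₁)) c₁
    have d₂ := D.Wcan s₂ hs₂ r₂ hr₂ (k * p₂) (mul_mem hk (D.PK hp₂)) c₂
    have e₁ := d₁.le hw₁
    have e₂ := d₂.le hw₂
    set v₁ := k * p₁ * w₁ * (k * p₁)⁻¹ with hv₁
    set v₂ := k * p₂ * w₂ * (k * p₂)⁻¹ with hv₂
    show ⁅p₁ * w₁ * p₁⁻¹, p₂ * w₂ * p₂⁻¹⁆ ∈ W ρ
    have hc : ⁅p₁ * w₁ * p₁⁻¹, p₂ * w₂ * p₂⁻¹⁆ = k⁻¹ * (v₁ * v₂ * v₁⁻¹ * v₂⁻¹) * k := by
      rw [hv₁, hv₂, commutatorElement_def]; group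
    rw [hc]
    by_cases h0 : 0 ≤ B r₁ r₂
    · have := D.dbl.pos r₁ hr₁ r₂ hr₂ h0 v₁ e₁ v₂ e₂
      have e : v₁ * v₂ * v₁⁻¹ * v₂⁻¹ = 1 := by rw [this]; group
      rw [e]
      have e' : k⁻¹ * 1 * k = 1 := by group
      rw [e']
      exact one_mem _
    · have hB1 : B r₁ r₂ = -1 := by omega
      have hm : r₁ + r₂ ∈ Φ := D.roots.add r₁ hr₁ r₂ hr₂ hB1
      obtain ⟨y, hy, hy1⟩ := D.exists_ne hr₂
      have h1 : Cj k⁻¹ (X (r₁ + r₂)) (X ρ) := by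
        refine Cj.of_le ?_ (D.card _ hm).ge
        intro c hc'
        obtain ⟨u, hu, rfl⟩ := D.Xsurj r₁ hr₁ r₂ hr₂ hB1 y hy hy1 c hc'
        have f₁ := c₁.inv.le hu
        have f₂ := c₂.inv.le hy
        have g₁ : (p₁ * ((k * p₁)⁻¹ * u * (k * p₁)⁻¹⁻¹) * p₁⁻¹) ∈ Q := by
          have hq := D.XQ s₁ hs₁ hsρ₁.ge f₁
          exact D.Qn _ hp₁ _ hq
        have g₂ : (p₂ * ((k * p₂)⁻¹ * y * (k * p₂)⁻¹⁻¹) * p₂⁻¹) ∈ Q := by
          have hq := D.XQ s₂ hs₂ hsρ₂.ge f₂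
          exact D.Qn _ hp₂ _ hq
        have := D.QQ (commutator_mem_commutator g₁ g₂)
        rw [commutatorElement_def] at this
        have e : p₁ * ((k * p₁)⁻¹ * u * (k * p₁)⁻¹⁻¹) * p₁⁻¹ * (p₂ * ((k * p₂)⁻¹ * y * (k * p₂)⁻¹⁻¹) * p₂⁻¹) *
            (p₁ * ((k * p₁)⁻¹ * u * (k * p₁)⁻¹⁻¹) * p₁⁻¹)⁻¹ *
            (p₂ * ((k * p₂)⁻¹ * y * (k * p₂)⁻¹⁻¹) * p₂⁻¹)⁻¹ = k⁻¹ * (u * y * u⁻¹ * y⁻¹) * k⁻¹⁻¹ := by group
        rwa [e] at this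
      have h2 := D.Wcan _ hm ρ D.hρ k⁻¹ (inv_mem hk) h1
      have h3 := h2.le (D.dbl.neg r₁ hr₁ r₂ hr₂ hB1 v₁ e₁ v₂ e₂)
      rwa [inv_inv] at h3
  sq := by
    rintro ⟨⟨p, s⟩, hp, hs, hsρ⟩ _ ⟨w, hw, rfl⟩
    show p * w * p⁻¹ * (p * w * p⁻¹) ∈ W ρ
    have e : p * w * p⁻¹ * (p * w * p⁻¹) = p * (w * w) * p⁻¹ := by group
    rw [e, D.dbl.sq s hs w hw]
    have e' : p * 1 * p⁻¹ = 1 := by group
    rw [e']
    exact one_mem _
  Z_le := D.dbl.XW ρ D.hρ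
  W_t := D.dbl.conj_t ρ D.hρ
  W_fix := fun w hw h => (D.dbl.cent ρ D.hρ w hw).1 h.symm
  W_onto := D.dbl.surj ρ D.hρ
  W_comm := fun w hw x hx => D.W_comm D.hρ hw hx
  W_sq := D.dbl.sq ρ D.hρ
  W_cent := by
    rintro w hw ⟨⟨p, s⟩, hp, hs, hsρ⟩ _ ⟨x, hx, rfl⟩
    show w * (p * x * p⁻¹) = p * x * p⁻¹ * w
    have h1 : w * x = x * w := (D.dbl.pos s hs ρ D.hρ (by rw [hsρ]; norm_num) x hx w hw).symm
    have h2 : w * p = p * w := D.WP w hw p hp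
    have h3 : w * p⁻¹ = p⁻¹ * w := D.WP w hw p⁻¹ (inv_mem hp)
    calc w * (p * x * p⁻¹) = (w * p) * x * p⁻¹ := by group
      _ = p * (w * x) * p⁻¹ := by rw [h2]; group
      _ = p * x * (w * p⁻¹) := by rw [h1]; group
      _ = p * x * p⁻¹ * w := by rw [h3]; group

end Base

end Cfsg.Agent.OddHalf.D7Tw
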