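import Cfsg.Agent.OddHalf.D7Tw.ExRho
import Cfsg.Agent.OddHalf.D7Tw.Front
import Cfsg.Agent.KFacts.TwESix.Tor
import Cfsg.Agent.KFacts.TwESix.Cent

/-!
# `K ≅ ²E₆(q)` in `G`, `q > 2` even: the root group datum in `G` and the doubled long root groups (helper622)

* `rgdG R e` : the root group datum of `K` in `G`, `XG e X x = (X x).map (emb e)`; `sup_map`, `PP_map`, `QQ_map`,
  `gg_map`, `noCent_map`;
* `kx` : `ExRho.KX` in `G`;
* **`exists_all`** : in `Ctx G`, `Std G K`, `Cyc K`, `K ≅ ²E₆(q)`: `t`, the output of the front, `KX`, `NoCent` and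
  `∃ V, Orbit.YO (rgdG _ e) t rho V`.
-/

set_option autoImplicit false
set_option linter.unusedSectionVars false

namespace Cfsg.Agent.OddHalf.D7Tw.Inst

open CoxeterSystem Cfsg.Agent.ChevalleyStructure.CoxeterGeom Cfsg.Agent.Tits.Roots Cfsg.Agent.Tits.Core
  Cfsg.Agent.Tits.RootComb Cfsg.Agent.Tits.Exchange Cfsg.Agent.Nodes.Reps Cfsg.Agent.Nodes.BNOf
  Cfsg.Agent.Nodes.Coroot Cfsg.Agent.Nodes.StabComb
  Cfsg.Agent.Nodes.LeviDec Cfsg.Agent.Nodes.Bruhat Cfsg.Agent.Nodes.OppDec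
  Cfsg.Agent.KFacts.RgdPar Cfsg.Agent.KFacts.RgdCent
  Cfsg.Agent.KFacts.RgdSL Cfsg.Agent.KFacts.RgdTI Cfsg.Agent.KFacts.RgdOdd Cfsg.Agent.KFacts.RgdEx
  Cfsg.Agent.Nodes.RGDTwE6 Cfsg.Agent.KFacts.TwESix.Comb Cfsg.Agent.KFacts.TwESix.CombRho
  Cfsg.Agent.KFacts.TwESix.Facts Cfsg.Agent.KFacts.TwESix.QRho Cfsg.Agent.KFacts.TwESix.Faith
  Cfsg.Agent.OddHalf.SL.Defs
  Cfsg.Agent.OddHalf.D7Tw Cfsg.Agent.OddHalf.D7Tw.Orbit Cfsg.Agent.OddHalf.D7Tw.ExRho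
  Cfsg.Agent.OddHalf.D7Tw.Front
open scoped commutatorElement

section Over

open Cfsg.Agent.OddHalf.D7Out

variable {G : Type*} [Group G] {K : Subgroup G} {t : G}
variable {W Y : Type*} [Group W] [Group Y] {cs : CoxeterSystem CoxeterMatrix.F₄ W} {T₀ : Subgroup Y} {n : Fin 4 → Y}
  {X : (Fin 4 → ℤ) → Subgroup Y}

/-- the root groups in `G` -/
abbrev XG (e : Y ≃* ↥K) (X : (Fin 4 → ℤ) → Subgroup Y) : (Fin 4 → ℤ) → Subgroup G := fun x => (X x).map (emb e)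

/-- the root group datum in `G` -/
theorem rgdG (R : RGD cs isCartan 2 T₀ n X) (e : Y ≃* ↥K) :
    RGD cs isCartan 2 (T₀.map (emb e)) (fun i => emb e (n i)) (XG e X) :=
  Cfsg.Agent.Nodes.RGDLib.rgd_map_of_injective R (emb e) (emb_injective e)

theorem sup_map (e : Y ≃* ↥K) (S : Set (Fin 4 → ℤ)) : RGD.Sup (XG e X) S = (RGD.Sup X S).map (emb e) := by
  unfold RGD.Sup
  rw [Subgroup.map_iSup]

theorem PP_map (e : Y ≃* ↥K) : PP cs (XG e X) = (PP cs X).map (emb e) := sup_map e _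

theorem QQ_map (e : Y ≃* ↥K) : QQ cs (XG e X) = (QQ cs X).map (emb e) := sup_map e _

theorem map_top (e : Y ≃* ↥K) : (⊤ : Subgroup Y).map (emb e) = K := by
  ext x
  constructor
  · rintro ⟨y, -, rfl⟩
    exact emb_mem e y
  · intro hx
    obtain ⟨y, rfl⟩ := exists_emb e hx
    exact ⟨y, Subgroup.mem_top y, rfl⟩

theorem sup_eq (e : Y ≃* ↥K) (hG1 : RGD.Sup X {x | IsRoot cs isCartan x} = ⊤) :
    RGD.Sup (XG e X) {x | IsRoot cs isCartan x} = K := by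
  rw [sup_map, hG1, map_top]

theorem gg_eq (e : Y ≃* ↥K) (hG1 : RGD.Sup X {x | IsRoot cs isCartan x} = ⊤) :
    GG cs isCartan (T₀.map (emb e)) (XG e X) = K := by
  unfold GG
  rw [sup_eq e hG1]
  refine sup_eq_right.2 ?_
  rintro _ ⟨y, -, rfl⟩
  exact emb_mem e y

theorem noCent_map (e : Y ≃* ↥K) (h : NoCent cs isCartan T₀ X) :
    NoCent cs isCartan (T₀.map (emb e)) (XG e X) := by
  rintro _ ⟨s, hs, rfl⟩ hc
  rw [h s hs, map_one]
  intro b hb v hv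
  apply emb_injective e
  rw [map_mul, map_mul]
  exact hc b hb _ ⟨v, hv, rfl⟩

/-- conjugation by `c ∈ N(K)`, on `Y` -/
def aut (e : Y ≃* ↥K) {c : G} (hc : c ∈ Subgroup.normalizer (K : Set G)) : MulAut Y :=
  MulAut.congr e.symm (Subgroup.normalizerMonoidHom K ⟨c, hc⟩)

theorem emb_aut (e : Y ≃* ↥K) {c : G} (hc : c ∈ Subgroup.normalizer (K : Set G)) (y : Y) :
    emb e (aut e hc y) = c * emb e y * c⁻¹ := by
  show ((e (e.symm (Subgroup.normalizerMonoidHom K ⟨c, hc⟩ (e y))) : ↥K) : G) = _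
  rw [e.apply_symm_apply]
  rfl

/-- `C(t) ∩ C(Q_r) = ⟨t⟩ X r`, and so on: an element inducing an inner automorphism of `K` -/
theorem eq_or_of_aut (e : Y ≃* ↥K) {c : G} (hc : c ∈ Subgroup.normalizer (K : Set G)) (hct : c * t = t * c)
    (hKt : ∀ k ∈ K, t * k = k * t)
    (hcK : ∀ x : G, x * t = t * x → (∀ k ∈ K, x * k = k * x) → x = 1 ∨ x = t) {z : Y}
    (hz : aut e hc = MulAut.conj z) : c = emb e z ∨ c = t * emb e z := by
  refine Cfsg.Agent.KFacts.TwESix.Cent.eq_or_of_conj hc hct hKt hcK (z := e z) ?_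
  ext k
  obtain ⟨y, rfl⟩ := e.surjective k
  have h1 := emb_aut e hc y
  rw [hz, MulAut.conj_apply, map_mul, map_mul, map_inv] at h1
  show c * (e y : G) * c⁻¹ = (e z : G) * (e y : G) * (e z : G)⁻¹
  exact h1.symm

theorem centK (S : Cfsg.Agent.OddHalf.Front.FE.Start K t t) :
    ∀ x : G, x * t = t * x → (∀ k ∈ K, x * k = k * x) → x = 1 ∨ x = t := by
  intro x hx h
  obtain ⟨i, rfl⟩ := Subgroup.mem_zpowers_iff.1 (S.cK x hx fun k hk => (h k hk).symm)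
  have h2 : t ^ (2 : ℤ) = 1 := by
    rw [zpow_ofNat, pow_two]; exact S.tt
  rcases Int.even_or_odd' i with ⟨j, hj | hj⟩
  · left
    rw [hj, zpow_mul, h2, one_zpow]
  · right
    rw [hj, zpow_add, zpow_mul, h2, one_zpow, one_mul, zpow_one]

/-- **`KX` in `G`.** -/
theorem kx [Finite G] {R : RGD cs isCartan 2 T₀ n X} (D : Dat R) (e : Y ≃* ↥K)
    (S : Cfsg.Agent.OddHalf.Front.FE.Start K t t)
    (hs : Cfsg.Agent.Schreier.Basic.Sch ↥K) (hG1 : RGD.Sup X {x | IsRoot cs isCartan x} = ⊤)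
    (hab : ∀ s ∈ T₀, ∀ s' ∈ T₀, s * s' = s' * s) (hNC : NoCent cs isCartan T₀ X)
    (hrho : ∃ k ∈ T₀ ⊓ (X rho ⊔ X (-rho)), ∃ x ∈ X rho, k * x * k⁻¹ ≠ x) : KX (rgdG R e) t K where
  dat := Cfsg.Agent.KFacts.TwESix.Tor.map D (emb e) (emb_injective e)
  gg := gg_eq e hG1
  Tab := by
    rintro _ ⟨a, ha, rfl⟩ _ ⟨b, hb, rfl⟩
    rw [← map_mul, ← map_mul, hab a ha b hb]
  tt := S.tt
  tK := fun h => S.t1 (S.cen t h fun y hy => S.Kt y hy)
  Kt := fun x hx => (S.Kt x hx).symm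
  perf := fun L hLt hL => FrGen.perf_le S.toStart0 hs hLt hL
  cP := by
    intro c hct hcP
    have hc : c ∈ Subgroup.normalizer (K : Set G) := S.nK c hct.symm
    obtain ⟨z, hz, h1⟩ := Cfsg.Agent.KFacts.TwESix.Cent.aut_k1 D (rho_root cs) rho_long hNC hG1 (α := aut e hc) (by
      intro a ha ha0 v hv
      rw [cpr_rho] at ha0
      apply emb_injective e
      rw [emb_aut]
      have h2 : emb e v ∈ PP cs (XG e X) := le_PP (X := XG e X) ha ha0.le ⟨v, hv, rfl⟩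
      rw [hcP _ h2, mul_inv_cancel_right])
    rcases eq_or_of_aut e hc hct.symm (fun k hk => (S.Kt k hk).symm) (centK S) h1 with h2 | h2
    · left
      rw [h2]
      exact ⟨z, hz, rfl⟩
    · right
      rw [h2, ← mul_assoc, S.tt, one_mul]
      exact ⟨z, hz, rfl⟩
  hrho := by
    obtain ⟨k, hk, x, hx, hne⟩ := hrho
    refine ⟨emb e k, Subgroup.mem_inf.2 ⟨⟨k, (Subgroup.mem_inf.1 hk).1, rfl⟩, ?_⟩, emb e x, ⟨x, hx, rfl⟩, fun h => hne ?_⟩
    · rw [← Subgroup.map_sup]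
      exact ⟨k, (Subgroup.mem_inf.1 hk).2, rfl⟩
    · apply emb_injective e
      rw [map_mul, map_mul, map_inv]
      exact h

end Over

/-! ### The instance `²E₆(q)` -/

section Inst

open Cfsg.Lie Cfsg.Agent.OddHalf.D7Out Cfsg.Agent.OddHalf.Iface

universe u

variable {F : Type u} [Field F] [Fintype F] {q : ℕ} {φ : F →+* F}

/-- the output for `K ≅ ²E₆(q)` -/
structure All {G : Type*} [Group G] {K : Subgroup G} {W : Type*} [Group W] (cs : CoxeterSystem CoxeterMatrix.F₄ W)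
    (hφ : ∀ x, φ x = x ^ q) (hqq : ∀ t : F, (t ^ q) ^ q = t) (e : ↥(twistedE6 F q) ≃* ↥K) [CharP F 2] (t : G)
    (T : Subgroup G) (m z : G) (V : (Fin 4 → ℤ) → Subgroup G) : Prop where
  start : Cfsg.Agent.OddHalf.Front.FE.Start K t t
  out : Front.Out t K (PP cs (XG e (X φ q))) (RGD.Sup (XG e (X φ q)) (RGD.Pos cs isCartan)) (XG e (X φ q) rho) T m z
  kx : KX (rgdG (rgd cs hφ hqq 2) e) t K
  nc : NoCent cs isCartan ((Cfsg.Agent.Nodes.RGDTwE6.T F q).map (emb e)) (XG e (X φ q))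
  sup : RGD.Sup (XG e (X φ q)) {x | IsRoot cs isCartan x} = K
  yo : YO (rgdG (rgd cs hφ hqq 2) e) t rho V

/-- **The doubled long root groups for `K ≅ ²E₆(q)`, `q > 2` even.** -/
theorem exists_all {G : Type*} [Group G] (C : Ctx G) {K : Subgroup G} (S : Std G K) (hcyc : Cyc K)
    {W : Type*} [Group W] (cs : CoxeterSystem CoxeterMatrix.F₄ W) [CharP F 2]
    (hφ : ∀ x, φ x = x ^ q) (hqq : ∀ t : F, (t ^ q) ^ q = t) (hq : IsPrimePow q) (hq2 : 2 < q)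
    (hF : Fintype.card F = q ^ 2) (e : ↥(twistedE6 F q) ≃* ↥K) :
    ∃ (t : G) (T : Subgroup G) (m z : G) (V : (Fin 4 → ℤ) → Subgroup G), All cs hφ hqq e t T m z V := by
  have := C.fin
  have : Finite W := finiteW cs
  obtain ⟨h1, h2⟩ := Cfsg.Agent.S1070.result (K := F) hq hF
  have hNC : NoCent cs isCartan (Cfsg.Agent.Nodes.RGDTwE6.T F q) (X φ q) :=
    noCent_of_center (rgd cs hφ hqq 2) (G1_eq_top cs hφ hqq) (center_eq_bot h1 h2)
  have hD : Dat (rgd cs hφ hqq 2) := Cfsg.Agent.KFacts.TwESix.Dat.dat cs hφ hqq hF hq.one_lt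
  have hk1 : K1 cs (X φ q) := by
    intro g hg
    refine Cfsg.Agent.KFacts.TwESix.Cent.k1 hD (rho_root cs) rho_long hNC ?_ fun a ha ha0 v hv => ?_
    · rw [Cfsg.Agent.KFacts.RgdRigid.GG_eq_top (G1_eq_top cs hφ hqq)]
      exact Subgroup.mem_top g
    · rw [cpr_rho] at ha0
      exact hg a ha ha0 v hv
  obtain ⟨t, T, m, z, hst, hO⟩ := Front.front C S hcyc cs hφ hqq hq hF e hk1
  have hkx : KX (rgdG (rgd cs hφ hqq 2) e) t K := by
    refine kx hD e hst ((Cfsg.Agent.Schreier.TwESix.sch hq hF).of_equiv e) (G1_eq_top cs hφ hqq) Front.T_comm hNC ?_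
    obtain ⟨k, hk, h⟩ := Cfsg.Agent.KFacts.TwESix.Tor.hne cs hφ hqq hF hq2 (rho_root cs) rho_long
    obtain ⟨x, hx, hx1⟩ := exists_ne_one (rgd cs hφ hqq 2) (rho_root cs)
    exact ⟨k, hk, x, hx, h x hx hx1⟩
  have hO' : Front.Out t K (PP cs (XG e (X φ q))) (RGD.Sup (XG e (X φ q)) (RGD.Pos cs isCartan))
      (XG e (X φ q) rho) T m z := by
    rw [PP_map, sup_map]
    exact hO
  obtain ⟨V, hV⟩ := hkx.exists_yo_of_swap hO'.sw
  exact ⟨t, T, m, z, V, hst, hO', hkx, noCent_map e hNC, sup_eq e (G1_eq_top cs hφ hqq), hV⟩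

end Inst

end Cfsg.Agent.OddHalf.D7Tw.Inst
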