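import Cfsg.Agent.OddHalf.D7Tw.Front
import Cfsg.Agent.KFacts.TwESix.Cent

/-!
# `²E₆(q)`: `C(Q) = X ρ` and the front (helper841, on helper469's `TwESix/Cent`)

* `k1` : (K1) for `ρ`, from `Facts.Dat` and `NoCent`;
* `k1_inst`, `front` : for `²E₆(q)`, `q` even: the front without open input.
-/

set_option autoImplicit false
set_option linter.unusedSectionVars false

namespace Cfsg.Agent.OddHalf.D7Tw.KOne

open CoxeterSystem Cfsg.Agent.ChevalleyStructure.CoxeterGeom Cfsg.Agent.Tits.Roots Cfsg.Agent.Tits.Core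
  Cfsg.Agent.Tits.RootComb Cfsg.Agent.Tits.Exchange Cfsg.Agent.Nodes.Reps Cfsg.Agent.Nodes.BNOf
  Cfsg.Agent.Nodes.StabComb Cfsg.Agent.Nodes.Bruhat Cfsg.Agent.Nodes.OppDec
  Cfsg.Agent.Nodes.Coroot Cfsg.Agent.KFacts.RgdSL Cfsg.Agent.KFacts.RgdTI Cfsg.Agent.KFacts.RgdOdd
  Cfsg.Agent.KFacts.RgdEx Cfsg.Agent.KFacts.RgdPar Cfsg.Agent.KFacts.RgdCent
  Cfsg.Agent.Nodes.RGDTwE6 Cfsg.Agent.KFacts.TwESix.Comb Cfsg.Agent.KFacts.TwESix.CombRho
  Cfsg.Agent.KFacts.TwESix.Facts Cfsg.Agent.KFacts.TwESix.QRho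
  Cfsg.Agent.OddHalf.D7Tw.Front
open scoped commutatorElement

section Abs

variable {W Y : Type*} [Group W] [Group Y] {cs : CoxeterSystem CoxeterMatrix.F₄ W} {T₀ : Subgroup Y} {n : Fin 4 → Y}
  {X : (Fin 4 → ℤ) → Subgroup Y}

/-- **(K1)** `C(Q) ≤ X ρ`. -/
theorem k1 {R : RGD cs isCartan 2 T₀ n X} (D : Dat R) (hG1 : RGD.Sup X {x | IsRoot cs isCartan x} = ⊤)
    (hN : NoCent cs isCartan T₀ X) : K1 cs X := by
  have : Finite W := finiteW cs
  intro g hg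
  have hG : GG cs isCartan T₀ X = ⊤ := by
    rw [eq_top_iff, ← hG1]
    exact Cfsg.Agent.KFacts.RgdSyl.Sup_le_GG fun x hx => hx
  refine Cfsg.Agent.KFacts.TwESix.Cent.k1 D (rho_root cs) (by decide) hN (by rw [hG]; exact Subgroup.mem_top g)
    fun a ha ha0 v hv => ?_
  rw [cpr_rho] at ha0
  exact hg a ha ha0 v hv

end Abs

/-! ### The instance -/

section Inst

open Cfsg.Lie Cfsg.Agent.OddHalf.D7Out Cfsg.Agent.OddHalf.Iface

universe u

variable {F : Type u} [Field F] [Fintype F] {q : ℕ} {φ : F →+* F}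

/-- **(K1)** for `²E₆(q)`, `q` even. -/
theorem k1_inst {W : Type*} [Group W] (cs : CoxeterSystem CoxeterMatrix.F₄ W) [CharP F 2] (hφ : ∀ x, φ x = x ^ q)
    (hqq : ∀ t : F, (t ^ q) ^ q = t) (hq : IsPrimePow q) (hF : Fintype.card F = q ^ 2) : K1 cs (X φ q) := by
  obtain ⟨h1, h2⟩ := Cfsg.Agent.S1070.result (K := F) hq hF
  have : Finite W := finiteW cs
  exact k1 (dat cs hφ hqq hF hq.one_lt) (G1_eq_top cs hφ hqq)
    (noCent_of_center (rgd cs hφ hqq 2) (G1_eq_top cs hφ hqq) (center_eq_bot h1 h2))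

/-- **The front for `K ≅ ²E₆(q)`**, `q` even. -/
theorem front {G : Type*} [Group G] (C : Ctx G) {K : Subgroup G} (S : Std G K) (hcyc : Cyc K)
    {W : Type*} [Group W] (cs : CoxeterSystem CoxeterMatrix.F₄ W) [CharP F 2]
    (hφ : ∀ x, φ x = x ^ q) (hqq : ∀ t : F, (t ^ q) ^ q = t) (hq : IsPrimePow q) (hF : Fintype.card F = q ^ 2)
    (e : ↥(twistedE6 F q) ≃* ↥K) :
    ∃ (t : G) (T : Subgroup G) (m z : G), Cfsg.Agent.OddHalf.Front.FE.Start K t t ∧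
      Out t K ((PP cs (X φ q)).map (emb e)) ((RGD.Sup (X φ q) (RGD.Pos cs isCartan)).map (emb e))
        ((X φ q rho).map (emb e)) T m z :=
  Front.front C S hcyc cs hφ hqq hq hF e (k1_inst cs hφ hqq hq hF)

end Inst

end Cfsg.Agent.OddHalf.D7Tw.KOne
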