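import Cfsg.Agent.OddHalf.D7Tw.EnvOf
import Cfsg.Agent.OddHalf.D7Out.RingOut

/-!
# THEOREM H for `K = ²E₆(q)`: the ring `W ρ` (helper756)

* `Tor`: the facts on `K` used in step (7).
* `Base.inp`: helper76's `RingOut.Inp` for `D = Q**`, `V = W ρ`, `A = W s`, `B = W (ρ - s)`.
* `Base.false_of`: **THEOREM H + T-formula: contradiction**.
-/

set_option autoImplicit false

namespace Cfsg.Agent.OddHalf.D7Tw

open Subgroup Cfsg
open Cfsg.Agent.OddHalf.Iface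
open Cfsg.Agent.OddHalf.D7Out.CzTwo
open Cfsg.Agent.OddHalf.D7Out.RingOut
open Cfsg.Agent.SignalizersComponents.Components
open scoped commutatorElement

universe u

variable {L : Type*} [AddCommGroup L] {G : Type u} [Group G]

/-- the facts on `K` used in step (7) -/
structure Tor (K : Subgroup G) (B : L → L → ℤ) (Φ : Set L) (X : L → Subgroup G) (ρ : L) (P : Subgroup G)
    (s : L) (TA : Subgroup G) : Prop where
  hs : s ∈ Φ
  hsρ : B s ρ = 1
  /-- all the (long) root groups are conjugate -/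
  trρ : ∀ r ∈ Φ, ∃ k ∈ K, Cj k (X ρ) (X r)
  /-- `C_K(X ρ) ≤ T P`, `T` of odd order -/
  cen : ∀ g ∈ K, (∀ x ∈ X ρ, g * x = x * g) → ∃ h ∈ K, ∃ p ∈ P, g = h * p ∧ Odd (orderOf h)
  /-- `TA ≤ T` centralises `X (ρ - s)` and is transitive on `X ρ` -/
  TAK : TA ≤ K
  TAs : ∀ h ∈ TA, Cj h (X s) (X s)
  TAρ : ∀ h ∈ TA, Cj h (X ρ) (X ρ)
  TAa : ∀ h ∈ TA, ∀ y ∈ X (ρ - s), h * y = y * h
  trans : ∀ z ∈ X ρ, z ≠ 1 → ∀ v ∈ X ρ, v ≠ 1 → ∃ h ∈ TA, h * z * h⁻¹ = v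
  /-- `-1` in the Weyl group of `P / Q` -/
  sw : ∃ n ∈ P, Cj n (X s) (X (ρ - s)) ∧ Cj n (X (ρ - s)) (X s)
  /-- `P` is transitive on the long root groups in `Q` -/
  tr : ∀ r ∈ Φ, B r ρ = 1 → ∃ p ∈ P, Cj p (X s) (X r)
  /-- `C_P(X s)` is transitive on the long root groups in `Q` not commuting with `X s` -/
  opp : ∀ p ∈ P, (∀ x ∈ X s, ∀ y ∈ X s, x * (p * y * p⁻¹) = p * y * p⁻¹ * x) ∨
    ∃ u ∈ P, (∀ x ∈ X s, u * x = x * u) ∧ Cj (u⁻¹ * p) (X s) (X (ρ - s))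

variable {t : G} {K : Subgroup G} {B : L → L → ℤ} {Φ : Set L} {X W : L → Subgroup G} {ρ : L} {P Q : Subgroup G}
variable {s : L} {TA : Subgroup G}

namespace Base

/-- an odd element centralising `X r` centralises `W r` -/
theorem odd_cent (D : Base t K B Φ X W ρ P Q) {r : L} (hr : r ∈ Φ) {h : G} (hK : h ∈ K)
    (hx : ∀ x ∈ X r, h * x = x * h) (ho : Odd (orderOf h)) {w : G} (hw : w ∈ W r) : h * w = w * h := by
  have hCj : Cj h (X r) (X r) := by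
    intro x
    constructor
    · intro hxr
      rw [hx x hxr, mul_inv_cancel_right]
      exact hxr
    · intro hxr
      have h1 := hx _ hxr
      have h2 : h * x * h⁻¹ = x := by
        have h3 : h * (h * x * h⁻¹) * h⁻¹ = h * x * h⁻¹ := by rw [h1]; group
        have h4 : h * x * h⁻¹ = h⁻¹ * (h * (h * x * h⁻¹) * h⁻¹) * h := by group
        rw [h4, h3]; group
      rwa [h2] at hxr
  have hW := D.Wcan r hr r hr h hK hCj
  have ht := D.Kt h hK
  have hti : h⁻¹ * t = t * h⁻¹ := (Commute.inv_left (show Commute h t from ht)).eq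
  -- `h² w = w h²`
  have key : ∀ v ∈ W r, ∃ c ∈ X r, h * v * h⁻¹ = v * c := by
    intro v hv
    have h1 : v⁻¹ * (h * v * h⁻¹) ∈ W r := mul_mem (inv_mem hv) (hW.le hv)
    refine ⟨v⁻¹ * (h * v * h⁻¹), ?_, by group⟩
    refine (D.dbl.cent r hr _ h1).1 ?_
    -- `[v, t] = x ∈ X r` is centralised by `h`
    set x := v⁻¹ * (t * v * t) with hxdef
    have hxX : x ∈ X r := D.dbl.brk r hr v hv
    have e1 : t * v * t = v * x := by rw [hxdef]; group
    have e2 : t * v⁻¹ * t = v⁻¹ * x⁻¹ := by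
      have : t * v⁻¹ * t = (t * v * t)⁻¹ := by rw [mul_inv_rev, mul_inv_rev, D.tinv, mul_assoc]
      rw [this, e1, mul_inv_rev]
      have hc' : Commute v x := D.W_comm hr hv (D.dbl.XW r hr hxX)
      exact (hc'.inv_inv).eq.symm
    have e3 : t * (h * v * h⁻¹) * t = (h * v * h⁻¹) * x := by
      calc t * (h * v * h⁻¹) * t = (t * h) * v * (h⁻¹ * t) := by group
        _ = (h * t) * v * (t * h⁻¹) := by rw [ht, hti]
        _ = h * (t * v * t) * h⁻¹ := by group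
        _ = h * v * (x * h⁻¹) := by rw [e1]; group
        _ = h * v * (h⁻¹ * x) := by
          have : Commute h x := hx x hxX
          rw [(this.symm.inv_right).eq]
        _ = (h * v * h⁻¹) * x := by group
    have e4 : t * (v⁻¹ * (h * v * h⁻¹)) * t = v⁻¹ * (h * v * h⁻¹) := by
      calc t * (v⁻¹ * (h * v * h⁻¹)) * t = (t * v⁻¹) * 1 * (h * v * h⁻¹) * t := by group
        _ = (t * v⁻¹) * (t * t) * (h * v * h⁻¹) * t := by rw [D.tt]
        _ = (t * v⁻¹ * t) * (t * (h * v * h⁻¹) * t) := by group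
        _ = v⁻¹ * (x⁻¹ * (h * v * h⁻¹)) * x := by rw [e2, e3]; group
        _ = v⁻¹ * ((h * v * h⁻¹) * x⁻¹) * x := by
          have hc : Commute x (h * v * h⁻¹) := D.W_comm hr (D.dbl.XW r hr hxX) (hW.le hv)
          rw [(hc.inv_left).eq]
        _ = _ := by group
    calc t * (v⁻¹ * (h * v * h⁻¹)) = (t * (v⁻¹ * (h * v * h⁻¹)) * t) * t := by
          rw [mul_assoc (t * (v⁻¹ * (h * v * h⁻¹))) t t, D.tt, mul_one]
      _ = v⁻¹ * (h * v * h⁻¹) * t := by rw [e4]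
  have h2 : h * h * w = w * (h * h) := by
    obtain ⟨c, hc, e⟩ := key w hw
    have e1 : h * h * w * (h * h)⁻¹ = w := by
      calc h * h * w * (h * h)⁻¹ = h * (h * w * h⁻¹) * h⁻¹ := by group
        _ = h * (w * c) * h⁻¹ := by rw [e]
        _ = (h * w * h⁻¹) * (h * c * h⁻¹) := by group
        _ = (w * c) * c := by rw [e, hx c hc]; group
        _ = w * (c * c) := by group
        _ = w := by rw [D.dbl.sq r hr c (D.dbl.XW r hr hc), mul_one]
    calc h * h * w = (h * h * w * (h * h)⁻¹) * (h * h) := by group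
      _ = w * (h * h) := by rw [e1]
  obtain ⟨m, hm⟩ := ho
  have h3 : Commute (h * h) w := h2
  have h4 : h = ((h * h) ^ m)⁻¹ := by
    have h5 : h ^ orderOf h = 1 := pow_orderOf_eq_one h
    rw [hm, pow_succ, pow_mul, pow_two] at h5
    exact eq_inv_of_mul_eq_one_right h5
  rw [h4]
  exact ((h3.pow_left m).inv_left).eq

/-- `C_K(X r)` centralises `W r` -/
theorem W_cent (D : Base t K B Φ X W ρ P Q) (T : Tor K B Φ X ρ P s TA) {r : L} (hr : r ∈ Φ) {g : G}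
    (hg : g ∈ K) (hx : ∀ x ∈ X r, g * x = x * g) {w : G} (hw : w ∈ W r) : g * w = w * g := by
  obtain ⟨k, hk, hc⟩ := T.trρ r hr
  have hcW := D.Wcan ρ D.hρ r hr k hk hc
  have hg' : k⁻¹ * g * k ∈ K := mul_mem (mul_mem (inv_mem hk) hg) hk
  have hx' : ∀ x ∈ X ρ, (k⁻¹ * g * k) * x = x * (k⁻¹ * g * k) := by
    intro x hxρ
    have h1 := hx _ (hc.le hxρ)
    calc (k⁻¹ * g * k) * x = k⁻¹ * (g * (k * x * k⁻¹)) * k := by group
      _ = k⁻¹ * (k * x * k⁻¹ * g) * k := by rw [h1]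
      _ = x * (k⁻¹ * g * k) := by group
  obtain ⟨h, hh, p, hp, e, ho⟩ := T.cen _ hg' hx'
  have hw' : k⁻¹ * w * k ∈ W ρ := by
    have := hcW.inv.le hw
    rwa [inv_inv] at this
  have h1 : ∀ x ∈ X ρ, h * x = x * h := by
    intro x hxρ
    have h2 := hx' x hxρ
    have h3 := D.P_z hp hxρ
    have h4 : h = (k⁻¹ * g * k) * p⁻¹ := by rw [e]; group
    rw [h4]
    exact (Commute.mul_left (show Commute (k⁻¹ * g * k) x from h2)
      (Commute.inv_left (show Commute p x from h3))).eq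
  have h2 := D.odd_cent D.hρ hh h1 ho hw'
  have h3 : p * (k⁻¹ * w * k) = (k⁻¹ * w * k) * p := (D.WP _ hw' p hp).symm
  have h4 : Commute (k⁻¹ * g * k) (k⁻¹ * w * k) := by
    rw [e]
    exact Commute.mul_left h2 h3
  calc g * w = k * ((k⁻¹ * g * k) * (k⁻¹ * w * k)) * k⁻¹ := by group
    _ = k * ((k⁻¹ * w * k) * (k⁻¹ * g * k)) * k⁻¹ := by rw [h4.eq]
    _ = w * g := by group

/-- the pairing `X r × X r'`, `(r, r') = -1`, is nondegenerate -/
theorem Xnd [Finite G] (D : Base t K B Φ X W ρ P Q) {r r' : L} (hr : r ∈ Φ) (hr' : r' ∈ Φ) (h : B r r' = -1)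
    {x y : G} (hx : x ∈ X r) (hy : y ∈ X r') (hy1 : y ≠ 1) (hxy : x * y = y * x) : x = 1 := by
  classical
  have hm := D.roots.add r hr r' hr' h
  let f : ↥(X r) → ↥(X (r + r')) := fun u =>
    if hu : (u : G) * y * (u : G)⁻¹ * y⁻¹ ∈ X (r + r') then ⟨(u : G) * y * (u : G)⁻¹ * y⁻¹, hu⟩ else 1
  have hsurj : Function.Surjective f := by
    rintro ⟨c, hc⟩
    obtain ⟨u, hu, huc⟩ := D.Xsurj r hr r' hr' h y hy hy1 c hc
    refine ⟨⟨u, hu⟩, ?_⟩
    have h1 : u * y * u⁻¹ * y⁻¹ ∈ X (r + r') := by rw [huc]; exact hc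
    show (if hu : u * y * u⁻¹ * y⁻¹ ∈ X (r + r') then (⟨u * y * u⁻¹ * y⁻¹, hu⟩ : ↥(X (r + r'))) else 1) = _
    rw [dif_pos h1]
    exact Subtype.ext huc
  have hcard : Nat.card ↥(X r) = Nat.card ↥(X (r + r')) := by rw [D.card r hr, D.card _ hm]
  have hinj := ((Nat.bijective_iff_surjective_and_card f).2 ⟨hsurj, hcard⟩).1
  have e1 : x * y * x⁻¹ * y⁻¹ = 1 := by rw [hxy]; group
  have h1 : f ⟨x, hx⟩ = f 1 := by
    apply Subtype.ext
    show ((if hu : x * y * x⁻¹ * y⁻¹ ∈ X (r + r') then (⟨x * y * x⁻¹ * y⁻¹, hu⟩ : ↥(X (r + r'))) else 1 :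
      ↥(X (r + r'))) : G) = ((if hu : (1 : G) * y * (1 : G)⁻¹ * y⁻¹ ∈ X (r + r') then
        (⟨(1 : G) * y * (1 : G)⁻¹ * y⁻¹, hu⟩ : ↥(X (r + r'))) else 1 : ↥(X (r + r'))) : G)
    have e2 : (1 : G) * y * (1 : G)⁻¹ * y⁻¹ = 1 := by group
    rw [dif_pos (by rw [e1]; exact one_mem _), dif_pos (by rw [e2]; exact one_mem _)]
    exact e1.trans e2.symm
  exact congrArg Subtype.val (hinj h1)

/-- the pairing `W r × X r'`, `(r, r') = -1`, is nondegenerate -/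
theorem Wnd [Finite G] (D : Base t K B Φ X W ρ P Q) {r r' : L} (hr : r ∈ Φ) (hr' : r' ∈ Φ) (h : B r r' = -1)
    {x y : G} (hx : x ∈ W r) (hy : y ∈ X r') (hy1 : y ≠ 1) (hxy : x * y = y * x) : x = 1 := by
  have hyt := D.Xt hr' hy
  have h1 : (t * x * t) * y = y * (t * x * t) := by
    calc (t * x * t) * y = t * x * (t * y) := by group
      _ = t * (x * y) * t := by rw [← hyt]; group
      _ = (t * y) * x * t := by rw [hxy]; group
      _ = y * (t * x * t) := by rw [← hyt]; group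
  have h2 : (x⁻¹ * (t * x * t)) * y = y * (x⁻¹ * (t * x * t)) :=
    (Commute.mul_left (Commute.inv_left (show Commute x y from hxy)) (show Commute (t * x * t) y from h1)).eq
  have h3 := D.Xnd hr hr' h (D.dbl.brk r hr x hx) hy hy1 h2
  have h4 : x ∈ X r := by
    refine (D.dbl.cent r hr x hx).1 ?_
    have h5 : t * x * t = x := by
      rw [inv_mul_eq_one] at h3
      exact h3.symm
    calc t * x = (t * x * t) * t := by rw [mul_assoc (t * x) t t, D.tt, mul_one]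
      _ = x * t := by rw [h5]
  exact D.Xnd hr hr' h h4 hy hy1 hxy

/-- the doubled group `Q**` -/
abbrev DD (B : L → L → ℤ) (Φ : Set L) (W : L → Subgroup G) (ρ : L) (P : Subgroup G) : Subgroup G :=
  Fam.D (W ρ) (fun i : Ind (G := G) B Φ ρ P => AA W i)

theorem le_DD {r : L} (hr : r ∈ Φ) (h : B r ρ = 1) {p : G} (hp : p ∈ P) {w : G} (hw : w ∈ W r) :
    p * w * p⁻¹ ∈ DD B Φ W ρ P :=
  Fam.WA_le (W := W ρ) (WA := fun i : Ind (G := G) B Φ ρ P => AA W i) ⟨(p, r), hp, hr, h⟩ ⟨w, hw, rfl⟩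

theorem W_le_DD {r : L} (hr : r ∈ Φ) (h : B r ρ = 1) : W r ≤ DD B Φ W ρ P := by
  intro w hw
  have := le_DD (P := P) (W := W) hr h (one_mem P) hw
  rwa [one_mul, inv_one, mul_one] at this

theorem V_le_DD : W ρ ≤ DD B Φ W ρ P := Fam.W_le

/-- `DD` is generated by `W ρ` and the conjugates of `W s` under `P` -/
theorem DD_le (D : Base t K B Φ X W ρ P Q) (T : Tor K B Φ X ρ P s TA) {M : Subgroup G} (h1 : W ρ ≤ M)
    (h2 : ∀ p ∈ P, ∀ w ∈ W s, p * w * p⁻¹ ∈ M) : DD B Φ W ρ P ≤ M := by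
  refine sup_le h1 (iSup_le ?_)
  rintro ⟨⟨p, r⟩, hp, hr, hrρ⟩ _ ⟨w, hw, rfl⟩
  obtain ⟨q, hq, hc⟩ := T.tr r hr hrρ
  have hcW := D.Wcan s T.hs r hr q (D.PK hq) hc
  have h3 := hcW.inv.le hw
  have h4 := h2 (p * q) (mul_mem hp hq) _ h3
  have e : p * q * (q⁻¹ * w * q⁻¹⁻¹) * (p * q)⁻¹ = p * w * p⁻¹ := by group
  rw [e] at h4
  exact h4

/-- the `dec` property: the subgroup of the `y` such that some `y' ∈ W (ρ - s)` has the same commutators with `W s` -/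
theorem dec [Finite G] (D : Base t K B Φ X W ρ P Q) (T : Tor K B Φ X ρ P s TA) {z : G} (hz : z ∈ X ρ) :
    ∀ y ∈ DD B Φ W ρ P, ∃ y' ∈ W (ρ - s), ∀ x ∈ W s, ⁅x, y⁆ = ⁅x, y'⁆ := by
  have S := D.fam (z := z) hz
  obtain ⟨ha, hB, haρ, hsum⟩ := D.sub_mem' T.hs T.hsρ
  have hsD : W s ≤ DD B Φ W ρ P := W_le_DD T.hs T.hsρ
  have haD : W (ρ - s) ≤ DD B Φ W ρ P := W_le_DD ha haρ
  have hcen : ∀ v ∈ W ρ, ∀ x ∈ DD B Φ W ρ P, v * x = x * v := S.W_central
  have hcom : ∀ x ∈ DD B Φ W ρ P, ∀ y ∈ DD B Φ W ρ P, ⁅x, y⁆ ∈ W ρ := S.comm_mem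
  have hmul : ∀ x ∈ DD B Φ W ρ P, ∀ y ∈ DD B Φ W ρ P, ∀ y' ∈ DD B Φ W ρ P, ⁅x, y * y'⁆ = ⁅x, y⁆ * ⁅x, y'⁆ := by
    intro x hx y hy y' hy'
    have h1 := hcen _ (hcom x hx y' hy') y hy
    calc ⁅x, y * y'⁆ = ⁅x, y⁆ * (y * ⁅x, y'⁆ * y⁻¹) := by simp only [commutatorElement_def]; group
      _ = ⁅x, y⁆ * (⁅x, y'⁆ * y * y⁻¹) := by rw [h1]
      _ = ⁅x, y⁆ * ⁅x, y'⁆ := by rw [mul_assoc ⁅x, y'⁆, mul_inv_cancel, mul_one]
  let M : Subgroup G :=
    { carrier := {y | y ∈ DD B Φ W ρ P ∧ ∃ y' ∈ W (ρ - s), ∀ x ∈ W s, ⁅x, y⁆ = ⁅x, y'⁆}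
      one_mem' := ⟨one_mem _, 1, one_mem _, fun _ _ => rfl⟩
      mul_mem' := by
        rintro a b ⟨ha1, a', ha', h1⟩ ⟨hb1, b', hb', h2⟩
        refine ⟨mul_mem ha1 hb1, a' * b', mul_mem ha' hb', fun x hx => ?_⟩
        rw [hmul x (hsD hx) a ha1 b hb1, hmul x (hsD hx) a' (haD ha') b' (haD hb'), h1 x hx, h2 x hx]
      inv_mem' := by
        rintro a ⟨ha1, a', ha', h1⟩
        refine ⟨inv_mem ha1, a'⁻¹, inv_mem ha', fun x hx => ?_⟩
        have e1 := hmul x (hsD hx) a ha1 a⁻¹ (inv_mem ha1)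
        have e2 := hmul x (hsD hx) a' (haD ha') a'⁻¹ (inv_mem (haD ha'))
        rw [mul_inv_cancel, commutatorElement_one_right] at e1 e2
        rw [h1 x hx] at e1
        exact mul_left_cancel (e1.symm.trans e2) }
  have hM : DD B Φ W ρ P ≤ M := by
    refine D.DD_le T ?_ ?_
    · intro v hv
      refine ⟨V_le_DD hv, 1, one_mem _, fun x hx => ?_⟩
      rw [commutatorElement_one_right, commutatorElement_eq_one_iff_mul_comm]
      exact (hcen v hv x (hsD hx)).symm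
    · intro p hp w hw
      have hpw : p * w * p⁻¹ ∈ DD B Φ W ρ P := le_DD T.hs T.hsρ hp hw
      refine ⟨hpw, ?_⟩
      rcases T.opp p hp with h1 | ⟨u, hu, hux, huc⟩
      · refine ⟨1, one_mem _, fun x hx => ?_⟩
        rw [commutatorElement_one_right, commutatorElement_eq_one_iff_mul_comm]
        obtain ⟨k, hk, r₁, hr₁, r₂, hr₂, hr, c₁, c₂⟩ := D.pair 1 (one_mem _) p hp s T.hs s T.hs T.hsρ T.hsρ
        rw [mul_one] at c₁
        have d₁ := D.Wcan s T.hs r₁ hr₁ k hk c₁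
        have d₂ := D.Wcan s T.hs r₂ hr₂ (k * p) (mul_mem hk (D.PK hp)) c₂
        have h0 : 0 ≤ B r₁ r₂ := by
          by_contra hlt
          have hB1 : B r₁ r₂ = -1 := by omega
          obtain ⟨y, hy, hy1⟩ := D.exists_ne hr₂
          obtain ⟨x₁, hx₁, hx₁1⟩ := D.exists_ne hr₁
          apply hx₁1
          refine D.Xnd hr₁ hr₂ hB1 hx₁ hy hy1 ?_
          have f₁ := c₁.inv.le hx₁
          have f₂ := c₂.inv.le hy
          have g := h1 _ f₁ _ f₂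
          have e₁ : k⁻¹ * x₁ * k⁻¹⁻¹ * (p * ((k * p)⁻¹ * y * (k * p)⁻¹⁻¹) * p⁻¹) = k⁻¹ * (x₁ * y) * k := by group
          have e₂ : p * ((k * p)⁻¹ * y * (k * p)⁻¹⁻¹) * p⁻¹ * (k⁻¹ * x₁ * k⁻¹⁻¹) = k⁻¹ * (y * x₁) * k := by group
          rw [e₁, e₂] at g
          exact mul_left_cancel (mul_right_cancel g)
        have g₁ := d₁.le hx
        have g₂ := d₂.le hw
        have g := D.dbl.pos r₁ hr₁ r₂ hr₂ h0 _ g₁ _ g₂
        have e₁ : k * x * k⁻¹ * (k * p * w * (k * p)⁻¹) = k * (x * (p * w * p⁻¹)) * k⁻¹ := by group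
        have e₂ : k * p * w * (k * p)⁻¹ * (k * x * k⁻¹) = k * (p * w * p⁻¹ * x) * k⁻¹ := by group
        rw [e₁, e₂] at g
        exact mul_left_cancel (mul_right_cancel g)
      · have hcW := D.Wcan s T.hs _ ha (u⁻¹ * p) (mul_mem (inv_mem (D.PK hu)) (D.PK hp)) huc
        have hy' := hcW.le hw
        refine ⟨_, hy', fun x hx => ?_⟩
        have h2 := D.W_cent T T.hs (D.PK hu) hux hx
        have h3 : u⁻¹ * x * u = x := by
          calc u⁻¹ * x * u = u⁻¹ * (x * u) := by group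
            _ = u⁻¹ * (u * x) := by rw [h2]
            _ = x := by group
        have hv := hcom x (hsD hx) _ hpw
        have h4 : u⁻¹ * ⁅x, p * w * p⁻¹⁆ * u = ⁅x, p * w * p⁻¹⁆ := by
          have := D.WP _ hv u hu
          calc u⁻¹ * ⁅x, p * w * p⁻¹⁆ * u = u⁻¹ * (⁅x, p * w * p⁻¹⁆ * u) := by group
            _ = u⁻¹ * (u * ⁅x, p * w * p⁻¹⁆) := by rw [this]
            _ = _ := by group
        calc ⁅x, p * w * p⁻¹⁆ = u⁻¹ * ⁅x, p * w * p⁻¹⁆ * u := h4.symm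
          _ = ⁅u⁻¹ * x * u, u⁻¹ * p * w * (u⁻¹ * p)⁻¹⁆ := by simp only [commutatorElement_def]; group
          _ = ⁅x, u⁻¹ * p * w * (u⁻¹ * p)⁻¹⁆ := by rw [h3]
  intro y hy
  exact (hM hy).2

/-- elements swapping `X s` and `X (ρ - s)` swap `W s` and `W (ρ - s)` -/
theorem swW (D : Base t K B Φ X W ρ P Q) (T : Tor K B Φ X ρ P s TA) :
    ∃ n ∈ P, Cj n (W s) (W (ρ - s)) ∧ Cj n (W (ρ - s)) (W s) := by
  obtain ⟨ha, -, -, -⟩ := D.sub_mem' T.hs T.hsρ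
  obtain ⟨n, hn, h1, h2⟩ := T.sw
  exact ⟨n, hn, D.Wcan _ T.hs _ ha n (D.PK hn) h1, D.Wcan _ ha _ T.hs n (D.PK hn) h2⟩

/-- **the input of the ring** -/
theorem inp [Finite G] (D : Base t K B Φ X W ρ P Q) (T : Tor K B Φ X ρ P s TA) {z : G} (hz : z ∈ X ρ)
    (hz1 : z ≠ 1) (hPD : ∀ p ∈ P, ∀ x ∈ DD B Φ W ρ P, p * x * p⁻¹ ∈ DD B Φ W ρ P) :
    ∃ x1 y1 : G, Inp (DD B Φ W ρ P) (W ρ) (W s) (W (ρ - s)) P TA t z x1 y1 := by
  have S := D.fam (z := z) hz
  obtain ⟨ha, hB, haρ, hsum⟩ := D.sub_mem' T.hs T.hsρ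
  have hB' : B (ρ - s) s = -1 := by rw [D.roots.symm]; exact hB
  have hsum' : (ρ - s) + s = ρ := by rw [add_comm]; exact hsum
  have hsD : W s ≤ DD B Φ W ρ P := W_le_DD T.hs T.hsρ
  have haD : W (ρ - s) ≤ DD B Φ W ρ P := W_le_DD ha haρ
  have hcen : ∀ v ∈ W ρ, ∀ x ∈ DD B Φ W ρ P, v * x = x * v := S.W_central
  have hcom : ∀ x ∈ DD B Φ W ρ P, ∀ y ∈ DD B Φ W ρ P, ⁅x, y⁆ ∈ W ρ := S.comm_mem
  obtain ⟨y1, hy1, hy11⟩ := D.exists_ne ha
  obtain ⟨x1, hx1, hxy⟩ := D.Xsurj s T.hs _ ha hB y1 hy1 hy11 z (by rw [hsum]; exact hz)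
  have hx11 : x1 ≠ 1 := by
    rintro rfl
    apply hz1
    rw [← hxy]; group
  have hinv : ∀ v ∈ W ρ, v⁻¹ = v := fun v hv => inv_eq_of_mul_eq_one_left (D.dbl.sq ρ D.hρ v hv)
  have hmulr : ∀ x ∈ DD B Φ W ρ P, ∀ x' ∈ DD B Φ W ρ P, ∀ y ∈ DD B Φ W ρ P, ⁅x * x', y⁆ = ⁅x, y⁆ * ⁅x', y⁆ := by
    intro x hx x' hx' y hy
    have h1 := hcen _ (hcom x' hx' y hy) x hx
    have h2 := hcen _ (hcom x' hx' y hy) _ (V_le_DD (P := P) (B := B) (Φ := Φ) (hcom x hx y hy))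
    calc ⁅x * x', y⁆ = (x * ⁅x', y⁆ * x⁻¹) * ⁅x, y⁆ := by simp only [commutatorElement_def]; group
      _ = (⁅x', y⁆ * x * x⁻¹) * ⁅x, y⁆ := by rw [h1]
      _ = ⁅x', y⁆ * ⁅x, y⁆ := by rw [mul_assoc ⁅x', y⁆, mul_inv_cancel, mul_one]
      _ = ⁅x, y⁆ * ⁅x', y⁆ := h2
  -- `W (r) → W ρ`, `x ↦ [x, y]`
  have onto : ∀ r ∈ Φ, ∀ r' ∈ Φ, B r r' = -1 → r + r' = ρ → B r ρ = 1 → B r' ρ = 1 → ∀ y ∈ X r', y ≠ 1 →
      ∀ v ∈ W ρ, ∃ x ∈ W r, ⁅x, y⁆ = v := by
    intro r hr r' hr' hrr hrρ h1 h2 y hy hy' v hv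
    have hv' : v ∈ W (r + r') := by rw [hrρ]; exact hv
    obtain ⟨w, hw, x0, hx0, e⟩ := D.lift hr hr' hrr hy hy' hv'
    obtain ⟨u, hu, e'⟩ := D.Xsurj r hr r' hr' hrr y hy hy' x0 hx0
    have huW := D.dbl.XW r hr hu
    have hyD : y ∈ DD B Φ W ρ P := W_le_DD hr' h2 (D.dbl.XW r' hr' hy)
    refine ⟨u * w, mul_mem huW hw, ?_⟩
    rw [hmulr u (W_le_DD hr h1 huW) w (W_le_DD hr h1 hw) y hyD, e, ← e', commutatorElement_def,
      commutatorElement_def]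
  have hdec := D.dec T hz
  obtain ⟨n, hn, hn1, hn2⟩ := D.swW T
  refine ⟨x1, y1, ?_⟩
  exact
    { tt := D.tt
      V_le := V_le_DD
      V_sq := D.dbl.sq ρ D.hρ
      V_cent := hcen
      comm := hcom
      V_t := D.dbl.conj_t ρ D.hρ
      z_mem := D.dbl.XW ρ D.hρ hz
      z_ne := hz1
      A_le := hsD
      B_le := haD
      A_t := D.dbl.conj_t s T.hs
      B_t := D.dbl.conj_t _ ha
      x1A := D.dbl.XW s T.hs hx1
      y1B := D.dbl.XW _ ha hy1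
      x1t := D.Xt T.hs hx1
      y1t := D.Xt ha hy1
      xy := by rw [commutatorElement_def]; exact hxy
      onA := onto s T.hs _ ha hB hsum T.hsρ haρ y1 hy1 hy11
      onB := by
        intro v hv
        obtain ⟨x, hx, e⟩ := onto _ ha s T.hs hB' hsum' haρ T.hsρ x1 hx1 hx11 v hv
        refine ⟨x, hx, ?_⟩
        rw [← commutatorElement_inv, e]
        exact hinv v hv
      injA := by
        intro x hx e y _
        rw [commutatorElement_eq_one_iff_mul_comm] at e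
        have := D.Wnd T.hs ha hB hx hy1 hy11 e
        rw [this, commutatorElement_one_left]
      injB := by
        intro y hy e x _
        rw [commutatorElement_eq_one_iff_mul_comm] at e
        have := D.Wnd ha T.hs hB' hy hx1 hx11 e.symm
        rw [this, commutatorElement_one_right]
      TA_t := fun h hh => D.Kt h (T.TAK hh)
      TA_A := fun h hh x hx => (D.Wcan s T.hs s T.hs h (T.TAK hh) (T.TAs h hh)).le hx
      TA_B := fun h hh y hy => D.W_cent T ha (T.TAK hh) (T.TAa h hh) hy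
      TA_V := fun h hh v hv => (D.Wcan ρ D.hρ ρ D.hρ h (T.TAK hh) (T.TAρ h hh)).le hv
      TB := by
        intro h hh
        refine ⟨n * h * n⁻¹, ?_, ?_, ?_⟩
        · intro x hx
          have h1 := hn2.inv.le hx
          rw [inv_inv] at h1
          have h2 := D.W_cent T ha (T.TAK hh) (T.TAa h hh) h1
          calc n * h * n⁻¹ * x = n * (h * (n⁻¹ * x * n)) * n⁻¹ := by group
            _ = n * ((n⁻¹ * x * n) * h) * n⁻¹ := by rw [h2]
            _ = x * (n * h * n⁻¹) := by group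
        · intro y hy
          have h1 := hn1.inv.le hy
          rw [inv_inv] at h1
          have h2 := (D.Wcan s T.hs s T.hs h (T.TAK hh) (T.TAs h hh)).le h1
          have h3 := hn1.le h2
          have e : n * (h * (n⁻¹ * y * n) * h⁻¹) * n⁻¹ = n * h * n⁻¹ * y * (n * h * n⁻¹)⁻¹ := by group
          rwa [e] at h3
        · intro v hv
          have h1 : v * n = n * v := D.WP v hv n hn
          have h2 := (D.Wcan ρ D.hρ ρ D.hρ h (T.TAK hh) (T.TAρ h hh)).le hv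
          have h3 : (h * v * h⁻¹) * n = n * (h * v * h⁻¹) := D.WP _ h2 n hn
          calc n * h * n⁻¹ * v * (n * h * n⁻¹)⁻¹ = n * h * n⁻¹ * (v * n) * h⁻¹ * n⁻¹ := by group
            _ = n * h * n⁻¹ * (n * v) * h⁻¹ * n⁻¹ := by rw [h1]
            _ = (n * (h * v * h⁻¹)) * n⁻¹ := by group
            _ = ((h * v * h⁻¹) * n) * n⁻¹ := by rw [h3]
            _ = h * v * h⁻¹ := by group
      trans := by
        intro v hv hvt hv1
        exact T.trans z hz hz1 v ((D.dbl.cent ρ D.hρ v hv).1 hvt.symm) hv1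
      theta := by
        obtain ⟨w, hw, e⟩ := D.dbl.surj ρ D.hρ z hz
        exact ⟨w, hw, by rw [← e]; group⟩
      P_V := fun p hp v hv => (D.WP v hv p hp).symm
      P_D := hPD
      gen := by
        intro M _ hA _ hV hP
        exact D.DD_le T hV fun p hp w hw => hP p hp w (hA hw)
      dec := hdec
      dec' := by
        intro x hx
        obtain ⟨y', hy', e⟩ := hdec _ (hPD n hn x hx)
        have h1 := hn1.inv.le hy'
        rw [inv_inv] at h1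
        refine ⟨n⁻¹ * y' * n, h1, fun y hy => ?_⟩
        have h2 := e _ (hn2.le hy)
        have h3 : ⁅y, x⁆ = ⁅y, n⁻¹ * y' * n⁆ := by
          calc ⁅y, x⁆ = n⁻¹ * ⁅n * y * n⁻¹, n * x * n⁻¹⁆ * n := by simp only [commutatorElement_def]; group
            _ = n⁻¹ * ⁅n * y * n⁻¹, y'⁆ * n := by rw [h2]
            _ = _ := by simp only [commutatorElement_def]; group
        rw [← commutatorElement_inv x y] at h3
        rw [← commutatorElement_inv (n⁻¹ * y' * n) y] at h3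
        exact inv_injective h3 }

/-- **THEOREM H and the `T`-formula: contradiction** -/
theorem false_of [Finite G] (D : Base t K B Φ X W ρ P Q) (C : Ctx G)
    (hSch : Cfsg.Agent.Schreier.Cases.SchFor.{u} @IsKnownSimple') (hGW : SylowSp4.Hyps.GW.{u})
    (hI : Iface.Intr.{u}) (hIN : IntrNon.{u}) (hMV : MultV.{u}) (hNI : CaseM.NI.{u})
    (T : Tor K B Φ X ρ P s TA) (c : ∀ x ∈ X ρ, x ≠ 1 → Cen t x (X ρ) P Q) {z : G} (hz : z ∈ X ρ) (hz1 : z ≠ 1)
    (tform : ∀ ht : t ∈ centralizer ({z} : Set G),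
      (⟨t, ht⟩ : ↥(centralizer ({z} : Set G))) ∈ commutator ↥(centralizer ({z} : Set G))) : False := by
  have hno := D.no_comp C hSch hGW hI hIN hMV hNI hz hz1 c (fun x hx hx1 => by
    obtain ⟨h, -, e⟩ := T.trans z hz hz1 x hx hx1
    exact ⟨h, e⟩) tform
  have hzz : z * z = 1 := D.dbl.sq ρ D.hρ z (D.dbl.XW ρ D.hρ hz)
  have ho : orderOf z = 2 := orderOf_eq_prime (by rw [pow_two]; exact hzz) hz1
  obtain ⟨hD, hV⟩ := D.norm hz hz1 (c z hz hz1) (D8.MainE.core_eq_bot C ho) hno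
  obtain ⟨x1, y1, I⟩ := D.inp T hz hz1 fun p hp => hD p (D.P_le hz hp)
  have A : Inp.Act I (centralizer ({z} : Set G)) := ⟨hD, hV, fun g hg => mem_cent.1 hg⟩
  exact A.not_mem_commutator (mem_cent.2 (D.z_t hz).symm) (tform _)

end Base

end Cfsg.Agent.OddHalf.D7Tw
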