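import Mathlib

/-!
# Homomorphisms to abelian groups of `Type` detect the commutator subgroup of a finite group
-/

set_option autoImplicit false

namespace Cfsg.Agent.OddHalf.D7Tw

open Subgroup

universe u

/-- a copy of `Fin n` without algebraic structure -/
structure Box (n : ℕ) where
  /-- the element -/
  v : Fin n

theorem exists_type (A : Type u) [CommGroup A] [Finite A] : ∃ (B : Type) (_ : CommGroup B), Nonempty (A ≃* B) := by
  obtain ⟨n, ⟨e⟩⟩ := Finite.exists_equiv_fin A
  let e' : Box n ≃ A := (⟨Box.v, Box.mk, fun _ => rfl, fun _ => rfl⟩ : Box n ≃ Fin n).trans e.symm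
  let i : CommGroup (Box n) := e'.commGroup
  have hm : ∀ x y : Box n, x * y = e'.symm (e' x * e' y) := fun _ _ => rfl
  refine ⟨Box n, i, ⟨{ e'.symm with map_mul' := fun x y => ?_ }⟩⟩
  show e'.symm (x * y) = e'.symm x * e'.symm y
  rw [hm, Equiv.apply_symm_apply, Equiv.apply_symm_apply]

theorem mem_commutator_of_type {H : Type u} [Group H] [Finite H] {x : H}
    (h : ∀ {A : Type} [CommGroup A] (φ : H →* A), φ x = 1) : x ∈ commutator H := by
  obtain ⟨B, _, ⟨e⟩⟩ := exists_type (Abelianization H)
  have h1 := h (e.toMonoidHom.comp Abelianization.of)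
  have h2 : Abelianization.of x = 1 := by
    apply e.injective
    rw [map_one]
    exact h1
  rwa [← MonoidHom.mem_ker, Abelianization.ker_of] at h2

/-- the `T`-formula for `Type` gives `t ∈ C_G(z)'` -/
theorem tform_of {G : Type u} [Group G] [Finite G] {t z : G}
    (h : ∀ {A : Type} [CommGroup A] (φ : centralizer ({z} : Set G) →* A) (h : t ∈ centralizer ({z} : Set G)),
      φ ⟨t, h⟩ = 1) (ht : t ∈ centralizer ({z} : Set G)) :
    (⟨t, ht⟩ : ↥(centralizer ({z} : Set G))) ∈ commutator ↥(centralizer ({z} : Set G)) :=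
  mem_commutator_of_type fun φ => h φ ht

end Cfsg.Agent.OddHalf.D7Tw
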