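import Cfsg.Agent.OddHalf.D7Tw.BaseOf
import Cfsg.Agent.OddHalf.D7Tw.Ring
import Cfsg.Agent.KFacts.TwESix.Tor

/-!
# `K = ²E₆(q)`: the hypotheses `D7Tw.Tor` of THEOREM H (ODD D7, helper756)

`R : RGD` of `K = GG` in `G`, `ρ = e₁ + e₂`, `s = e₁ + e₃` (coordinates of `DFour`), `P = PP cs X`.

* `exists_rep_120` : the Weyl group is transitive on the ordered pairs of long roots at 120 degrees;
* `PP_tr`, `PP_sw` : the three long reflections orthogonal to `ρ`;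
* `PP_opp` : `C_P(X s)` is transitive on the long root groups in `Q` which do not commute with `X s`;
* **`tor`** : `D7Tw.Tor K B Φ (X ∘ c) ρ P s TA`, `TA = T ⊓ ⟨X β, X (-β)⟩`, `β = e₄ - e₁`.
-/

set_option autoImplicit false
set_option linter.unusedSectionVars false

namespace Cfsg.Agent.OddHalf.D7Tw.TorOf

open CoxeterSystem Cfsg.Agent.ChevalleyStructure.CoxeterGeom Cfsg.Agent.Tits.Roots Cfsg.Agent.Tits.Core
  Cfsg.Agent.Tits.RootComb Cfsg.Agent.Tits.Exchange Cfsg.Agent.Nodes.Reps Cfsg.Agent.Nodes.BNOf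
  Cfsg.Agent.Nodes.Coroot Cfsg.Agent.Nodes.LeviDec
  Cfsg.Agent.Nodes.Bruhat Cfsg.Agent.Nodes.OppDec Cfsg.Agent.Nodes.StabComb
  Cfsg.Agent.KFacts.RgdPar Cfsg.Agent.KFacts.RgdCent
  Cfsg.Agent.KFacts.RgdSL Cfsg.Agent.KFacts.RgdTI Cfsg.Agent.KFacts.RgdEx Cfsg.Agent.KFacts.RgdOdd
  Cfsg.Agent.Nodes.RGDTwE6 Cfsg.Agent.KFacts.TwESix.Comb Cfsg.Agent.KFacts.TwESix.Btw
  Cfsg.Agent.KFacts.TwESix.Pair Cfsg.Agent.KFacts.TwESix.Facts Cfsg.Agent.KFacts.TwESix.QRho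
  Cfsg.Agent.KFacts.TwESix.Faith Cfsg.Agent.KFacts.TwESix Cfsg.Agent.OddHalf.D7Tw
  Cfsg.Agent.OddHalf.D7Tw.BaseOf
open scoped commutatorElement

/-! ### Combinatorics -/

/-- `ρ` -/
def r0 : Fin 4 → ℤ := ![1, 1, 0, 0]

/-- `s` -/
def s1 : Fin 4 → ℤ := ![1, 0, 1, 0]

/-- the long roots orthogonal to `ρ` -/
def d1 : Fin 4 → ℤ := ![1, -1, 0, 0]

/-- the long roots orthogonal to `ρ` -/
def d2 : Fin 4 → ℤ := ![0, 0, 1, 1]

/-- the long roots orthogonal to `ρ` -/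
def d3 : Fin 4 → ℤ := ![0, 0, 1, -1]

/-- the root of the torus `TA` -/
def be : Fin 4 → ℤ := ![-1, 0, 0, 1]

theorem facts1 : r0 ∈ DFour.lg ∧ s1 ∈ DFour.lg ∧ r0 - s1 ∈ DFour.lg ∧ d1 ∈ DFour.lg ∧ d2 ∈ DFour.lg ∧
    d3 ∈ DFour.lg ∧ be ∈ DFour.lg ∧ DFour.B s1 r0 = 1 ∧ DFour.B (r0 - s1) r0 = 1 ∧ DFour.B s1 (r0 - s1) = -1 ∧
    DFour.B be r0 = -1 ∧ DFour.B (r0 - s1) be = 0 ∧ DFour.B d1 r0 = 0 ∧ DFour.B d2 r0 = 0 ∧ DFour.B d3 r0 = 0 ∧
    DFour.B (-d1) s1 = -1 ∧ -d1 ∈ DFour.lg ∧ DFour.B (-d1) r0 = 0 := by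
  decide +kernel

/-- reflection in `d` -/
def rf (d x : Fin 4 → ℤ) : Fin 4 → ℤ := x - DFour.B x d • d

theorem orbit8 : ∀ r ∈ DFour.lg, DFour.B r r0 = 1 → ∃ i < 2, ∃ j < 2, ∃ k < 2,
    r = (rf d1)^[i] ((rf d2)^[j] ((rf d3)^[k] s1)) := by
  decide +kernel

theorem swap8 : rf d1 (rf d2 (rf d3 s1)) = r0 - s1 ∧ rf d1 (rf d2 (rf d3 (r0 - s1))) = s1 := by
  decide +kernel

theorem rf_mem : ∀ x ∈ DFour.lg, rf d1 x ∈ DFour.lg ∧ rf d2 x ∈ DFour.lg ∧ rf d3 x ∈ DFour.lg := by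
  decide +kernel

section W

variable {W : Type*} [Group W] (cs : CoxeterSystem CoxeterMatrix.F₄ W)

/-- the lowest pair at 120 degrees -/
def low120 : (Fin 4 → ℤ) × (Fin 4 → ℤ) := CombRho.stp^[30] (![1, 0, 0, 0], ![0, 1, 0, 0])

set_option maxRecDepth 20000 in
theorem stp_120 : ∀ x ∈ rts, bf x x = 4 → ∀ y ∈ rts, bf y y = 4 → bf x y = -2 →
    CombRho.stp^[30] (x, y) = low120 := by
  decide +kernel

/-- `W` is transitive on the ordered pairs of long roots at 120 degrees. -/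
theorem exists_rep_120 {x y x' y' : Fin 4 → ℤ} (hx : IsRoot cs isCartan x) (hy : IsRoot cs isCartan y)
    (hxx : bf x x = 4) (hyy : bf y y = 4) (hxy : bf x y = -2) (hx' : IsRoot cs isCartan x')
    (hy' : IsRoot cs isCartan y') (hxx' : bf x' x' = 4) (hyy' : bf y' y' = 4) (hxy' : bf x' y' = -2) :
    ∃ w : W, rep cs isCartan w x = x' ∧ rep cs isCartan w y = y' := by
  obtain ⟨w, h1, h2⟩ := CombRho.exists_stp_iter cs 30 (x, y)
  obtain ⟨v, h3, h4⟩ := CombRho.exists_stp_iter cs 30 (x', y')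
  rw [stp_120 x ((mem_rts cs).1 hx) hxx y ((mem_rts cs).1 hy) hyy hxy] at h1 h2
  rw [stp_120 x' ((mem_rts cs).1 hx') hxx' y' ((mem_rts cs).1 hy') hyy' hxy'] at h3 h4
  refine ⟨v * w⁻¹, ?_, ?_⟩
  · rw [rep_mul_apply]
    have : rep cs isCartan w⁻¹ x = low120.1 := by
      have h5 : x = rep cs isCartan w low120.1 := h1.symm
      rw [h5, rep_inv_apply]
    rw [this]; exact h3
  · rw [rep_mul_apply]
    have : rep cs isCartan w⁻¹ y = low120.2 := by
      have h5 : y = rep cs isCartan w low120.2 := h2.symm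
      rw [h5, rep_inv_apply]
    rw [this]; exact h4

end W

variable {W G : Type*} [Group W] [Group G] {cs : CoxeterSystem CoxeterMatrix.F₄ W} {T : Subgroup G}
  {n : Fin 4 → G} {X : (Fin 4 → ℤ) → Subgroup G}

section KF

variable (R : RGD cs isCartan 2 T n X)

include R

/-- a representative of the reflection in `d` inside `⟨X d, X (-d)⟩` -/
theorem exists_refl {d : Fin 4 → ℤ} (hd : IsRoot cs isCartan d) : ∃ m ∈ X d ⊔ X (-d), ∀ y, IsRoot cs isCartan y →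
    cj m (X y) = X (y - cpr cs isCartan y d • d) := by
  have : Finite W := finiteW cs
  obtain ⟨u, hu, hu1⟩ := exists_ne_one R hd
  obtain ⟨w, hw, a, ha, b, hb, m, hm, he⟩ := exists_mu R hd hu hu1
  refine ⟨m, ?_, fun y hy => ?_⟩
  · rw [he]
    exact mul_mem (mul_mem (Subgroup.mem_sup_right ha) (Subgroup.mem_sup_left hu)) (Subgroup.mem_sup_right hb)
  · rw [R.conj_rp hm hy, hw]

/-- the reflection in a long root orthogonal to `ρ` has a representative in `P` -/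
theorem exists_rf {d : Fin 4 → ℤ} (hd : d ∈ DFour.lg) (h0 : DFour.B d r0 = 0) : ∃ m ∈ PP cs X,
    ∀ y ∈ DFour.lg, cj m (X (DFour.c y)) = X (DFour.c (rf d y)) := by
  have hr := DFour.root cs (x := d) hd
  obtain ⟨m, hm, e⟩ := exists_refl R hr
  have hc0 : (DFour.c d) 0 = 0 := by
    rw [c_zero]; exact h0
  refine ⟨m, (sup_le (le_PP hr (by rw [hc0])) (le_PP hr.neg ?_)) hm, fun y hy => ?_⟩
  · rw [Pi.neg_apply, hc0]; norm_num
  · rw [e _ (DFour.root cs hy), DFour.cpr_cc cs y hd]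
    congr 1
    unfold rf
    rw [map_sub, map_zsmul]

/-- iterates -/
theorem iter_rf {d : Fin 4 → ℤ} (hrf : ∀ y ∈ DFour.lg, rf d y ∈ DFour.lg) {m : G} (hm : m ∈ PP cs X)
    (e : ∀ y ∈ DFour.lg, cj m (X (DFour.c y)) = X (DFour.c (rf d y))) (i : ℕ) {x : Fin 4 → ℤ} (hx : x ∈ DFour.lg) :
    (rf d)^[i] x ∈ DFour.lg ∧ ∃ p ∈ PP cs X, cj p (X (DFour.c x)) = X (DFour.c ((rf d)^[i] x)) := by
  induction i with
  | zero => exact ⟨hx, 1, one_mem _, by rw [cj_one]; rfl⟩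
  | succ i ih =>
    obtain ⟨h1, p, hp, h2⟩ := ih
    rw [Function.iterate_succ_apply']
    exact ⟨hrf _ h1, m * p, mul_mem hm hp, by rw [cj_mul, h2, e _ h1]⟩

/-- **`P` is transitive on the long root groups `X r`, `(r, ρ) = 1`.** -/
theorem PP_tr {r : Fin 4 → ℤ} (hr : r ∈ DFour.lg) (h1 : DFour.B r r0 = 1) : ∃ p ∈ PP cs X,
    cj p (X (DFour.c s1)) = X (DFour.c r) := by
  obtain ⟨-, is1, -, i1, i2, i3, -, -, -, -, -, -, o1, o2, o3, -, -, -⟩ := facts1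
  obtain ⟨m1, hm1, e1⟩ := exists_rf R i1 o1
  obtain ⟨m2, hm2, e2⟩ := exists_rf R i2 o2
  obtain ⟨m3, hm3, e3⟩ := exists_rf R i3 o3
  obtain ⟨i, -, j, -, k, -, rfl⟩ := orbit8 r hr h1
  obtain ⟨g3, p3, hp3, f3⟩ := iter_rf R (fun y hy => (rf_mem y hy).2.2) hm3 e3 k is1
  obtain ⟨g2, p2, hp2, f2⟩ := iter_rf R (fun y hy => (rf_mem y hy).2.1) hm2 e2 j g3
  obtain ⟨g1, p1, hp1, f1⟩ := iter_rf R (fun y hy => (rf_mem y hy).1) hm1 e1 i g2
  exact ⟨p1 * (p2 * p3), mul_mem hp1 (mul_mem hp2 hp3), by rw [cj_mul, cj_mul, f3, f2, f1]⟩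

/-- **`-1`** -/
theorem PP_sw : ∃ m ∈ PP cs X, cj m (X (DFour.c s1)) = X (DFour.c (r0 - s1)) ∧
    cj m (X (DFour.c (r0 - s1))) = X (DFour.c s1) := by
  obtain ⟨-, is1, ir, i1, i2, i3, -, -, -, -, -, -, o1, o2, o3, -, -, -⟩ := facts1
  obtain ⟨m1, hm1, e1⟩ := exists_rf R i1 o1
  obtain ⟨m2, hm2, e2⟩ := exists_rf R i2 o2
  obtain ⟨m3, hm3, e3⟩ := exists_rf R i3 o3
  refine ⟨m1 * (m2 * m3), mul_mem hm1 (mul_mem hm2 hm3), ?_, ?_⟩
  · rw [cj_mul, cj_mul, e3 _ is1, e2 _ (rf_mem _ is1).2.2, e1 _ (rf_mem _ (rf_mem _ is1).2.2).2.1, swap8.1]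
  · rw [cj_mul, cj_mul, e3 _ ir, e2 _ (rf_mem _ ir).2.2, e1 _ (rf_mem _ (rf_mem _ ir).2.2).2.1, swap8.2]

end KF

section Opp

variable {R : RGD cs isCartan 2 T n X} (D : Dat R)

include D

/-- `C_T(x)` centralises `X b` -/
theorem tor_cent (hT : ∀ a ∈ T, ∀ b ∈ T, a * b = b * a) {b : Fin 4 → ℤ} (hb : IsRoot cs isCartan b) {t x : G}
    (ht : t ∈ T) (hx : x ∈ X b) (hx1 : x ≠ 1) (htx : t * x = x * t) : ∀ v ∈ X b, t * v = v * t := by
  intro v hv
  by_cases hv1 : v = 1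
  · rw [hv1, mul_one, one_mul]
  obtain ⟨k, hk, e⟩ := exists_tor R hb hx hx1 hv hv1
  have h1 := hT t ht k hk
  have h2 : t * x * t⁻¹ = x := by rw [htx]; group
  have h3 : t * v * t⁻¹ = v := by
    calc t * v * t⁻¹ = t * (k * x * k⁻¹) * t⁻¹ := by rw [e]
      _ = (t * k) * x * (t * k)⁻¹ := by group
      _ = k * (t * x * t⁻¹) * k⁻¹ := by rw [h1]; group
      _ = v := by rw [h2, e]
  calc t * v = t * v * t⁻¹ * t := by group
    _ = v * t := by rw [h3]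

/-- **`C_P(X s)` is transitive on the long root groups in `Q` which do not commute with `X s`.** -/
theorem PP_opp [Finite G] (hT : ∀ a ∈ T, ∀ b ∈ T, a * b = b * a) {p : G} (hp : p ∈ PP cs X) :
    (∀ x ∈ X (DFour.c s1), ∀ y ∈ X (DFour.c s1), x * (p * y * p⁻¹) = p * y * p⁻¹ * x) ∨
    ∃ u ∈ PP cs X, (∀ x ∈ X (DFour.c s1), u * x = x * u) ∧
      cj (u⁻¹ * p) (X (DFour.c s1)) = X (DFour.c (r0 - s1)) := by
  have : Finite W := finiteW cs
  obtain ⟨-, is1, ir, -, -, -, -, b1, b2, b3, -, -, -, -, -, b4, i4, o4⟩ := facts1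
  have hrr := rho_root cs
  have hcr : DFour.c r0 = rho := DFour.c_rho
  have hs := DFour.root cs is1
  have hsl := DFour.long is1
  have hs' := DFour.root cs ir
  have hsl' := DFour.long ir
  have hQn : ∀ p ∈ PP cs X, ∀ y ∈ QQ cs X, p * y * p⁻¹ ∈ QQ cs X := fun p hp y hy =>
    (Subgroup.mem_normalizer_iff.1 (PP_normalizer R hp) y).1 hy
  -- `X s = m (X ρ) m⁻¹`
  obtain ⟨w0, hw0⟩ : ∃ w : W, rep cs isCartan w rho = DFour.c s1 := by
    obtain ⟨w, hw⟩ := exists_rep_long cs hs hsl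
    obtain ⟨v, hv⟩ := exists_rep_long cs hrr rho_long
    refine ⟨w * v⁻¹, ?_⟩
    rw [rep_mul_apply, ← hv, rep_inv_apply, hw]
  obtain ⟨m, hm⟩ := exists_rp cs R.nsys w0
  have hmG := NN_le_GG R ⟨w0, hm⟩
  have em : cj m (X rho) = X (DFour.c s1) := by rw [R.conj_rp hm hrr, hw0]
  have hsQ : X (DFour.c s1) ≤ QQ cs X := le_QQ hs (by rw [c_zero]; exact b1.ge)
  have hpsQ : cj p (X (DFour.c s1)) ≤ QQ cs X := by
    intro x hx
    rw [mem_cj] at hx
    have h3 := hQn p hp _ (hsQ hx)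
    have e : p * (p⁻¹ * x * p) * p⁻¹ = x := by group
    rwa [e] at h3
  obtain ⟨k, hk, r, hr, hrl, hr1, f1, f2⟩ := pair D hmG (mul_mem (PP_le_GG hp) hmG) (by rw [em]; exact hsQ) (by
    rw [cj_mul, em]; exact hpsQ)
  rw [em] at f1
  rw [cj_mul, em] at f2
  by_cases h0 : 0 ≤ r 0
  · -- they commute
    left
    intro x hx y hy
    have h1 : k⁻¹ * x * k ∈ X rho := by
      rw [f1, mem_cj] at hx; exact hx
    have h2 : k⁻¹ * (p * y * p⁻¹) * k ∈ X r := by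
      have : p * y * p⁻¹ ∈ cj p (X (DFour.c s1)) := conj_mem_cj.2 hy
      rw [f2, mem_cj] at this; exact this
    have h3 : k⁻¹ * (p * y * p⁻¹) * k * (k⁻¹ * x * k) = k⁻¹ * x * k * (k⁻¹ * (p * y * p⁻¹) * k) :=
      comm_long D hr hrr rho_long (by rw [bf_rho]; omega) h2 h1
    calc x * (p * y * p⁻¹) = k * (k⁻¹ * x * k * (k⁻¹ * (p * y * p⁻¹) * k)) * k⁻¹ := by group
      _ = k * (k⁻¹ * (p * y * p⁻¹) * k * (k⁻¹ * x * k)) * k⁻¹ := by rw [h3]
      _ = _ := by group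
  · right
    have hr0 : r 0 = -1 := by omega
    have hA : A2 cs isCartan rho r := a2 cs hrr hr (by rw [rho_long, hrl]) (by
      rw [bf_comm, bf_rho, hr0, rho_long]; norm_num)
    -- `k X (ρ + r) k⁻¹ = X ρ`
    have e1 : cj k (X (rho + r)) = X rho := by
      obtain ⟨x, hx, hx1⟩ := exists_ne_one R hrr
      obtain ⟨y, hy, hy1⟩ := exists_ne_one R hr
      have h1 := hA.comm_mem R hx hy
      have h2 := hA.comm_ne_one R hx hx1 hy hy1
      have h3 : k * ⁅x, y⁆ * k⁻¹ ∈ X rho := by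
        have h4 : k * ⁅x, y⁆ * k⁻¹ = ⁅k * x * k⁻¹, k * y * k⁻¹⁆ := by
          rw [commutatorElement_def, commutatorElement_def]; group
        rw [h4]
        refine Irr.comm_QQ R D.lr (hsQ ?_) (hpsQ ?_)
        · rw [f1]; exact conj_mem_cj.2 hx
        · rw [f2]; exact conj_mem_cj.2 hy
      have hrl' : bf (rho + r) (rho + r) = 4 := by
        have h6 : bf r rho = -2 := by rw [bf_rho, hr0]; norm_num
        rw [bf_add_left, bf_add_right, bf_add_right, bf_comm rho r, h6, rho_long, hrl]; norm_num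
      obtain ⟨w, hw⟩ : ∃ w : W, rep cs isCartan w (rho + r) = rho := by
        obtain ⟨w, hw⟩ := exists_rep_long cs hrr rho_long
        obtain ⟨v, hv⟩ := exists_rep_long cs hA.rxy hrl'
        refine ⟨w * v⁻¹, ?_⟩
        rw [rep_mul_apply, ← hv, rep_inv_apply, hw]
      have h5 := (D.lr _ hA.rxy hrl').ti (w := w) hk h1 h2 (by rw [hw]; exact h3)
      rwa [hw] at h5
    -- move `(ρ, r)` to `(s, ρ - s)`
    obtain ⟨w, hw1, hw2⟩ := exists_rep_120 cs hrr hr rho_long hrl (by rw [bf_comm, bf_rho, hr0]; norm_num) hs hs'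
      hsl hsl' (by rw [DFour.bf_c, b3]; norm_num)
    obtain ⟨l, hl⟩ := exists_rp cs R.nsys w
    have hlG := NN_le_GG R ⟨w, hl⟩
    have g1 : cj l (X rho) = X (DFour.c s1) := by rw [R.conj_rp hl hrr, hw1]
    have g2 : cj l (X r) = X (DFour.c (r0 - s1)) := by rw [R.conj_rp hl hr, hw2]
    have g3 : cj l (X (rho + r)) = X rho := by
      rw [R.conj_rp hl hA.rxy, map_add, hw1, hw2, ← map_add, ← hcr]
      congr 2
      abel
    have k1 : cj (k * l⁻¹) (X (DFour.c s1)) = X (DFour.c s1) := by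
      rw [cj_mul, ← g1, cj_inv_cj, ← f1, g1]
    have k2 : cj (k * l⁻¹) (X (DFour.c (r0 - s1))) = cj p (X (DFour.c s1)) := by
      rw [cj_mul, ← g2, cj_inv_cj, ← f2]
    have k3 : cj (k * l⁻¹) (X rho) = X rho := by
      rw [cj_mul]
      conv_lhs => rw [← g3]
      rw [cj_inv_cj, e1]
    -- `k l⁻¹ = u t`
    have hkl : k * l⁻¹ ∈ PS T X (Ge cs isCartan rho) := by
      rw [← (D.lr rho hrr rho_long).normalizer]
      exact Subgroup.mem_inf.2 ⟨mem_normalizer_iff_cj.2 k3, mul_mem hk (inv_mem hlG)⟩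
    have hTn : T ≤ Subgroup.normalizer (RGD.Sup X (Ge cs isCartan rho) : Set G) :=
      R.T_le_normalizer fun x hx => hx.1
    obtain ⟨t, ht, u', hu', e2⟩ : ∃ t ∈ T, ∃ u ∈ PP cs X, k * l⁻¹ = t * u := by
      have h2 : k * l⁻¹ ∈ ((PS T X (Ge cs isCartan rho) : Subgroup G) : Set G) := hkl
      unfold PS at h2
      rw [Subgroup.coe_mul_of_left_le_normalizer_right _ _ hTn, Set.mem_mul] at h2
      obtain ⟨t, ht, q, hq, e⟩ := h2
      exact ⟨t, ht, q, hq, e.symm⟩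
    set u := t * u' * t⁻¹ with hu
    have huP : u ∈ PP cs X := (Subgroup.mem_normalizer_iff.1 (hTn ht) u').1 hu'
    have e3 : k * l⁻¹ = u * t := by rw [e2, hu]; group
    have u1 : cj u (X (DFour.c s1)) = X (DFour.c s1) := by
      have h1 := k1
      rw [e3, cj_mul, R.tor _ hs t ht] at h1
      exact h1
    have u2 : cj u (X (DFour.c (r0 - s1))) = cj p (X (DFour.c s1)) := by
      have h1 := k2
      rw [e3, cj_mul, R.tor _ hs' t ht] at h1
      exact h1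
    -- make `u` centralise `X s`
    obtain ⟨x, hx, hx1⟩ := exists_ne_one R hs
    have hx' : u⁻¹ * x * u ∈ X (DFour.c s1) := by
      have : x ∈ cj u (X (DFour.c s1)) := by rw [u1]; exact hx
      rwa [mem_cj] at this
    have hx1' : u⁻¹ * x * u ≠ 1 := by
      intro h
      apply hx1
      calc x = u * (u⁻¹ * x * u) * u⁻¹ := by group
        _ = 1 := by rw [h]; group
    have hA2 : A2 cs isCartan (DFour.c (-d1)) (DFour.c s1) := DFour.a2_of cs i4 is1 b4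
    obtain ⟨h, hh, e4⟩ := hA2.tor_trans R hx hx1 hx' hx1'
    have hhP : h ∈ PP cs X := by
      have hc0 : (DFour.c (-d1)) 0 = 0 := by
        rw [c_zero]; exact o4
      have hrd := DFour.root cs i4
      refine (sup_le (le_PP hrd (by rw [hc0])) (le_PP hrd.neg ?_)) hh.2
      rw [Pi.neg_apply, hc0]; norm_num
    have hu0 : u * h ∈ PP cs X := mul_mem huP hhP
    refine ⟨u * h, hu0, ?_, ?_⟩
    · have h1 : (u * h) * x = x * (u * h) := by
        have h2 : (u * h) * x * (u * h)⁻¹ = x := by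
          calc (u * h) * x * (u * h)⁻¹ = u * (h * x * h⁻¹) * u⁻¹ := by group
            _ = x := by rw [e4]; group
        calc (u * h) * x = (u * h) * x * (u * h)⁻¹ * (u * h) := by group
          _ = x * (u * h) := by rw [h2]
      obtain ⟨c, hc, hcx, q, hq, e⟩ := ((D.lr _ hs hsl).mem_centralizer (PP_le_GG hu0) hx hx1).1 h1
      intro v hv
      rw [e, mul_assoc, (D.lr _ hs hsl).comm' hq hv, ← mul_assoc, tor_cent D hT hs hc hx hx1 hcx v hv, mul_assoc]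
    · rw [mul_inv_rev, mul_assoc, cj_mul, cj_mul, ← u2, cj_inv_cj, R.tor _ hs' _ (inv_mem hh.1)]

end Opp

/-- **The hypotheses `D7Tw.Tor`.** -/
theorem tor [Finite G] {R : RGD cs isCartan 2 T n X} (D : Dat R) (hT : ∀ a ∈ T, ∀ b ∈ T, a * b = b * a) :
    Tor (GG cs isCartan T X) DFour.B DFour.Phi (fun x => X (DFour.c x)) ![1, 1, 0, 0] (PP cs X) s1
      (T ⊓ (X (DFour.c be) ⊔ X (-DFour.c be))) := by
  have : Finite W := finiteW cs
  obtain ⟨ir0, is1, ir, -, -, -, ib, b1, b2, b3, b5, b6, -, -, -, b4, i4, o4⟩ := facts1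
  have hrr := rho_root cs
  have hcr : DFour.c r0 = rho := DFour.c_rho
  have hs := DFour.root cs is1
  have hs' := DFour.root cs ir
  have hb := DFour.root cs ib
  refine
    { hs := is1
      hsρ := b1
      trρ := ?_
      cen := ?_
      TAK := le_trans inf_le_left T_le_GG
      TAs := fun h hh => cj_iff.2 (R.tor _ hs h hh.1)
      TAρ := fun h hh => ?_
      TAa := ?_
      trans := ?_
      sw := ?_
      tr := ?_
      opp := ?_ }
  · -- trρ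
    intro r hr
    obtain ⟨w, hw⟩ : ∃ w : W, rep cs isCartan w rho = DFour.c r := by
      obtain ⟨w, hw⟩ := exists_rep_long cs (DFour.root cs hr) (DFour.long hr)
      obtain ⟨v, hv⟩ := exists_rep_long cs hrr rho_long
      refine ⟨w * v⁻¹, ?_⟩
      rw [rep_mul_apply, ← hv, rep_inv_apply, hw]
    obtain ⟨m, hm⟩ := exists_rp cs R.nsys w
    refine ⟨m, NN_le_GG R ⟨w, hm⟩, ?_⟩
    rw [cj_iff]
    show cj m (X (DFour.c r0)) = X (DFour.c r)
    rw [hcr, R.conj_rp hm hrr, hw]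
  · -- cen
    intro g hg h
    obtain ⟨x, hx, hx1⟩ := exists_ne_one R hrr
    have h1 : g * x = x * g := h x (by
      show x ∈ X (DFour.c r0)
      rw [hcr]; exact hx)
    obtain ⟨t, ht, -, q, hq, e⟩ := cent_z D hg hx hx1 h1
    refine ⟨t, T_le_GG ht, q, hq, e, ?_⟩
    have h3 : orderOf t ∣ Nat.card T := Subgroup.orderOf_dvd_natCard T ht
    exact Odd.of_dvd_nat (Nat.coprime_two_right.mp R.tcop) h3
  · -- TAρ
    rw [cj_iff]
    show cj h (X (DFour.c r0)) = X (DFour.c r0)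
    rw [hcr]
    exact R.tor _ hrr h hh.1
  · -- TAa
    intro h hh y hy
    exact Cfsg.Agent.KFacts.TwESix.Tor.orth_comm R D.lr hb (DFour.long ib) hs' (by rw [DFour.bf_c, b6]; norm_num) hh.2 hy
  · -- trans
    intro z hz hz1 v hv hv1
    exact (DFour.a2_of cs ib ir0 b5).tor_trans R hz hz1 hv hv1
  · -- sw
    obtain ⟨m, hm, e1, e2⟩ := PP_sw (cs := cs) R
    exact ⟨m, hm, cj_iff.2 e1, cj_iff.2 e2⟩
  · -- tr
    intro r hr h1
    obtain ⟨p, hp, e⟩ := PP_tr R hr h1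
    exact ⟨p, hp, cj_iff.2 e⟩
  · -- opp
    intro p hp
    rcases PP_opp D hT hp with h | ⟨u, hu, h1, h2⟩
    · exact Or.inl h
    · exact Or.inr ⟨u, hu, h1, cj_iff.2 h2⟩

end Cfsg.Agent.OddHalf.D7Tw.TorOf
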