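import Cfsg.Agent.OddHalf.D7Tw.Inst
import Cfsg.Agent.OddHalf.D7Tw.Pre
import Cfsg.Agent.OddHalf.D7Tw.BaseOf
import Cfsg.Agent.OddHalf.D7Tw.CenOf
import Cfsg.Agent.OddHalf.D7Tw.Ring
import Cfsg.Agent.OddHalf.D7Tw.Tform
import Cfsg.Agent.OddHalf.D7Tw.TorOf
import Cfsg.Agent.OddHalf.D7.Cases

/-!
# Node D7, row `²E₆(q)`, `q > 2` even (helper53)

* `k1`, `k2` : the centraliser hypotheses of `Pre.dbl` in `G`;
* `dbl` : the doubled long root groups;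
* `node_big` : no standard component `²E₆(q)`, `q > 2` even, with cyclic Sylow 2-subgroups of the centraliser.
-/

set_option autoImplicit false
set_option linter.unusedSectionVars false

namespace Cfsg.Agent.OddHalf.D7Tw.Node

open CoxeterSystem Cfsg.Agent.ChevalleyStructure.CoxeterGeom Cfsg.Agent.Tits.Roots Cfsg.Agent.Tits.Core
  Cfsg.Agent.Tits.RootComb Cfsg.Agent.Nodes.Reps Cfsg.Agent.Nodes.BNOf
  Cfsg.Agent.Nodes.Coroot Cfsg.Agent.Nodes.StabComb Cfsg.Agent.Nodes.LeviDec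
  Cfsg.Agent.Nodes.Bruhat Cfsg.Agent.Nodes.OppDec
  Cfsg.Agent.KFacts.RgdPar Cfsg.Agent.KFacts.RgdCent
  Cfsg.Agent.KFacts.RgdSL Cfsg.Agent.KFacts.RgdTI Cfsg.Agent.KFacts.RgdEx
  Cfsg.Agent.Nodes.RGDTwE6 Cfsg.Agent.KFacts.TwESix.Comb Cfsg.Agent.KFacts.TwESix.CombRho
  Cfsg.Agent.KFacts.TwESix.Facts Cfsg.Agent.KFacts.TwESix.QRho Cfsg.Agent.KFacts.TwESix.Faith
  Cfsg.Agent.OddHalf.SL.Defs
  Cfsg.Agent.OddHalf.D7Tw Cfsg.Agent.OddHalf.D7Tw.Orbit Cfsg.Agent.OddHalf.D7Tw.ExRho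
  Cfsg.Agent.OddHalf.D7Tw.Front Cfsg.Agent.OddHalf.D7Tw.Inst Cfsg.Agent.OddHalf.D7Tw.DFour
open Cfsg Cfsg.Lie Cfsg.Agent.OddHalf.Iface Cfsg.Agent.OddHalf.D7.Cases

section Over

variable {G : Type*} [Group G] {K : Subgroup G} {t : G}
variable {W Y : Type*} [Group W] [Group Y] {cs : CoxeterSystem CoxeterMatrix.F₄ W} {T₀ : Subgroup Y} {n : Fin 4 → Y}
  {X : (Fin 4 → ℤ) → Subgroup Y}

/-- an automorphism fixing the images of elements -/
theorem aut_eq (e : Y ≃* ↥K) {c : G} (hc : c ∈ Subgroup.normalizer (K : Set G)) {v : Y}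
    (h : c * emb e v = emb e v * c) : aut e hc v = v := by
  apply emb_injective e
  rw [emb_aut, h, mul_inv_cancel_right]

theorem k1 {R : RGD cs isCartan 2 T₀ n X} (D : Dat R) (e : Y ≃* ↥K) (S : Cfsg.Agent.OddHalf.Front.FE.Start K t t)
    (hN : NoCent cs isCartan T₀ X) (hG1 : RGD.Sup X {x | IsRoot cs isCartan x} = ⊤) : Pre.K1 cs (XG e X) t := by
  intro r hr hl k hkt hk
  have hkN := S.nK k hkt
  obtain ⟨z, hz, hα⟩ := Cfsg.Agent.KFacts.TwESix.Cent.aut_k1 D hr hl hN hG1 (α := aut e hkN)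
    fun a ha ha0 v hv => aut_eq e hkN (hk a ha ha0 _ ⟨v, hv, rfl⟩)
  refine ⟨emb e z, ⟨z, hz, rfl⟩, ?_⟩
  exact eq_or_of_aut e hkN hkt (fun k hk => (S.toStart0.Kt k hk).symm) (centK S) hα

theorem k2 {R : RGD cs isCartan 2 T₀ n X} (D : Dat R) (e : Y ≃* ↥K) (S : Cfsg.Agent.OddHalf.Front.FE.Start K t t)
    (hN : NoCent cs isCartan T₀ X) (hG1 : RGD.Sup X {x | IsRoot cs isCartan x} = ⊤) : Pre.K2 cs (XG e X) t := by
  intro r s hr hs hl hls hrs k hkt hk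
  have hkN := S.nK k hkt
  obtain ⟨x, hx, y, hy, hα⟩ := Cfsg.Agent.KFacts.TwESix.Cent.aut_k2 D hr hl hs hls hrs hN hG1 (α := aut e hkN)
    fun a ha ha0 v hv => aut_eq e hkN (hk a ha ha0 _ ⟨v, hv, rfl⟩)
  refine ⟨emb e x, ⟨x, hx, rfl⟩, emb e y, ⟨y, hy, rfl⟩, ?_⟩
  rw [← map_mul]
  exact eq_or_of_aut e hkN hkt (fun k hk => (S.toStart0.Kt k hk).symm) (centK S) hα

end Over

section Inst

variable {F : Type} [Field F] [Fintype F] {q : ℕ} {φ : F →+* F}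
variable {G : Type*} [Group G] {K : Subgroup G} {W : Type*} [Group W] {cs : CoxeterSystem CoxeterMatrix.F₄ W}
  {hφ : ∀ x, φ x = x ^ q} {hqq : ∀ t : F, (t ^ q) ^ q = t} {e : ↥(twistedE6 F q) ≃* ↥K} [CharP F 2] {t : G}
  {T : Subgroup G} {m z : G} {V : (Fin 4 → ℤ) → Subgroup G}

theorem noCent (hφ : ∀ x, φ x = x ^ q) (hqq : ∀ t : F, (t ^ q) ^ q = t) (hq : IsPrimePow q)
    (hF : Fintype.card F = q ^ 2) : NoCent cs isCartan (Cfsg.Agent.Nodes.RGDTwE6.T F q) (X φ q) := by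
  have : Finite W := finiteW cs
  obtain ⟨h1, h2⟩ := Cfsg.Agent.S1070.result (K := F) hq hF
  exact noCent_of_center (rgd cs hφ hqq 2) (G1_eq_top cs hφ hqq) (center_eq_bot h1 h2)

/-- **the doubled long root groups** -/
theorem dbl [Finite G] (A : All cs hφ hqq e t T m z V) (hq : IsPrimePow q) (hF : Fintype.card F = q ^ 2) :
    Dbl t B Phi (Long.XL (XG e (X φ q))) (Long.XL V) := by
  have hD : Dat (rgd cs hφ hqq 2) := Cfsg.Agent.KFacts.TwESix.Dat.dat cs hφ hqq hF hq.one_lt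
  have hNC := noCent (cs := cs) hφ hqq hq hF
  exact Pre.dbl A.kx.dat A.yo A.kx.tt (fun a ha x hx => A.kx.tX ha hx) (fun w k hk => A.kx.Kt k (A.kx.NK hk)) A.kx.tK
    (fun a ha => A.kx.XK ha) A.kx.three (k1 hD e A.start hNC (G1_eq_top cs hφ hqq))
    (k2 hD e A.start hNC (G1_eq_top cs hφ hqq))

theorem base [Finite G] (A : All cs hφ hqq e t T m z V) (hq : IsPrimePow q) (hF : Fintype.card F = q ^ 2) :
    Base t K B Phi (fun x => XG e (X φ q) (c x)) (fun x => V (c x)) ![1, 1, 0, 0]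
      (PP cs (XG e (X φ q))) (QQ cs (XG e (X φ q))) := by
  have h := BaseOf.base A.kx.dat A.nc (fun k hk => A.kx.Kt k (A.kx.gg ▸ hk)) (fun h => A.kx.tK (A.kx.gg ▸ h)) A.yo
    (dbl A hq hF)
  rwa [A.kx.gg] at h

theorem cen [Finite G] (A : All cs hφ hqq e t T m z V) (hq : IsPrimePow q) (hF : Fintype.card F = q ^ 2) {x : G}
    (hx : x ∈ XG e (X φ q) rho) (hx1 : x ≠ 1) :
    Cen t x (XG e (X φ q) rho) (PP cs (XG e (X φ q))) (QQ cs (XG e (X φ q))) := by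
  have hD : Dat (rgd cs hφ hqq 2) := Cfsg.Agent.KFacts.TwESix.Dat.dat cs hφ hqq hF hq.one_lt
  have hNC := noCent (cs := cs) hφ hqq hq hF
  exact CenOf.cen A.kx.dat A.kx.Tab A.kx.gg A.start ((Cfsg.Agent.Schreier.TwESix.sch hq hF).of_equiv e)
    (CenOf.autQ_of (fun α hα => Cfsg.Agent.KFacts.TwESix.Cent.aut_k1 hD (rho_root cs) rho_long hNC
      (G1_eq_top cs hφ hqq) hα) e A.start.nK) hx hx1

end Inst

universe u

/-- `²E₆(2^a)`, `a ≥ 2` -/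
def Big (X : Type u) [Group X] : Prop :=
  ∃ (F : Type) (_ : Field F) (_ : Fintype F) (a : ℕ), 2 ≤ a ∧ Fintype.card F = 4 ^ a ∧
    Nonempty (X ≃* ↥(Lie.twistedE6 F (2 ^ a)))

/-- the torus facts, for every root group datum of type `F₄` with `Dat` -/
def TorFact : Prop :=
  ∀ (G : Type u) [Group G] [Finite G] (W : Type) [Group W] (cs : CoxeterSystem CoxeterMatrix.F₄ W) (T : Subgroup G)
    (n : Fin 4 → G) (X : (Fin 4 → ℤ) → Subgroup G) (R : RGD cs isCartan 2 T n X), Dat R →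
    (∀ a ∈ T, ∀ b ∈ T, a * b = b * a) → ∀ K : Subgroup G, GG cs isCartan T X = K →
    ∃ (s : Fin 4 → ℤ) (TA : Subgroup G), Tor K B Phi (fun x => X (c x)) ![1, 1, 0, 0] (PP cs X) s TA

theorem torFact : TorFact.{u} := by
  intro G _ _ W _ cs T n X R D hT K hK
  rw [← hK]
  exact ⟨_, _, TorOf.tor D hT⟩

theorem node_big (hSch : Cfsg.Agent.Schreier.Cases.SchFor.{u} @IsKnownSimple')
    (hGW : SylowSp4.Hyps.GW.{u}) (hI : Iface.Intr.{u}) (hIN : IntrNon.{u}) (hMV : MultV.{u})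
    (hNI : CaseM.NI.{u}) : D7.Cases.Node.{u} @Big.{u} := by
  intro G _ C K S hcyc hK
  obtain ⟨F, _, _, a, ha, hF, ⟨e⟩⟩ := hK
  have := C.fin
  have hq : IsPrimePow (2 ^ a) := ⟨2, a, Nat.prime_two.prime, by omega, rfl⟩
  have hF' : Fintype.card F = (2 ^ a) ^ 2 := by
    rw [hF, ← pow_mul, mul_comm a 2, pow_mul]
    norm_num
  have hq2 : 2 < 2 ^ a := by
    calc 2 < 2 ^ 2 := by norm_num
      _ ≤ 2 ^ a := Nat.pow_le_pow_right (by norm_num) ha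
  have hchar : CharP F 2 := by
    obtain ⟨p, hp⟩ := CharP.exists F
    have : Fact p.Prime := ⟨CharP.char_is_prime F p⟩
    have h1 : p ∣ Fintype.card F := (CharP.cast_eq_zero_iff F p _).1 (Nat.cast_card_eq_zero F)
    rw [hF', ← pow_mul] at h1
    have h2 : p = 2 := (Nat.prime_dvd_prime_iff_eq Fact.out Nat.prime_two).1 (Nat.Prime.dvd_of_dvd_pow Fact.out h1)
    rwa [h2] at hp
  have hφ : ∀ x, iterateFrobenius F 2 a x = x ^ 2 ^ a := fun x => iterateFrobenius_def 2 a x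
  have hqq : ∀ t : F, (t ^ 2 ^ a) ^ 2 ^ a = t := fun t => by
    rw [← pow_mul, ← pow_two, ← hF']
    exact FiniteField.pow_card t
  let cs := CoxeterMatrix.F₄.toCoxeterSystem
  obtain ⟨t, T, m, z, V, A⟩ := exists_all C S hcyc cs hφ hqq hq hq2 hF' e.symm
  obtain ⟨s, TA, hT⟩ := torFact G _ cs _ _ _ (rgdG (rgd cs hφ hqq 2) e.symm) A.kx.dat A.kx.Tab K A.kx.gg
  have hcρ : c ![1, 1, 0, 0] = rho := DFour.c_rho
  have hb := base A hq hF'
  refine hb.false_of C hSch hGW hI hIN hMV hNI hT (fun x hx hx1 => ?_) (z := z) ?_ A.out.sw.z1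
    (fun ht => tform_of A.out.phi ht)
  · simp only [hcρ] at hx ⊢
    exact cen A hq hF' hx hx1
  · simp only [hcρ]
    exact A.out.sw.zZ

end Cfsg.Agent.OddHalf.D7Tw.Node
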